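import Cfsg.Agent.Lib.Known.ClassSquare.Class

/-!
# Unitriangular matrices for the class square theorem
-/

set_option autoImplicit false

namespace CfsgLib.Known.ClassSquare

open Matrix

universe u

variable {F : Type u} [Field F] {k : ℕ}

/-- `x * y` of upper unitriangular matrices -/
theorem UpperM.mul {x y : Matrix (Fin k) (Fin k) F} (hx : UpperM x) (hy : UpperM y) : UpperM (x * y) := by
  refine ⟨fun i j hij => ?_, fun i => ?_⟩
  · rw [Matrix.mul_apply]
    refine Finset.sum_eq_zero fun l _ => ?_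
    by_cases h : l < i
    · rw [hx.1 i l h, zero_mul]
    · rw [hy.1 l j (lt_of_lt_of_le hij (not_lt.1 h)), mul_zero]
  · rw [Matrix.mul_apply, Finset.sum_eq_single i, hx.2, hy.2, one_mul]
    · intro l _ hl
      rcases lt_or_gt_of_ne hl with h | h
      · rw [hx.1 i l h, zero_mul]
      · rw [hy.1 l i h, mul_zero]
    · simp

theorem upperM_one : UpperM (1 : Matrix (Fin k) (Fin k) F) :=
  ⟨fun i j h => Matrix.one_apply_ne h.ne', fun i => Matrix.one_apply_eq i⟩

theorem lowerM_one : LowerM (1 : Matrix (Fin k) (Fin k) F) :=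
  ⟨fun i j h => Matrix.one_apply_ne h.ne, fun i => Matrix.one_apply_eq i⟩

theorem lowerM_iff {x : Matrix (Fin k) (Fin k) F} : LowerM x ↔ UpperM xᵀ :=
  ⟨fun h => ⟨fun i j hij => h.1 j i hij, h.2⟩, fun h => ⟨fun i j hij => h.1 j i hij, h.2⟩⟩

theorem LowerM.mul {x y : Matrix (Fin k) (Fin k) F} (hx : LowerM x) (hy : LowerM y) : LowerM (x * y) := by
  rw [lowerM_iff, Matrix.transpose_mul]
  exact (lowerM_iff.1 hy).mul (lowerM_iff.1 hx)

/-- superdiagonal entries add -/
theorem UpperM.super_mul {x y : Matrix (Fin k) (Fin k) F} (hx : UpperM x) (hy : UpperM y) {i j : Fin k}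
    (hij : (j : ℕ) = i + 1) : (x * y) i j = x i j + y i j := by
  have hne : i ≠ j := fun h => by rw [h] at hij; omega
  rw [Matrix.mul_apply, Finset.sum_eq_add_of_mem i j (Finset.mem_univ _) (Finset.mem_univ _) hne, hx.2, hy.2,
    one_mul, mul_one, add_comm]
  intro l _ hl
  by_cases h : l < i
  · rw [hx.1 i l h, zero_mul]
  · have h1 : (i : ℕ) < l := lt_of_le_of_ne (not_lt.1 h) (fun e => hl.1 (Fin.ext e.symm))
    have h2 : (l : ℕ) ≠ j := fun e => hl.2 (Fin.ext e)
    rw [hy.1 l j (show (j : ℕ) < l by omega), mul_zero]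

theorem upperM_transvection {a b : Fin k} (h : a < b) (t : F) :
    UpperM (Matrix.SpecialLinearGroup.transvection h.ne t).1 := by
  refine ⟨fun i j hij => ?_, fun i => ?_⟩ <;>
    simp only [Matrix.SpecialLinearGroup.transvection, Matrix.transvection, Matrix.add_apply, Matrix.single_apply,
      Matrix.one_apply]
  · rw [if_neg hij.ne', if_neg (fun e => by obtain ⟨rfl, rfl⟩ := e; exact absurd hij (lt_asymm h)), add_zero]
  · rw [if_pos trivial, if_neg (fun e => h.ne (e.1.trans e.2.symm)), add_zero]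

theorem lowerM_transvection {a b : Fin k} (h : b < a) (t : F) :
    LowerM (Matrix.SpecialLinearGroup.transvection h.ne' t).1 := by
  refine ⟨fun i j hij => ?_, fun i => ?_⟩ <;>
    simp only [Matrix.SpecialLinearGroup.transvection, Matrix.transvection, Matrix.add_apply, Matrix.single_apply,
      Matrix.one_apply]
  · rw [if_neg hij.ne, if_neg (fun e => by obtain ⟨rfl, rfl⟩ := e; exact absurd hij (lt_asymm h)), add_zero]
  · rw [if_pos trivial, if_neg (fun e => h.ne (e.2.trans e.1.symm)), add_zero]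

theorem pow_band {x : Matrix (Fin k) (Fin k) F} (hx : UpperM x) : ∀ (m : ℕ),
    (∀ i j : Fin k, (j : ℕ) < i + m → ((x - 1) ^ m) i j = 0) ∧
      ((∀ i j : Fin k, (j : ℕ) = i + 1 → x i j ≠ 0) → ∀ i j : Fin k, (j : ℕ) = i + m → ((x - 1) ^ m) i j ≠ 0) := by
  intro m
  induction m with
  | zero =>
    refine ⟨fun i j h => ?_, fun _ i j h => ?_⟩
    · rw [pow_zero, Matrix.one_apply_ne]; intro e; subst e; omega
    · obtain rfl : j = i := Fin.ext (by omega)
      rw [pow_zero, Matrix.one_apply_eq]; exact one_ne_zero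
  | succ m ih =>
    have hN : ∀ l j : Fin k, (j : ℕ) < l + 1 → (x - 1) l j = 0 := fun l j h => by
      rcases Nat.lt_or_ge (j : ℕ) l with h' | h'
      · rw [Matrix.sub_apply, hx.1 l j h', Matrix.one_apply_ne (fun e => by subst e; omega), sub_zero]
      · obtain rfl : j = l := Fin.ext (by omega)
        rw [Matrix.sub_apply, hx.2, Matrix.one_apply_eq, sub_self]
    refine ⟨fun i j h => ?_, fun hs i j h => ?_⟩
    · rw [pow_succ, Matrix.mul_apply]
      refine Finset.sum_eq_zero fun l _ => ?_
      by_cases hl : (l : ℕ) < i + m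
      · rw [ih.1 i l hl, zero_mul]
      · rw [hN l j (by omega), mul_zero]
    · rw [pow_succ, Matrix.mul_apply, Finset.sum_eq_single (⟨(i : ℕ) + m, by omega⟩ : Fin k)]
      · refine mul_ne_zero (ih.2 hs i _ rfl) ?_
        rw [Matrix.sub_apply, Matrix.one_apply_ne (fun e => by have := congrArg Fin.val e; simp at this; omega),
          sub_zero]
        exact hs _ j (by simp; omega)
      · intro l _ hl
        have : (l : ℕ) ≠ i + m := fun e => hl (Fin.ext e)
        by_cases hl' : (l : ℕ) < i + m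
        · rw [ih.1 i l hl', zero_mul]
        · rw [hN l j (by omega), mul_zero]
      · simp

/-- nonzero superdiagonal gives a regular unipotent -/
theorem UpperM.regM {x : Matrix (Fin (k + 1)) (Fin (k + 1)) F} (hx : UpperM x)
    (hs : ∀ i j : Fin (k + 1), (j : ℕ) = i + 1 → x i j ≠ 0) : RegM x := by
  refine ⟨Matrix.ext fun i j => (pow_band hx (k + 1)).1 i j (by have := j.2; omega), fun h => ?_⟩
  have := (pow_band hx k).2 hs 0 (Fin.last k) (by simp)
  rw [show k + 1 - 1 = k by omega] at h
  rw [h] at this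
  exact this rfl

/-- a signed antidiagonal element reverses transvections -/
theorem exists_flip : ∃ n : Matrix.SpecialLinearGroup (Fin (k + 1)) F, ∀ (a b : Fin (k + 1)) (h : a ≠ b) (t : F),
    ∃ t', n * Matrix.SpecialLinearGroup.transvection h t * n⁻¹ =
      Matrix.SpecialLinearGroup.transvection (Fin.rev_injective.ne h) t' := by
  classical
  let σ : Equiv.Perm (Fin (k + 1)) := Fin.revPerm
  let P : Matrix (Fin (k + 1)) (Fin (k + 1)) F := σ.toPEquiv.toMatrix
  have hP : P.det ≠ 0 := by
    show (Matrix.det σ.toPEquiv.toMatrix : F) ≠ 0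
    rw [Matrix.det_permutation]
    rcases Int.units_eq_one_or (Equiv.Perm.sign σ) with e | e <;> rw [e] <;> simp
  let c : Fin (k + 1) → F := Function.update 1 0 (P.det)⁻¹
  have hc : ∀ i, c i ≠ 0 := fun i => by
    by_cases hi : i = 0
    · subst hi; simp [c, hP]
    · simp [c, hi]
  let n : Matrix.SpecialLinearGroup (Fin (k + 1)) F := ⟨Matrix.diagonal c * P, by
    rw [Matrix.det_mul, Matrix.det_diagonal, Finset.prod_update_of_mem (Finset.mem_univ _)]
    simp [hP]⟩
  refine ⟨n, fun a b h t => ⟨c a.rev * t / c b.rev, ?_⟩⟩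
  rw [mul_inv_eq_iff_eq_mul]
  refine Subtype.ext ?_
  show Matrix.diagonal c * P * Matrix.transvection a b t =
    Matrix.transvection a.rev b.rev (c a.rev * t / c b.rev) * (Matrix.diagonal c * P)
  simp only [Matrix.transvection, Matrix.mul_add, Matrix.add_mul, Matrix.mul_one, Matrix.one_mul, mul_assoc]
  congr 1
  ext i j
  rw [Matrix.diagonal_mul, PEquiv.toMatrix_toPEquiv_mul, Matrix.mul_apply]
  rw [Finset.sum_eq_single b.rev]
  · rw [Matrix.diagonal_mul]
    simp only [Matrix.submatrix_apply, Matrix.single_apply, id_eq, P, σ, PEquiv.toMatrix_apply,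
      Equiv.toPEquiv_apply, Fin.revPerm_apply, Option.mem_some_iff, Fin.rev_rev]
    by_cases h1 : i = a.rev <;> by_cases h2 : b = j
    · subst h1 h2; simp; field_simp [hc b.rev]
    · subst h1; simp [h2]
    · have h1' : a ≠ i.rev := fun e => h1 (by rw [e, Fin.rev_rev])
      simp [h1', Ne.symm h1]
    · have h1' : a ≠ i.rev := fun e => h1 (by rw [e, Fin.rev_rev])
      simp [h1', Ne.symm h1]
  · intro l _ hl
    rw [Matrix.single_apply, if_neg (fun e => hl e.2.symm), zero_mul]
  · simp

/-- conjugation by a diagonal matrix is multiplicative -/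
theorem conjDiag_mul (c : Fˣ) (x y : Matrix.SpecialLinearGroup (Fin (k + 1)) F) :
    conjDiag c (x * y) = conjDiag c x * conjDiag c y := by
  refine Subtype.ext ?_
  have hDD : Matrix.diagonal (Function.update 1 0 ((c : F))⁻¹) * Matrix.diagonal (Function.update 1 0 (c : F)) =
      (1 : Matrix (Fin (k + 1)) (Fin (k + 1)) F) := by
    rw [Matrix.diagonal_mul_diagonal, ← Matrix.diagonal_one]
    congr 1; funext i
    by_cases hi : i = 0
    · subst hi; simp
    · simp [hi]
  show _ * (x.1 * y.1) * _ = _ * x.1 * _ * (_ * y.1 * _)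
  simp only [mul_assoc]
  congr 2
  rw [← mul_assoc (Matrix.diagonal (Function.update 1 0 ((c : F))⁻¹)), hDD, one_mul]

theorem conjDiag_transvection (c : Fˣ) {a b : Fin (k + 1)} (h : a ≠ b) (t : F) :
    conjDiag c (Matrix.SpecialLinearGroup.transvection h t) = Matrix.SpecialLinearGroup.transvection h
      ((((c : Fˣ) ^ ((if a = 0 then (1 : ℤ) else 0) - (if b = 0 then 1 else 0)) : Fˣ) : F) * t) := by
  refine Subtype.ext ?_
  ext i j
  show (Matrix.diagonal (Function.update 1 0 (c : F)) * Matrix.transvection a b t *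
    Matrix.diagonal (Function.update 1 0 ((c : F))⁻¹) : Matrix (Fin (k + 1)) (Fin (k + 1)) F) i j =
      Matrix.transvection a b _ i j
  rw [Matrix.mul_diagonal, Matrix.diagonal_mul]
  simp only [Matrix.transvection, Matrix.add_apply, Matrix.single_apply, Matrix.one_apply, Function.update_apply,
    Pi.one_apply]
  by_cases h1 : a = i ∧ b = j
  · obtain ⟨rfl, rfl⟩ := h1
    simp only [and_self, if_true, if_neg h, zero_add]
    by_cases ha : a = 0 <;> by_cases hb : b = 0
    · exact absurd (ha.trans hb.symm) h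
    · simp [ha, hb]
    · simp [ha, hb, mul_comm]
    · simp [ha, hb]
  · rw [if_neg h1, if_neg h1]
    by_cases h2 : i = j
    · subst h2; by_cases hi : i = 0 <;> simp [hi]
    · simp [h2]

end CfsgLib.Known.ClassSquare
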