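import Cfsg.Agent.Lib.Known.ClassSquare.ChevSys
import Cfsg.Agent.Lib.Known.ClassSquare.Mat
import Cfsg.Agent.Lib.Known.RegularTorus
import Cfsg.Agent.Lib.Recog.CTBond.Step
import Cfsg.Agent.Lib.Lie.Rel.BorelTits

/-!
# Levi subgroups of type `A` in Chevalley groups
-/

set_option autoImplicit false

namespace CfsgLib.Known.ClassSquare.Chev

open Cfsg.Lie (ChevalleyDatum)
open CfsgLib.Lie.Chev CfsgLib.Lie.Chev.TwoGen
open scoped commutatorElement

universe u v

/-- tables of a Levi subgroup with a cocharacter, diagonal cocharacters and a Weyl word -/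
structure Spec where
  blocks : List (List (List (ℕ × ℤ)))
  m : List ℤ
  dv : List (List ℤ)
  word : List ℕ

namespace Spec

variable (P : Spec)

/-- the index of the blocks -/
abbrev Bk : Type := Fin P.blocks.length

/-- the size of a block, less two -/
abbrev nb (b : P.Bk) : ℕ := (P.blocks.getD b []).length - 2

/-- the indices of a block -/
abbrev Ix (b : P.Bk) : Type := Fin (P.nb b + 2)

/-- the root of an entry -/
def rt (b : P.Bk) (a c : P.Ix b) : ℕ := ((((P.blocks.getD b []).getD a []).getD c (0, 0))).1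

/-- the sign of an entry -/
def sg (b : P.Bk) (a c : P.Ix b) : ℤ := ((((P.blocks.getD b []).getD a []).getD c (0, 0))).2

/-- the diagonal cocharacter of a block -/
def dvec (b : P.Bk) : List ℤ := P.dv.getD b []

/-- the places of the simple roots -/
abbrev Pl : Type := (b : P.Bk) × Fin (P.nb b + 1)

/-- the simple root at a place -/
def srt (p : P.Pl) : ℕ := P.rt p.1 p.2.castSucc p.2.succ

variable (D : ChevalleyDatum) (X : Aux)

/-- entries -/
def EntryOK : Prop :=
  ∀ (b : P.Bk) (a c : P.Ix b), a ≠ c → P.rt b a c < D.nroots ∧ (P.sg b a c = 1 ∨ P.sg b a c = -1) ∧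
    (a < c ↔ half D ≤ P.rt b a c) ∧ TwoGen.dot D P.m (P.rt b a c) = 0

/-- commutators inside a block -/
def CommOK : Prop :=
  ∀ (b : P.Bk) (a c d : P.Ix b), a ≠ c → c ≠ d → a ≠ d → P.rt b a c ≠ P.rt b c d ∧
    P.rt b a c ≠ D.neg (P.rt b c d) ∧ ∃ t ∈ [(P.rt b a d, (1 : ℤ), 1, 1), (P.rt b a d, (-1 : ℤ), 1, 1)],
      D.commTerms (P.rt b c d) (P.rt b a c) = [t] ∧ -t.2.1 * (P.sg b a c * P.sg b c d) = P.sg b a d

/-- commuting entries -/
def TrivOK : Prop :=
  ∀ (b : P.Bk) (a c d e : P.Ix b), a ≠ c → d ≠ e → c ≠ d → a ≠ e → P.rt b a c = P.rt b d e ∨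
    (P.rt b d e ≠ P.rt b a c ∧ P.rt b d e ≠ D.neg (P.rt b a c) ∧
      D.commTerms (P.rt b a c) (P.rt b d e) = [])

/-- different blocks commute -/
def CrossOK : Prop :=
  ∀ (b b' : P.Bk) (a c : P.Ix b) (d e : P.Ix b'), b ≠ b' → a ≠ c → d ≠ e → P.rt b' d e ≠ P.rt b a c ∧
    P.rt b' d e ≠ D.neg (P.rt b a c) ∧ D.commTerms (P.rt b a c) (P.rt b' d e) = []

/-- blocks of size two -/
def BaseOK : Prop :=
  ∀ b : P.Bk, P.nb b = 0 → ∃ i : Fin D.rank, P.rt b 0 1 = D.simple i ∧ P.rt b 1 0 = D.neg (D.simple i) ∧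
    P.sg b 0 1 = 1 ∧ P.sg b 1 0 = 1

/-- the roots outside the blocks -/
def SplitOK : Prop :=
  ∀ r : Fin D.nroots, -8 < TwoGen.dot D P.m r ∧ TwoGen.dot D P.m r < 8 ∧
    (0 < TwoGen.dot D P.m r → half D ≤ (r : ℕ)) ∧ (TwoGen.dot D P.m r < 0 → (r : ℕ) < half D) ∧
    (TwoGen.dot D P.m r = 0 → ∃ (b : P.Bk) (a c : P.Ix b), a ≠ c ∧ P.rt b a c = r)

/-- the diagonal cocharacters -/
def DiagOK : Prop :=
  ∀ (b b' : P.Bk) (a c : P.Ix b'), a ≠ c → TwoGen.dot D (P.dvec b) (P.rt b' a c) =
    if b = b' then (if a = 0 then (1 : ℤ) else 0) - (if c = 0 then 1 else 0) else 0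

/-- pull a cocharacter back along a word -/
def pull : List ℕ → List ℤ → List ℤ
  | [], v => v
  | i :: L, v => pull L ((List.range D.rank).map fun k =>
      v.getD k 0 - if k = i then TwoGen.dot D v (D.simple i) else 0)

/-- the word inverts the cocharacter and permutes the simple roots of the blocks -/
def WordOK : Prop :=
  (∀ i ∈ P.word, i < D.rank) ∧ pull D P.word P.m = P.m.map (fun z => -z) ∧
    (∀ p : P.Pl, ∃ p' : P.Pl, wp X P.word (P.srt p) = P.srt p') ∧
    ∀ p p' : P.Pl, P.srt p = P.srt p' → p = p'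

instance : Decidable (P.EntryOK D) := by unfold EntryOK; infer_instance
instance : Decidable (P.CommOK D) := by unfold CommOK; infer_instance
instance : Decidable (P.TrivOK D) := by unfold TrivOK; infer_instance
instance : Decidable (P.CrossOK D) := by unfold CrossOK; infer_instance
instance : Decidable (P.BaseOK D) := by unfold BaseOK; infer_instance
instance : Decidable (P.SplitOK D) := by unfold SplitOK; infer_instance
instance : Decidable (P.DiagOK D) := by unfold DiagOK; infer_instance
instance : Decidable (P.WordOK D X) := by unfold WordOK; infer_instance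

/-- all checks -/
structure OK : Prop where
  entry : P.EntryOK D
  comm : P.CommOK D
  triv : P.TrivOK D
  cross : P.CrossOK D
  base : P.BaseOK D
  split : P.SplitOK D
  diag : P.DiagOK D
  wordOK : P.WordOK D X

end Spec

variable {D : ChevalleyDatum} {X : Aux} {F : Type u} [Field F] {G : Type v} [Group G] (R : Rel D X F G)
  {P : Spec} (hP : P.OK D X)

include R in
theorem xe_commute {r s : ℕ} (hr : r < D.nroots) (hs : s < D.nroots) (h1 : s ≠ r) (h2 : s ≠ D.neg r)
    (h : D.commTerms r s = []) (t u : F) : Commute (R.xe r t) (R.xe s u) := by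
  have e := R.xe_comm r s t u hr hs h1 h2
  simp only [ChevalleyDatum.commWord, h, List.map_nil, List.prod_nil, mul_one] at e
  exact e.symm

include R in
theorem xe_commutator {r s k : ℕ} {c : ℤ} (hr : r < D.nroots) (hs : s < D.nroots) (h1 : s ≠ r)
    (h2 : s ≠ D.neg r) (h : D.commTerms r s = [(k, c, 1, 1)]) (t u : F)
    (hc : Commute (R.xe k ((c : F) * (-t) * u)) (R.xe s u))
    (hc' : Commute (R.xe k ((c : F) * (-t) * u)) (R.xe r t)) :
    ⁅R.xe s u, R.xe r t⁆ = R.xe k ((c : F) * (-t) * u) := by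
  have e := R.xe_comm r s t u hr hs h1 h2
  simp only [ChevalleyDatum.commWord, h, List.map_cons, List.map_nil, List.prod_cons, List.prod_nil, mul_one,
    pow_one] at e
  rw [commutatorElement_def, e, mul_assoc (R.xe r t) (R.xe s u), ← hc.eq, ← mul_assoc (R.xe r t),
    ← hc'.eq, mul_assoc, mul_assoc, mul_assoc, mul_inv_cancel_left, mul_inv_cancel, mul_one]

/-- the root element at an entry -/
def ent (P : Spec) (b : P.Bk) (a c : P.Ix b) (t : F) : G := R.xe (P.rt b a c) ((P.sg b a c : F) * t)

include hP in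
theorem ent_triv (b : P.Bk) (a c d e : P.Ix b) (h1 : a ≠ c) (h2 : d ≠ e) (h3 : c ≠ d) (h4 : a ≠ e) (t u : F) :
    Commute (ent R P b a c t) (ent R P b d e u) := by
  unfold ent
  rcases hP.triv b a c d e h1 h2 h3 h4 with h | ⟨g1, g2, g3⟩
  · rw [h, commute_iff_eq, R.xe_add', R.xe_add', add_comm]
  · exact xe_commute R (hP.entry b a c h1).1 (hP.entry b d e h2).1 g1 g2 g3 _ _

include hP in
/-- the elementary family of a block of size at least three -/
noncomputable def blockElem (b : P.Bk) (hb : 3 ≤ P.nb b + 2) : CfsgLib.Known.SLn.Elem (P.Ix b) F G where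
  x a c t := ent R P b a c t
  add a c _ t u := by
    show R.xe _ _ * R.xe _ _ = R.xe _ _
    rw [mul_add]
    exact R.xe_add' _ _ _
  comm a c d hac hcd had t u := by
    obtain ⟨h1, h2, q, hq, hterms, hsign⟩ := hP.comm b a c d hac hcd had
    obtain ⟨N, hq'⟩ : ∃ N : ℤ, q = (P.rt b a d, N, 1, 1) := by
      simp only [List.mem_cons, List.not_mem_nil, or_false] at hq
      rcases hq with rfl | rfl <;> exact ⟨_, rfl⟩
    subst hq'
    have hval : (N : F) * (-((P.sg b c d : F) * u)) * ((P.sg b a c : F) * t) = (P.sg b a d : F) * (t * u) := by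
      have e := congrArg (fun z : ℤ => (z : F)) hsign
      push_cast at e
      linear_combination (t * u) * e
    have k1 : Commute (ent R P b a d (t * u)) (ent R P b a c t) :=
      ent_triv R hP b a d a c had hac had.symm hac _ _
    have k2 : Commute (ent R P b a d (t * u)) (ent R P b c d u) :=
      ent_triv R hP b a d c d had hcd hcd.symm had _ _
    show ⁅R.xe _ _, R.xe _ _⁆ = R.xe _ _
    rw [xe_commutator R (hP.entry b c d hcd).1 (hP.entry b a c hac).1 h1 h2 hterms _ _
      (by rw [hval]; exact k1) (by rw [hval]; exact k2), hval]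
  triv a c d e h1 h2 h3 h4 := ent_triv R hP b a c d e h1 h2 h3 h4
  third := CfsgLib.Classical.exists_third hb

variable [Finite F]

include hP in
theorem exists_blockHom (b : P.Bk) : ∃ f : Matrix.SpecialLinearGroup (P.Ix b) F →* G,
    ∀ (a c : P.Ix b) (h : a ≠ c) (t : F),
      f (Matrix.SpecialLinearGroup.transvection h t) = ent R P b a c t := by
  by_cases hb : P.nb b = 0
  · have key : ∀ (k : ℕ) (hk : k = 0) (r : Fin (k + 2) → Fin (k + 2) → ℕ) (s : Fin (k + 2) → Fin (k + 2) → ℤ)
        (i : Fin D.rank), r 0 1 = D.simple i → r 1 0 = D.neg (D.simple i) → s 0 1 = 1 → s 1 0 = 1 →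
        ∃ f : Matrix.SpecialLinearGroup (Fin (k + 2)) F →* G, ∀ (a c : Fin (k + 2)) (h : a ≠ c) (t : F),
          f (Matrix.SpecialLinearGroup.transvection h t) = R.xe (r a c) ((s a c : F) * t) := by
      rintro k rfl r s i e1 e2 e3 e4
      refine ⟨R.slHom (R.sroot i), fun a c h t => ?_⟩
      fin_cases a <;> fin_cases c
      · exact absurd rfl h
      · simp only [Fin.isValue, Fin.mk_one, Fin.zero_eta, e1, e3, Int.cast_one, one_mul]
        refine Eq.trans ?_ (R.slMap_slX (R.sroot i) t)
        show R.slMap _ _ = R.slMap _ _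
        congr 1
        refine Subtype.ext (Matrix.ext fun p q => ?_)
        rw [Rel.slX_val]
        fin_cases p <;> fin_cases q <;>
          simp [Matrix.SpecialLinearGroup.transvection, Matrix.transvection, Matrix.single]
      · simp only [Fin.isValue, Fin.mk_one, Fin.zero_eta, e2, e4, Int.cast_one, one_mul]
        refine slHom_lower' R i t _ (Matrix.ext fun p q => ?_)
        fin_cases p <;> fin_cases q <;>
          simp [Matrix.SpecialLinearGroup.transvection, Matrix.transvection, Matrix.single]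
      · exact absurd rfl h
    obtain ⟨i, e1, e2, e3, e4⟩ := hP.base b hb
    exact key _ hb (P.rt b) (P.sg b) i e1 e2 e3 e4
  · exact CfsgLib.CTBond.exists_hom (by omega) (blockElem R hP b (by omega))

/-- the homomorphism of a block -/
noncomputable def blockHom (b : P.Bk) : Matrix.SpecialLinearGroup (P.Ix b) F →* G :=
  (exists_blockHom R hP b).choose

theorem blockHom_tv (b : P.Bk) (a c : P.Ix b) (h : a ≠ c) (t : F) :
    blockHom R hP b (Matrix.SpecialLinearGroup.transvection h t) = ent R P b a c t :=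
  (exists_blockHom R hP b).choose_spec a c h t

theorem blockHom_range_le (b : P.Bk) (H : Subgroup G)
    (h : ∀ (a c : P.Ix b), a ≠ c → ∀ t, ent R P b a c t ∈ H) (x : Matrix.SpecialLinearGroup (P.Ix b) F) :
    blockHom R hP b x ∈ H := by
  have e : H.comap (blockHom R hP b) = ⊤ := by
    refine CfsgLib.Classical.closure_transvection_eq_top _ fun a c hac t => ?_
    rw [Subgroup.mem_comap, blockHom_tv]
    exact h a c hac t
  exact Subgroup.mem_comap.1 (e ▸ Subgroup.mem_top x : x ∈ H.comap (blockHom R hP b))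

theorem blockHom_commute (b b' : P.Bk) (hbb : b ≠ b') (x : Matrix.SpecialLinearGroup (P.Ix b) F)
    (y : Matrix.SpecialLinearGroup (P.Ix b') F) : Commute (blockHom R hP b x) (blockHom R hP b' y) := by
  have h := blockHom_range_le R hP b' (Subgroup.centralizer {blockHom R hP b x}) (fun d e hde u => ?_) y
  · exact ((Subgroup.mem_centralizer_singleton_iff.1 h)).symm
  rw [Subgroup.mem_centralizer_singleton_iff]
  have h2 := blockHom_range_le R hP b (Subgroup.centralizer {ent R P b' d e u}) (fun a c hac t => ?_) x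
  · exact (Subgroup.mem_centralizer_singleton_iff.1 h2).symm
  rw [Subgroup.mem_centralizer_singleton_iff]
  obtain ⟨g1, g2, g3⟩ := hP.cross b b' a c d e hbb hac hde
  exact xe_commute R (hP.entry b a c hac).1 (hP.entry b' d e hde).1 g1 g2 g3 _ _

/-- the homomorphism of the Levi subgroup -/
noncomputable def leviHom : (∀ b : P.Bk, Matrix.SpecialLinearGroup (P.Ix b) F) →* G :=
  MonoidHom.noncommPiCoprod (blockHom R hP) fun b b' h x y => blockHom_commute R hP b b' h x y

theorem leviHom_single (b : P.Bk) (x : Matrix.SpecialLinearGroup (P.Ix b) F) :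
    leviHom R hP (Pi.mulSingle b x) = blockHom R hP b x := by
  unfold leviHom; exact MonoidHom.noncommPiCoprod_mulSingle _ _ _

theorem leviHom_tv (b : P.Bk) (a c : P.Ix b) (h : a ≠ c) (t : F) :
    leviHom R hP (Pi.mulSingle b (Matrix.SpecialLinearGroup.transvection h t)) = ent R P b a c t := by
  rw [leviHom_single, blockHom_tv]

theorem leviHom_range_le (H : Subgroup G)
    (h : ∀ (b : P.Bk) (a c : P.Ix b), a ≠ c → ∀ t, ent R P b a c t ∈ H)
    (x : ∀ b : P.Bk, Matrix.SpecialLinearGroup (P.Ix b) F) : leviHom R hP x ∈ H := by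
  have : x ∈ (H.comap (leviHom R hP)) := by
    refine Subgroup.pi_mem_of_mulSingle_mem x fun b => ?_
    rw [Subgroup.mem_comap, leviHom_single]
    exact blockHom_range_le R hP b H (h b) _
  exact this

/-- homomorphisms agreeing on transvections agree -/
theorem pi_hom_ext {B : Type} [Fintype B] [DecidableEq B] {n : B → ℕ} {M : Type v} [Group M]
    (f g : (∀ b, Matrix.SpecialLinearGroup (Fin (n b + 2)) F) →* M)
    (h : ∀ (b : B) (a c : Fin (n b + 2)) (hac : a ≠ c) (t : F),
      f (Pi.mulSingle b (Matrix.SpecialLinearGroup.transvection hac t)) =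
        g (Pi.mulSingle b (Matrix.SpecialLinearGroup.transvection hac t))) : f = g := by
  refine MonoidHom.pi_ext fun b x => ?_
  have e : (f.comp (MonoidHom.mulSingle (fun b => Matrix.SpecialLinearGroup (Fin (n b + 2)) F) b)).eqLocus
      (g.comp (MonoidHom.mulSingle (fun b => Matrix.SpecialLinearGroup (Fin (n b + 2)) F) b)) = ⊤ :=
    CfsgLib.Classical.closure_transvection_eq_top _ fun a c hac t => h b a c hac t
  exact (e ▸ Subgroup.mem_top x : x ∈ MonoidHom.eqLocus _ _)

omit [Finite F]

section Dot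

theorem dot_eq_sum (v : List ℤ) (r : ℕ) :
    TwoGen.dot D v r = ∑ i : Fin D.rank, v.getD i 0 * D.cartan i r := by
  rw [Fin.sum_univ_eq_sum_range fun i => v.getD i 0 * D.cartan i r]
  rfl

include R in
theorem dot_coef (v : List ℤ) {r : ℕ} (hr : r < D.nroots) :
    TwoGen.dot D v r = ∑ j ∈ Finset.range D.rank, X.coef j r * TwoGen.dot D v (D.simple j) := by
  simp only [dot_eq_sum, Finset.mul_sum]
  rw [Finset.sum_comm]
  refine Finset.sum_congr rfl fun i _ => ?_
  rw [R.cert.cartan_eq hr i.2, Finset.mul_sum]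
  exact Finset.sum_congr rfl fun j _ => by ring

include R in
theorem dot_term (v : List ℤ) {r s : ℕ} (hr : r < D.nroots) (hs : s < D.nroots) {c : ℕ × ℤ × ℕ × ℕ}
    (hc : c ∈ D.commTerms r s) :
    TwoGen.dot D v c.1 = c.2.2.1 * TwoGen.dot D v r + c.2.2.2 * TwoGen.dot D v s := by
  obtain ⟨h0, -, -, -, h5⟩ := R.cert.commTerms_props hr hs c hc
  rw [dot_coef R v h0, dot_coef R v hr, dot_coef R v hs, Finset.mul_sum, Finset.mul_sum, ← Finset.sum_add_distrib]
  refine Finset.sum_congr rfl fun j hj => ?_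
  rw [h5 j (Finset.mem_range.1 hj)]
  ring

include R in
theorem dot_neg (v : List ℤ) {r : ℕ} (hr : r < D.nroots) :
    TwoGen.dot D v (D.neg r) = - TwoGen.dot D v r := by
  simp only [dot_eq_sum, ← Finset.sum_neg_distrib]
  exact Finset.sum_congr rfl fun i _ => by rw [R.cert.cartan_neg hr i.2, mul_neg]

/-- the roots of positive weight -/
def hiSet (D : ChevalleyDatum) (P : Spec) : Set (Fin D.nroots) := {r | 0 < TwoGen.dot D P.m r}

/-- the roots of negative weight -/
def loSet (D : ChevalleyDatum) (P : Spec) : Set (Fin D.nroots) := {r | TwoGen.dot D P.m r < 0}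

include R hP in
theorem posClosed_hiSet : PosClosed D (hiSet D P) := by
  refine ⟨fun r hr => (hP.split r).2.2.1 hr, fun r hr s hs c hc h => ?_⟩
  obtain ⟨-, ha, hb, -, -⟩ := R.cert.commTerms_props r.2 s.2 c hc
  show 0 < TwoGen.dot D P.m c.1
  rw [dot_term R _ r.2 s.2 hc]
  have hr' : 0 < TwoGen.dot D P.m r := hr
  have hs' : 0 < TwoGen.dot D P.m s := hs
  have : 0 < (c.2.2.1 : ℤ) := by exact_mod_cast ha
  positivity

include hP in
theorem ent_normalizer {T : Set (Fin D.nroots)} (hT : T = hiSet D P ∨ T = loSet D P) (b : P.Bk) (a c : P.Ix b)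
    (hac : a ≠ c) (t : F) : ent R P b a c t ∈ Subgroup.normalizer (R.US T : Set G) := by
  obtain ⟨hlt, -, -, hd⟩ := hP.entry b a c hac
  refine R.xe_mem_normalizer (fun r hr t' u => ?_) _
  refine R.xe_conj_mem (s := ⟨P.rt b a c, hlt⟩) (fun e => ?_) (fun e => ?_) hr (fun d hd' h => ?_) t' u
  · have e' : TwoGen.dot D P.m (r : ℕ) = 0 := by rw [← e]; exact hd
    rcases hT with rfl | rfl <;> simp [hiSet, loSet, e'] at hr
  · have e' : TwoGen.dot D P.m (r : ℕ) = 0 := by
      have := congrArg (fun z : Fin D.nroots => TwoGen.dot D P.m z) e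
      simp only [hd] at this
      rw [show ((R.negF r : Fin D.nroots) : ℕ) = D.neg r from rfl, dot_neg R _ r.2] at this
      omega
    rcases hT with rfl | rfl <;> simp [hiSet, loSet, e'] at hr
  · obtain ⟨-, ha, -, -, -⟩ := R.cert.commTerms_props r.2 hlt d hd'
    have e := dot_term R P.m r.2 hlt hd'
    rw [hd, mul_zero, add_zero] at e
    have ha' : 0 < (d.2.2.1 : ℤ) := by exact_mod_cast ha
    rcases hT with rfl | rfl
    · show 0 < TwoGen.dot D P.m d.1
      rw [e]; exact mul_pos ha' hr
    · show TwoGen.dot D P.m d.1 < 0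
      rw [e]; exact mul_neg_of_pos_of_neg ha' hr

end Dot

section Torus

include R in
theorem dot_pull (v : List ℤ) (L : List ℕ) (hL : ∀ i ∈ L, i < D.rank) (r : Fin D.nroots) :
    wp X L r < D.nroots ∧ TwoGen.dot D v (wp X L r) = TwoGen.dot D (Spec.pull D L v) r := by
  induction L generalizing v with
  | nil => exact ⟨r.2, rfl⟩
  | cons i L ih =>
    have hi : i < D.rank := hL i (List.mem_cons_self ..)
    obtain ⟨hlt, e⟩ := ih ((List.range D.rank).map fun k =>
      v.getD k 0 - if k = i then TwoGen.dot D v (D.simple i) else 0) fun j hj => hL j (List.mem_cons_of_mem _ hj)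
    refine ⟨R.cert.w_lt hi hlt, ?_⟩
    show TwoGen.dot D v (X.w i (wp X L r)) = _
    rw [show Spec.pull D (i :: L) v = Spec.pull D L ((List.range D.rank).map fun k =>
      v.getD k 0 - if k = i then TwoGen.dot D v (D.simple i) else 0) from rfl, ← e]
    rw [dot_coef R v (R.cert.w_lt hi hlt)]
    calc ∑ j ∈ Finset.range D.rank, X.coef j (X.w i (wp X L r)) * TwoGen.dot D v (D.simple j)
        = ∑ j ∈ Finset.range D.rank, (X.coef j (wp X L r) * TwoGen.dot D v (D.simple j) -
            if j = i then D.cartan i (wp X L r) * TwoGen.dot D v (D.simple j) else 0) := by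
          refine Finset.sum_congr rfl fun j hj => ?_
          rw [(R.cert.lin' hi hlt (Finset.mem_range.1 hj)).1]
          split_ifs <;> ring
      _ = _ := by
          rw [Finset.sum_sub_distrib, Finset.sum_ite_eq' (Finset.range D.rank) i, if_pos (Finset.mem_range.2 hi),
            ← dot_coef R v hlt]
          simp only [dot_eq_sum]
          have hg : ∀ k : Fin D.rank, ((List.range D.rank).map fun k : ℕ =>
              v.getD k 0 - if k = i then ∑ l : Fin D.rank, v.getD l 0 * D.cartan l (D.simple i) else 0).getD k 0 =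
              v.getD k 0 - if (k : ℕ) = i then ∑ l : Fin D.rank, v.getD l 0 * D.cartan l (D.simple i) else 0 := by
            intro k
            simp [k.2]
          simp only [hg, sub_mul, Finset.sum_sub_distrib, ite_mul, zero_mul]
          rw [Finset.sum_eq_single (⟨i, hi⟩ : Fin D.rank)
            (fun k _ hk => if_neg fun e => hk (Fin.ext e)) (by simp)
            (f := fun k : Fin D.rank => if (k : ℕ) = i then
              (∑ l : Fin D.rank, v.getD l 0 * D.cartan l (D.simple i)) * D.cartan k (wp X L r) else 0),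
            if_pos rfl]
          ring

include R hP in
theorem dot_word (r : Fin D.nroots) :
    TwoGen.dot D P.m (wp X P.word r) = - TwoGen.dot D P.m r := by
  rw [(dot_pull R P.m P.word hP.wordOK.1 r).2, hP.wordOK.2.1, dot_eq_sum, dot_eq_sum, ← Finset.sum_neg_distrib]
  refine Finset.sum_congr rfl fun i _ => ?_
  rw [← neg_mul]
  congr 1
  simp only [List.getD_eq_getElem?_getD, List.getElem?_map]
  cases P.m[(i : ℕ)]? <;> simp


variable (hgen : SimpleGen R) (hconn : ∀ S : Finset (Fin D.rank), S.Nonempty →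
      (∀ p ∈ S, ∀ k : Fin D.rank, D.cartan p (D.simple k) ≠ 0 → k ∈ S) → S = Finset.univ)
    (hsum : ∀ i : Fin D.rank, ∑ k ∈ Finset.univ.erase i, (D.cartan i (D.simple k)).natAbs ≤ 3)

/-- the torus acts by the roots -/
theorem hT_isMon (τ : Fin D.rank → Fˣ) : R.IsMon ((sys R hgen hconn hsum).hT τ) 1
    fun r => ((∏ i, τ i ^ D.cartan i r : Fˣ) : F) := by
  have key : ∀ s : Finset (Fin D.rank), R.IsMon ((sys R hgen hconn hsum).hT (∏ i ∈ s, Pi.mulSingle i (τ i))) 1
      fun r => ((∏ i ∈ s, τ i ^ D.cartan i r : Fˣ) : F) := by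
    intro s
    induction s using Finset.induction_on with
    | empty => simpa using R.isMon_one
    | @insert a s ha ih =>
      have h := R.isMon_mul (R.isMon_he_simple a (τ a).ne_zero) ih
      have e1 : R.he (D.simple a) (τ a : F) = (sys R hgen hconn hsum).hT (Pi.mulSingle a (τ a)) :=
        ((sys R hgen hconn hsum).hT_single a (τ a)).symm
      rw [e1, ← map_mul ((sys R hgen hconn hsum).hT), mul_one] at h
      rw [Finset.prod_insert ha]
      refine (congrArg (R.IsMon _ 1) (funext fun r => ?_)).mpr h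
      show (((∏ i ∈ insert a s, τ i ^ D.cartan i r) : Fˣ) : F) = (τ a : F) ^ D.cartan a r * _
      rw [Finset.prod_insert ha, Units.val_mul, Units.val_zpow_eq_zpow_val]
  have e := key Finset.univ
  erw [Finset.univ_prod_mulSingle] at e
  exact e

/-- a power of a generator along a cocharacter -/
theorem hT_cochar (g : Fˣ) (v : List ℤ) :
    R.IsMon ((sys R hgen hconn hsum).hT fun i : Fin D.rank => g ^ v.getD i 0) 1
      fun r => ((g ^ TwoGen.dot D v r : Fˣ) : F) := by
  refine (congrArg (R.IsMon _ 1) (funext fun r => ?_)).mpr (hT_isMon R hgen hconn hsum _)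
  rw [dot_eq_sum]
  congr 1
  simp only [← zpow_mul]
  induction (Finset.univ : Finset (Fin D.rank)) using Finset.induction_on with
  | empty => simp
  | @insert a s ha ih => rw [Finset.sum_insert ha, Finset.prod_insert ha, zpow_add, ih]

/-- powers with small exponents -/
theorem zpow_small {g : Fˣ} (hg : 8 ≤ orderOf g) {k : ℤ} (h1 : -8 < k) (h2 : k < 8) (h : g ^ k = 1) : k = 0 := by
  by_contra hk
  have hd := orderOf_dvd_iff_zpow_eq_one.2 h
  have := Int.le_of_dvd (abs_pos.2 hk) ((dvd_abs _ _).2 hd)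
  have h3 : |k| < 8 := abs_lt.2 ⟨h1, h2⟩
  omega

/-- the monomial element of a word -/
noncomputable def wordEl (R : Rel D X F G) : List ℕ → G
  | [] => 1
  | i :: L => R.ne (D.simple i) 1 * wordEl R L

theorem wordEl_isMon : ∀ L : List ℕ, (∀ i ∈ L, i < D.rank) →
    ∃ (σ : Equiv.Perm (Fin D.nroots)) (a : Fin D.nroots → F), R.IsMon (wordEl R L) σ a ∧
      ∀ r : Fin D.nroots, (σ r : ℕ) = wp X L r := by
  intro L
  induction L with
  | nil => exact fun _ => ⟨1, _, R.isMon_one, fun r => rfl⟩
  | cons i L ih =>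
    intro h
    obtain ⟨σ, a, ha, he⟩ := ih fun j hj => h j (List.mem_cons_of_mem _ hj)
    have hi := h i (List.mem_cons_self ..)
    refine ⟨_, _, R.isMon_mul (R.isMon_ne_simple ⟨i, hi⟩ one_ne_zero) ha, fun r => ?_⟩
    rw [Equiv.Perm.mul_apply, R.wperm_apply, he]
    rfl

variable [Fintype F]

include hP hgen hconn hsum in
theorem nonempty_leviData (hF : 9 ≤ Fintype.card F) (hZ : Subgroup.center G = ⊥) :
    Nonempty (LeviData (sys R hgen hconn hsum)) := by
  classical
  obtain ⟨g, hg⟩ := IsCyclic.exists_generator (α := Fˣ)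
  have hord : 8 ≤ orderOf g := by
    rw [orderOf_eq_card_of_forall_mem_zpowers hg, Nat.card_eq_fintype_card, Fintype.card_units]
    omega
  set S := sys R hgen hconn hsum with hS
  set τ : Fin D.rank → Fˣ := fun i => g ^ P.m.getD i 0 with hτ
  have hmon := hT_cochar R hgen hconn hsum g P.m
  set T : G := S.hT τ with hT
  change R.IsMon T 1 _ at hmon
  have hTxe : ∀ (r : Fin D.nroots) (t : F),
      T * R.xe r t = R.xe r ((g ^ TwoGen.dot D P.m r : Fˣ) * t) * T := fun r t =>
    mul_inv_eq_iff_eq_mul.1 ((hmon r).2.2.2 t)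
  have hTent : ∀ (b : P.Bk) (a c : P.Ix b), a ≠ c → ∀ t, ent R P b a c t ∈ Subgroup.centralizer {T} := by
    intro b a c hac t
    obtain ⟨hlt, -, -, hd⟩ := hP.entry b a c hac
    rw [Subgroup.mem_centralizer_singleton_iff]
    have := hTxe ⟨_, hlt⟩ ((P.sg b a c : F) * t)
    simp only [hd, zpow_zero, Units.val_one, one_mul] at this
    exact this.symm
  have hconjS : ∀ (A : Set (Fin D.nroots)), ∀ q ∈ R.US A, T * q * T⁻¹ ∈ R.US A :=
    fun A q hq => Rel.IsMon.conj_mem_US R hmon (fun r hr => hr) hq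
  have hfixP : ∀ q ∈ R.US (hiSet D P), Commute T q → q = 1 := by
    intro q hq hc
    obtain ⟨s, hs0, rfl⟩ := R.exists_oprod_closed (posClosed_hiSet R hP) hq
    have hn := R.cert.nroots_eq
    have hfix : T * R.oprod (half D) (half D) s * T⁻¹ = R.oprod (half D) (half D) s := by
      rw [hc.eq, mul_inv_cancel_right]
    rw [RegularTorus.conj_oprod R hmon
      (fun r => if h : r < D.nroots then ((g ^ TwoGen.dot D P.m r : Fˣ) : F) else 0)
      (fun r => by rw [dif_pos r.2]) s _ _ (by omega)] at hfix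
    have h := R.oprod_inj _ _ _ _ le_rfl (by omega) (congrArg R.θ hfix)
    refine List.prod_eq_one fun x hx => ?_
    obtain ⟨r, hr, rfl⟩ := List.mem_map.1 hx
    rw [List.mem_range'_1] at hr
    have e := h r hr.1 hr.2
    have hlt : r < D.nroots := by omega
    rw [dif_pos hlt] at e
    suffices s r = 0 by rw [this, R.xe_zero]
    by_contra hne
    have h1 : (g ^ TwoGen.dot D P.m r : Fˣ) = 1 := Units.ext (by
      rw [Units.val_one]; exact mul_right_cancel₀ hne (e.trans (one_mul _).symm))
    have h0 := zpow_small hord (hP.split ⟨r, hlt⟩).1 (hP.split ⟨r, hlt⟩).2.1 h1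
    exact hne (hs0 r fun _ hmem => by
      have : (0 : ℤ) < TwoGen.dot D P.m r := hmem
      have h0' : TwoGen.dot D P.m r = 0 := h0
      omega)
  obtain ⟨σ, aw, haw, hσ⟩ := wordEl_isMon R P.word hP.wordOK.1
  set w := wordEl R P.word
  have hwinv : w * T⁻¹ * w⁻¹ = T := by
    have h1 := R.isMon_mul (R.isMon_mul haw (R.isMon_inv hmon)) (R.isMon_inv haw)
    rw [inv_one, mul_one, mul_inv_cancel] at h1
    have h2 := R.isMon_mul h1 (R.isMon_inv hmon)
    rw [inv_one, mul_one] at h2
    have hone : ∀ (r : Fin D.nroots) (t : F),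
        w * T⁻¹ * w⁻¹ * T⁻¹ * R.xe r t * (w * T⁻¹ * w⁻¹ * T⁻¹)⁻¹ = R.xe r t := by
      intro r t
      obtain ⟨h3, -, -, h4⟩ := h2 r
      rw [h4 t, Equiv.Perm.one_apply]
      congr 1
      simp only [Equiv.Perm.one_apply, Equiv.Perm.inv_def]
      set r' := σ.symm r
      have e : TwoGen.dot D P.m r = - TwoGen.dot D P.m r' := by
        rw [← dot_word R hP r', ← hσ r', show σ r' = r from σ.apply_symm_apply r]
      rw [e, zpow_neg, ← Units.val_inv_eq_inv_val]
      have ha := (haw r').1
      field_simp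
    have hmem : w * T⁻¹ * w⁻¹ * T⁻¹ ∈ Subgroup.center G := by
      rw [Subgroup.mem_center_iff]
      intro x
      have hx : x ∈ Subgroup.centralizer {w * T⁻¹ * w⁻¹ * T⁻¹} := by
        have : (⊤ : Subgroup G) ≤ Subgroup.centralizer {w * T⁻¹ * w⁻¹ * T⁻¹} := by
          rw [← R.gen, Subgroup.closure_le]
          rintro _ ⟨r, t, rfl⟩
          rw [SetLike.mem_coe, Subgroup.mem_centralizer_singleton_iff]
          by_cases hr : r < D.nroots
          · exact (mul_inv_eq_iff_eq_mul.1 (hone ⟨r, hr⟩ t)).symm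
          · rw [R.xe_oob r t hr, one_mul, mul_one]
        exact this (Subgroup.mem_top x)
      exact Subgroup.mem_centralizer_singleton_iff.1 hx
    rw [hZ, Subgroup.mem_bot, mul_inv_eq_one] at hmem
    exact hmem
  have hfixN : ∀ q ∈ R.US (loSet D P), Commute T q → q = 1 := by
    intro q hq hc
    have hmem : w * q * w⁻¹ ∈ R.US (hiSet D P) := by
      refine Rel.IsMon.conj_mem_US R haw (fun r hr => ?_) hq
      show 0 < TwoGen.dot D P.m (σ r : ℕ)
      have hr' : TwoGen.dot D P.m r < 0 := hr
      rw [hσ, dot_word R hP r]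
      omega
    have hc' : Commute T (w * q * w⁻¹) := by
      rw [← hwinv]
      exact hc.inv_left.map (MulAut.conj w).toMonoidHom
    exact conj_eq_one_iff.1 (hfixP _ hmem hc')
  have hnorm : ∀ (A : Set (Fin D.nroots)), (A = hiSet D P ∨ A = loSet D P) → ∀ x, ∀ q ∈ R.US A,
      leviHom R hP x * q * (leviHom R hP x)⁻¹ ∈ R.US A := fun A hA x q hq =>
    (Subgroup.mem_normalizer_iff.1 (leviHom_range_le R hP _
      (fun b a c hac t => ent_normalizer R hP hA b a c hac t) x) q).1 hq
  have hblock : ∀ (r : Fin D.nroots), TwoGen.dot D P.m r = 0 → ∀ t : F, ∃ (b : P.Bk) (a c : P.Ix b) (h : a ≠ c)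
      (t' : F), R.xe r t = leviHom R hP (Pi.mulSingle b (Matrix.SpecialLinearGroup.transvection h t')) ∧
        (a < c ↔ half D ≤ (r : ℕ)) := by
    intro r hr t
    obtain ⟨b, a, c, hac, e⟩ := (hP.split r).2.2.2.2 hr
    obtain ⟨-, hsg, hori, -⟩ := hP.entry b a c hac
    refine ⟨b, a, c, hac, (P.sg b a c : F) * t, ?_, by rw [← e]; exact hori⟩
    rw [leviHom_tv R hP b a c hac, ent, e]
    congr 1
    rcases hsg with h | h <;> rw [h] <;> simp
  refine ⟨{
    B := P.Bk
    nb := P.nb
    ι := leviHom R hP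
    τ := τ
    QP := R.US (hiSet D P)
    QN := R.US (loSet D P)
    split_UP := ?_
    split_UN := ?_
    t_comm := fun x => (Subgroup.mem_centralizer_singleton_iff.1 (leviHom_range_le R hP _ hTent x)).symm
    conj_QP := hnorm _ (Or.inl rfl)
    conj_QN := hnorm _ (Or.inr rfl)
    t_QP := hconjS _
    t_QN := hconjS _
    fix_QP := hfixP
    fix_QN := hfixN
    diag := ?_
    invert := ?_ }⟩
  · intro u hu
    have hu' : u ∈ Subgroup.closure (Set.range fun x : Fin D.rank × F => R.xe (D.simple x.1) x.2) := hu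
    refine closure_induction_symm ?hsym ?h1 ?hmul hu'
    case hsym => rintro _ ⟨⟨i, t⟩, rfl⟩; exact ⟨(i, -t), R.xe_neg _ _⟩
    case h1 => exact ⟨1, fun b => upperM_one, 1, one_mem _, by rw [map_one, mul_one]⟩
    case hmul =>
      rintro _ ⟨⟨i, t⟩, rfl⟩ y ⟨x, hx, q, hq, rfl⟩
      by_cases hd : TwoGen.dot D P.m (R.sroot i : ℕ) = 0
      · obtain ⟨b, a, c, hac, t', e, hor⟩ := hblock (R.sroot i) hd t
        refine ⟨Pi.mulSingle b (Matrix.SpecialLinearGroup.transvection hac t') * x, fun b' => ?_, q, hq, ?_⟩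
        · rw [Pi.mul_apply, Matrix.SpecialLinearGroup.coe_mul]
          refine UpperM.mul ?_ (hx b')
          by_cases hb : b' = b
          · subst hb
            rw [Pi.mulSingle_eq_same]
            exact upperM_transvection (hor.2 (R.sroot_pos i)) t'
          · rw [Pi.mulSingle_eq_of_ne hb]
            exact upperM_one
        · show R.xe (D.simple i) t * (leviHom R hP x * q) = _
          rw [show R.xe (D.simple i) t = R.xe (R.sroot i : ℕ) t from rfl, e, map_mul, mul_assoc]
      · have hpos : R.sroot i ∈ hiSet D P := by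
          rcases lt_trichotomy (TwoGen.dot D P.m (R.sroot i : ℕ)) 0 with h | h | h
          · exact absurd ((hP.split (R.sroot i)).2.2.2.1 h) (not_lt.2 (R.sroot_pos i))
          · exact absurd h hd
          · exact h
        refine ⟨x, hx, (leviHom R hP x)⁻¹ * R.xe (D.simple i) t * leviHom R hP x * q, mul_mem ?_ hq, by group⟩
        have := hnorm _ (Or.inl rfl) x⁻¹ _ (R.xe_mem_US hpos t)
        rw [map_inv, inv_inv] at this
        exact this
  · intro u hu
    have hu' : u ∈ Subgroup.closure (Set.range fun x : Fin D.rank × F => R.xe (D.neg (D.simple x.1)) x.2) := hu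
    refine closure_induction_symm ?hsym' ?h1' ?hmul' hu'
    case hsym' => rintro _ ⟨⟨i, t⟩, rfl⟩; exact ⟨(i, -t), R.xe_neg _ _⟩
    case h1' => exact ⟨1, fun b => lowerM_one, 1, one_mem _, by rw [map_one, mul_one]⟩
    case hmul' =>
      rintro _ ⟨⟨i, t⟩, rfl⟩ y ⟨x, hx, q, hq, rfl⟩
      have hni : (R.negF (R.sroot i) : ℕ) < half D :=
        not_le.1 fun h => (R.negF_pos_iff (R.sroot i)).1 h (R.sroot_pos i)
      by_cases hd : TwoGen.dot D P.m (R.negF (R.sroot i) : ℕ) = 0
      · obtain ⟨b, a, c, hac, t', e, hor⟩ := hblock (R.negF (R.sroot i)) hd t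
        refine ⟨Pi.mulSingle b (Matrix.SpecialLinearGroup.transvection hac t') * x, fun b' => ?_,
          R.xe (D.neg (D.simple i)) t * q * (R.xe (D.neg (D.simple i)) t)⁻¹, ?_, ?_⟩
        · rw [Pi.mul_apply, Matrix.SpecialLinearGroup.coe_mul]
          refine LowerM.mul ?_ (hx b')
          by_cases hb : b' = b
          · subst hb
            rw [Pi.mulSingle_eq_same]
            exact lowerM_transvection (lt_of_le_of_ne (not_lt.1 fun h => absurd (hor.1 h) (not_le.2 hni)) hac.symm) t'
          · rw [Pi.mulSingle_eq_of_ne hb]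
            exact lowerM_one
        · rw [show R.xe (D.neg (D.simple i)) t = R.xe (R.negF (R.sroot i) : ℕ) t from rfl, e]
          exact hnorm _ (Or.inr rfl) _ q hq
        · show R.xe (D.neg (D.simple i)) t * (q * leviHom R hP x) = _
          rw [map_mul, ← e, show R.xe (D.neg (D.simple i)) t = R.xe (R.negF (R.sroot i) : ℕ) t from rfl]
          group
      · have hneg : R.negF (R.sroot i) ∈ loSet D P := by
          rcases lt_trichotomy (TwoGen.dot D P.m (R.negF (R.sroot i) : ℕ)) 0 with h | h | h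
          · exact h
          · exact absurd h hd
          · exact absurd ((hP.split (R.negF (R.sroot i))).2.2.1 h) (not_le.2 hni)
        exact ⟨x, hx, R.xe (D.neg (D.simple i)) t * q, mul_mem (R.xe_mem_US hneg t) hq, by group⟩
  · intro c
    set ν : Fin D.rank → Fˣ := ∏ b : P.Bk, fun i : Fin D.rank => c b ^ (P.dvec b).getD i 0
    have hν : ∀ r : Fin D.nroots, ∀ t, S.hT ν * R.xe r t * (S.hT ν)⁻¹ =
        R.xe r (((∏ b : P.Bk, c b ^ TwoGen.dot D (P.dvec b) r : Fˣ) : F) * t) := by
      intro r t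
      rw [(hT_isMon R hgen hconn hsum ν r).2.2.2 t, Equiv.Perm.one_apply]
      congr 2
      refine congrArg Units.val ?_
      simp only [ν, Finset.prod_apply, ← Finset.prod_zpow, ← zpow_mul]
      rw [Finset.prod_comm]
      refine Finset.prod_congr rfl fun b _ => ?_
      rw [dot_eq_sum]
      induction (Finset.univ : Finset (Fin D.rank)) using Finset.induction_on with
      | empty => simp
      | @insert a s ha ih => rw [Finset.sum_insert ha, Finset.prod_insert ha, zpow_add, ih]
    refine ⟨S.hT ν, by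
      show S.hT ν * S.hT τ = S.hT τ * S.hT ν
      exact (map_mul S.hT ν τ).symm.trans ((congrArg S.hT (mul_comm ν τ)).trans (map_mul S.hT τ ν)), ?_⟩
    have key : (MulAut.conj (S.hT ν)).toMonoidHom.comp (leviHom R hP) = (leviHom R hP).comp
        (MonoidHom.mk' (fun (x : ∀ b : P.Bk, Matrix.SpecialLinearGroup (P.Ix b) F) => fun b => conjDiag (c b) (x b))
          fun x y => funext fun b => conjDiag_mul (c b) (x b) (y b)) := by
      refine pi_hom_ext _ _ fun b a d had t => ?_
      obtain ⟨hlt, -, -, -⟩ := hP.entry b a d had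
      have e1 : (fun b' => conjDiag (c b') ((Pi.mulSingle b (Matrix.SpecialLinearGroup.transvection had t) :
            ∀ b : P.Bk, Matrix.SpecialLinearGroup (P.Ix b) F) b')) =
          Pi.mulSingle b (Matrix.SpecialLinearGroup.transvection had
            ((((c b) ^ ((if a = 0 then (1 : ℤ) else 0) - (if d = 0 then 1 else 0)) : Fˣ) : F) * t)) := by
        funext b'
        by_cases hb : b' = b
        · subst hb
          rw [Pi.mulSingle_eq_same, Pi.mulSingle_eq_same, conjDiag_transvection]
        · rw [Pi.mulSingle_eq_of_ne hb, Pi.mulSingle_eq_of_ne hb]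
          refine mul_eq_left.1 (?_ : conjDiag (c b') 1 * conjDiag (c b') 1 = _)
          rw [← conjDiag_mul, one_mul]
      simp only [MonoidHom.comp_apply, MulEquiv.coe_toMonoidHom, MulAut.conj_apply, MonoidHom.mk'_apply]
      rw [e1, leviHom_tv R hP b a d had, leviHom_tv R hP b a d had, ent, ent, hν ⟨_, hlt⟩]
      congr 1
      simp only [hP.diag _ b a d had]
      rw [Finset.prod_eq_single b (fun b' _ hb' => by rw [if_neg hb', zpow_zero]) (by simp), if_pos rfl]
      ring
    exact fun x => DFunLike.congr_fun key x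
  · let el : P.Pl → F → ∀ b : P.Bk, Matrix.SpecialLinearGroup (P.Ix b) F := fun p t =>
      Pi.mulSingle p.1 (Matrix.SpecialLinearGroup.transvection (Fin.castSucc_lt_succ (i := p.2)).ne t)
    have hreg : ∀ (L : List P.Pl) (f : P.Pl → F), L.Nodup → (∀ p, p ∈ L) → (∀ p, f p ≠ 0) →
        ∀ b, RegM ((L.map fun p => el p (f p)).prod b).1 := by
      intro L f hL hall hf b
      have gen : ∀ L : List P.Pl, L.Nodup → UpperM ((L.map fun p => el p (f p)).prod b).1 ∧
          ∀ k : Fin (P.nb b + 1), ((L.map fun p => el p (f p)).prod b).1 k.castSucc k.succ =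
            if (⟨b, k⟩ : P.Pl) ∈ L then f ⟨b, k⟩ else 0 := by
        intro L
        induction L with
        | nil =>
          intro _
          refine ⟨upperM_one, fun k => ?_⟩
          simp [Matrix.one_apply_ne (Fin.castSucc_lt_succ (i := k)).ne]
        | cons p L ih =>
          intro hnd
          rw [List.nodup_cons] at hnd
          obtain ⟨h1, h2⟩ := ih hnd.2
          obtain ⟨b₀, k₀⟩ := p
          simp only [List.map_cons, List.prod_cons, Pi.mul_apply, Matrix.SpecialLinearGroup.coe_mul]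
          by_cases hb : b = b₀
          · subst hb
            have hu : UpperM (el ⟨b, k₀⟩ (f ⟨b, k₀⟩) b).1 := by
              simp only [el, Pi.mulSingle_eq_same]
              exact upperM_transvection Fin.castSucc_lt_succ _
            refine ⟨hu.mul h1, fun k => ?_⟩
            rw [hu.super_mul h1 (by simp), h2 k]
            simp only [el, Pi.mulSingle_eq_same]
            by_cases hk : k = k₀
            · subst hk
              rw [if_neg hnd.1, if_pos (List.mem_cons_self ..), add_zero]
              simp [Matrix.SpecialLinearGroup.transvection, Matrix.transvection,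
                (Fin.castSucc_lt_succ (i := k)).ne]
            · have hne : (⟨b, k⟩ : P.Pl) ≠ ⟨b, k₀⟩ := fun e => hk (eq_of_heq (Sigma.mk.inj_iff.1 e).2)
              have e0 : (Matrix.SpecialLinearGroup.transvection (Fin.castSucc_lt_succ (i := k₀)).ne (f ⟨b, k₀⟩)).1
                  k.castSucc k.succ = 0 := by
                simp [Matrix.SpecialLinearGroup.transvection, Matrix.transvection,
                  (Fin.castSucc_lt_succ (i := k)).ne, Ne.symm hk]
              rw [e0, zero_add]
              simp [hne]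
          · have e : el ⟨b₀, k₀⟩ (f ⟨b₀, k₀⟩) b = 1 := Pi.mulSingle_eq_of_ne hb _
            have hne : ∀ k, (⟨b, k⟩ : P.Pl) ≠ ⟨b₀, k₀⟩ := fun k e => hb (congrArg Sigma.fst e)
            rw [e, Matrix.SpecialLinearGroup.coe_one, one_mul]
            exact ⟨h1, fun k => by rw [h2 k]; simp [hne k]⟩
      obtain ⟨h1, h2⟩ := gen L hL
      refine h1.regM fun i j hij => ?_
      have hi : (i : ℕ) < P.nb b + 1 := by have := j.2; omega
      have ei : i = (⟨i, hi⟩ : Fin (P.nb b + 1)).castSucc := Fin.ext rfl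
      have ej : j = (⟨i, hi⟩ : Fin (P.nb b + 1)).succ := Fin.ext (by simp [hij])
      rw [ei, ej, h2, if_pos (hall _)]
      exact hf _
    choose π hπ using hP.wordOK.2.2.1
    have hπinj : Function.Injective π := fun p p' e => by
      refine hP.wordOK.2.2.2 p p' ?_
      have hlt := fun q : P.Pl => (hP.entry q.1 q.2.castSucc q.2.succ (Fin.castSucc_lt_succ (i := q.2)).ne).1
      have : σ ⟨P.srt p, hlt p⟩ = σ ⟨P.srt p', hlt p'⟩ := Fin.ext (by rw [hσ, hσ, hπ, hπ, e])
      exact congrArg Fin.val (σ.injective this)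
    obtain ⟨ρ, hρ⟩ : ∃ ρ : P.Pl ≃ P.Pl, ∀ p, ρ p = π p :=
      ⟨Equiv.ofBijective π (Finite.injective_iff_bijective.1 hπinj), fun p => rfl⟩
    let fL : P.Pl → F := fun p =>
      (P.sg (ρ.symm p).1 (ρ.symm p).2.castSucc (ρ.symm p).2.succ : F)
    have hlt : ∀ q : P.Pl, P.srt q < D.nroots := fun q =>
      (hP.entry q.1 q.2.castSucc q.2.succ (Fin.castSucc_lt_succ (i := q.2)).ne).1
    have hsg : ∀ q : P.Pl, (P.sg q.1 q.2.castSucc q.2.succ : F) ≠ 0 := fun q => by
      rcases (hP.entry q.1 q.2.castSucc q.2.succ (Fin.castSucc_lt_succ (i := q.2)).ne).2.1 with h | h <;>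
        rw [h] <;> simp
    let f' : P.Pl → F := fun p => (P.sg p.1 p.2.castSucc p.2.succ : F) *
      (aw ⟨P.srt (ρ.symm p), hlt _⟩ * fL p)
    have hw : ∀ p : P.Pl, w * leviHom R hP (el p 1) * w⁻¹ = leviHom R hP (el (ρ p) (f' (ρ p))) := by
      intro p
      simp only [el]
      rw [leviHom_tv, leviHom_tv, ent, ent, mul_one]
      rw [show R.xe (P.rt p.1 p.2.castSucc p.2.succ) (P.sg p.1 p.2.castSucc p.2.succ : F) =
        R.xe ((⟨P.srt p, hlt p⟩ : Fin D.nroots) : ℕ) (P.sg p.1 p.2.castSucc p.2.succ : F) from rfl,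
        (haw ⟨P.srt p, hlt p⟩).2.2.2, hσ]
      show R.xe (wp X P.word (P.srt p)) _ = R.xe (P.srt (ρ p)) _
      rw [hπ p, hρ p]
      congr 1
      have e0 := (hP.entry (π p).1 (π p).2.castSucc (π p).2.succ (Fin.castSucc_lt_succ (i := (π p).2)).ne).2.1
      rw [← hρ p] at e0 ⊢
      simp only [f', fL]
      have e1 : (P.sg (ρ p).1 (ρ p).2.castSucc (ρ p).2.succ : F) * (P.sg (ρ p).1 (ρ p).2.castSucc (ρ p).2.succ : F) = 1 := by
        rcases e0 with h | h <;> rw [h] <;> simp
      rw [← mul_assoc (P.sg (ρ p).1 (ρ p).2.castSucc (ρ p).2.succ : F), e1, one_mul]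
      exact congrArg (fun q : P.Pl => aw ⟨P.srt q, hlt q⟩ * (P.sg q.1 q.2.castSucc q.2.succ : F))
        (ρ.symm_apply_apply p).symm
    refine ⟨w, hwinv, ((Finset.univ : Finset P.Pl).toList.map fun p => el p 1).prod,
      (((Finset.univ : Finset P.Pl).toList.map ρ).map fun p => el p (f' p)).prod,
      hreg _ (fun _ => 1) (Finset.nodup_toList _) (fun p => Finset.mem_toList.2 (Finset.mem_univ p))
        (fun _ => one_ne_zero),
      hreg _ f' ((Finset.nodup_toList _).map ρ.injective)
        (fun p => List.mem_map.2 ⟨ρ.symm p, Finset.mem_toList.2 (Finset.mem_univ _), ρ.apply_symm_apply p⟩)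
        (fun p => mul_ne_zero (hsg p) (mul_ne_zero (haw _).1 (hsg _))), ?_⟩
    rw [map_list_prod, map_list_prod, List.map_map, List.map_map, List.map_map]
    have hc : ∀ L : List G, w * L.prod * w⁻¹ = (L.map fun z => w * z * w⁻¹).prod := fun L =>
      map_list_prod (MulAut.conj w).toMonoidHom L
    rw [hc, List.map_map]
    exact congrArg List.prod (List.map_congr_left fun p _ => hw p)

include hP hgen hconn hsum in
/-- the group is the square of a class -/
theorem exists_square (hF : 9 ≤ Fintype.card F) [Finite G] (hZ : Subgroup.center G = ⊥) :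
    ∃ c : G, ∀ g : G, ∃ x y : G, g = (x * c * x⁻¹) * (y * c * y⁻¹) := by
  obtain ⟨L⟩ := nonempty_leviData R hP hgen hconn hsum hF hZ
  exact L.square_image hF (MonoidHom.id G) Function.surjective_id fun z hz => by
    rw [hZ, Subgroup.mem_bot] at hz; exact hz

end Torus

end CfsgLib.Known.ClassSquare.Chev
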