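import Cfsg.Agent.Lib.Known.ClassSquare.Gauss
import Cfsg.Agent.Lib.Known.ChevGen
import Cfsg.Agent.Lib.Lie.Rel.SL2
import Cfsg.Agent.Lib.Lie.Rel.Bruhat
import Cfsg.Agent.Lib.Lie.TwoGen.Main

/-!
# Chevalley groups as root systems of simple root elements
-/

set_option autoImplicit false

namespace CfsgLib.Known.ClassSquare.Chev

open Cfsg.Lie (ChevalleyDatum)
open CfsgLib.Lie.Chev CfsgLib.Lie.Chev.TwoGen

universe u v

/-- the commutator has exactly one unknown term of degree `(1,1)` -/
def oneTerm (K : List ℕ) (L : List (ℕ × ℤ × ℕ × ℕ)) (c : ℕ) : Bool := linTerm K c 1 L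

/-- the commutator has exactly two terms, of degrees `(1,1)` and `(2,1)` -/
def twoTerm (D : ChevalleyDatum) (L : List (ℕ × ℤ × ℕ × ℕ)) : Option (ℕ × ℕ) :=
  match L with
  | [(a, N, 1, 1), (b, M, 2, 1)] =>
    if indep D a b && (D.commTerms a b).isEmpty && (decide (N = 1) || decide (N = -1)) &&
      (decide (M = 1) || decide (M = -1)) then some (a, b) else none
  | _ => none

/-- one step: the pair and the root found -/
abbrev PStep := ℕ × ℕ × ℕ

/-- a checked step -/
def pstep (D : ChevalleyDatum) (K : List ℕ) (st : PStep) : Option (List ℕ) :=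
  if has K st.1 && has K st.2.1 && indep D st.1 st.2.1 then
    if oneTerm K (D.commTerms st.1 st.2.1) st.2.2 then some (st.2.2 :: K)
    else match twoTerm D (D.commTerms st.1 st.2.1) with
      | some (a, b) => some (a :: b :: K)
      | none => none
  else none

/-- run the steps -/
def prun (D : ChevalleyDatum) : List ℕ → List PStep → Option (List ℕ)
  | K, [] => some K
  | K, st :: rest => match pstep D K st with
    | some K' => prun D K' rest
    | none => none

variable {D : ChevalleyDatum} {X : Aux} {F : Type u} [Field F] {G : Type v} [Group G] (R : Rel D X F G)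

include R in
theorem pstep_spec {H : Subgroup G} {K K' : List ℕ} {st : PStep} (hd : ∃ d : F, d ≠ 0 ∧ d ≠ 1)
    (hK : ∀ r ∈ K, R.Full H r) (h : pstep D K st = some K') : ∀ r ∈ K', R.Full H r := by
  obtain ⟨r, s, c⟩ := st
  unfold pstep at h
  simp only at h
  split at h
  · rename_i hc
    simp only [Bool.and_eq_true, has_iff] at hc
    obtain ⟨⟨hr, hs⟩, hi⟩ := hc
    split at h
    · rename_i hl
      obtain rfl := Option.some.inj h
      intro x hx
      rcases List.mem_cons.1 hx with rfl | hx
      · intro t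
        have := R.full_of_linTerm hK hi hl (hK r hr) (hK s hs 1) t
        rwa [pow_one] at this
      · exact hK x hx
    · split at h
      · rename_i a b he
        obtain rfl := Option.some.inj h
        unfold twoTerm at he
        split at he
        · rename_i a' N b' M hL
          split at he
          · rename_i hcond
            simp only [Option.some.injEq, Prod.mk.injEq] at he
            obtain ⟨rfl, rfl⟩ := he
            simp only [Bool.and_eq_true, Bool.or_eq_true, decide_eq_true_iff, List.isEmpty_iff] at hcond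
            obtain ⟨⟨⟨hab, hnil⟩, hN⟩, hM⟩ := hcond
            have hN' : (N : F) ≠ 0 := by rcases hN with rfl | rfl <;> simp
            have hM' : (M : F) ≠ 0 := by rcases hM with rfl | rfl <;> simp
            have key : ∀ t u : F,
                R.xe a' ((N : F) * t * u) * R.xe b' ((M : F) * (t ^ 2 * u)) ∈ H := by
              intro t u
              have := R.comm_prod_mem hi (hK r hr (-t)) (hK s hs u)
              rw [hL] at this
              simpa [mul_assoc] using this
            obtain ⟨d, hd0, hd1⟩ := hd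
            have hb : R.Full H b' := by
              intro w
              set u := w / ((d - 1) * (M : F))
              have h1 := key d (u / d)
              have h2 := key 1 u
              have h3 := mul_mem (inv_mem h2) h1
              have e1 : (N : F) * d * (u / d) = (N : F) * 1 * u := by field_simp
              rw [e1] at h3
              rw [mul_inv_rev, mul_assoc, inv_mul_cancel_left, ← R.xe_neg, R.xe_add'] at h3
              have e2 : -((M : F) * (1 ^ 2 * u)) + (M : F) * (d ^ 2 * (u / d)) = w := by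
                have : d - 1 ≠ 0 := sub_ne_zero.2 hd1
                simp only [u]; field_simp; ring
              rwa [e2] at h3
            have ha : R.Full H a' := by
              intro w
              have h1 := key (w / (N : F)) 1
              rw [show (N : F) * (w / (N : F)) * 1 = w by field_simp] at h1
              exact (Subgroup.mul_mem_cancel_right H (hb _)).1 h1
            intro x hx
            rcases List.mem_cons.1 hx with rfl | hx
            · exact ha
            rcases List.mem_cons.1 hx with rfl | hx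
            · exact hb
            · exact hK x hx
          · simp at he
        · simp at he
      · simp at h
  · simp at h

include R in
theorem prun_spec {H : Subgroup G} (hd : ∃ d : F, d ≠ 0 ∧ d ≠ 1) : ∀ (steps : List PStep) {K K' : List ℕ},
    (∀ r ∈ K, R.Full H r) → prun D K steps = some K' → ∀ r ∈ K', R.Full H r := by
  intro steps
  induction steps with
  | nil => intro K K' hK h; obtain rfl := Option.some.inj h; exact hK
  | cons st rest ih =>
    intro K K' hK h
    unfold prun at h
    split at h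
    · rename_i K1 h1
      exact ih (pstep_spec R hd hK h1) h
    · simp at h

/-- the simple root elements generate the unipotent groups -/
def SimpleGen : Prop :=
  R.UP ≤ Subgroup.closure (Set.range fun x : Fin D.rank × F => R.xe (D.simple x.1) x.2) ∧
    R.UN ≤ Subgroup.closure (Set.range fun x : Fin D.rank × F => R.xe (D.neg (D.simple x.1)) x.2)

/-- negate a step -/
def negStep (D : ChevalleyDatum) (st : PStep) : PStep := (D.neg st.1, D.neg st.2.1, D.neg st.2.2)

/-- the certificate for `SimpleGen` -/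
def chkGen (D : ChevalleyDatum) (steps : List PStep) : Bool :=
  (match prun D ((List.range D.rank).map D.simple) steps with
    | some K => ((List.range D.nroots).filter fun r => decide (half D ≤ r)).all fun r => has K r
    | none => false) &&
  (match prun D ((List.range D.rank).map fun i => D.neg (D.simple i)) (steps.map (negStep D)) with
    | some K => ((List.range D.nroots).filter fun r => decide (r < half D)).all fun r => has K r
    | none => false)

theorem simpleGen_of_chk {steps : List PStep} (hd : ∃ d : F, d ≠ 0 ∧ d ≠ 1) (h : chkGen D steps = true) :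
    SimpleGen R := by
  unfold chkGen at h
  rw [Bool.and_eq_true] at h
  constructor
  · obtain ⟨h, -⟩ := h
    refine R.US_le fun r hr t => ?_
    split at h
    · rename_i K hK
      simp only [List.all_eq_true, List.mem_filter, List.mem_range, decide_eq_true_iff, has_iff] at h
      refine prun_spec R (H := _) hd steps (fun s hs u => ?_) hK r (h r ⟨r.2, hr⟩) t
      obtain ⟨i, hi, rfl⟩ := List.mem_map.1 hs
      exact Subgroup.subset_closure ⟨(⟨i, List.mem_range.1 hi⟩, u), rfl⟩
    · simp at h
  · obtain ⟨-, h⟩ := h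
    refine R.US_le fun r hr t => ?_
    split at h
    · rename_i K hK
      simp only [List.all_eq_true, List.mem_filter, List.mem_range, decide_eq_true_iff, has_iff] at h
      refine prun_spec R (H := _) hd _ (fun s hs u => ?_) hK r (h r ⟨r.2, not_le.1 hr⟩) t
      obtain ⟨i, hi, rfl⟩ := List.mem_map.1 hs
      exact Subgroup.subset_closure ⟨(⟨i, List.mem_range.1 hi⟩, u), rfl⟩
    · simp at h

theorem simple_mem (i : Fin D.rank) (t : F) : R.xe (D.simple i) t ∈ R.UP :=
  R.xe_mem_US (S := posSet D) (r := R.sroot i) (R.sroot_pos i) t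

theorem simple_mem_neg (i : Fin D.rank) (t : F) : R.xe (D.neg (D.simple i)) t ∈ R.UN :=
  R.xe_mem_US (S := negSet D) (r := R.negF (R.sroot i))
    (fun h => (R.negF_pos_iff (R.sroot i)).1 h (R.sroot_pos i)) t

theorem opp_inv_mem (i : Fin D.rank) (t : F) :
    (R.exists_opp.choose : G)⁻¹ * R.xe (D.neg (D.simple i)) t * (R.exists_opp.choose : G) ∈ R.UP := by
  obtain ⟨a, ha⟩ := R.isMon_nsPerm R.exists_opp.choose
  have h1 := R.exists_opp.choose_spec.1
  have hpos : ∀ r : Fin D.nroots, half D ≤ (r : ℕ) → ¬ half D ≤ ((R.nsPerm R.exists_opp.choose r : Fin D.nroots) : ℕ) := by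
    intro r hr hh
    have h2 := h1 _ (R.xe_mem_US (S := posSet D) hr (1 : F))
    rw [(ha r).2.2.2 1, mul_one] at h2
    have h3 := R.BS_inf_UN (R.UP_le_BS (R.xe_mem_US (S := posSet D) hh (a r))) h2
    refine (ha r).1 (R.xe_inj_param (r := R.nsPerm R.exists_opp.choose r) (t' := 0) ?_)
    rw [h3, R.xe_zero]
  have := R.isMon_inv ha
  have h4 := (this (R.negF (R.sroot i))).2.2.2 t
  rw [inv_inv] at h4
  rw [show R.xe (D.neg (D.simple i)) t = R.xe (R.negF (R.sroot i) : ℕ) t from rfl, h4]
  refine R.xe_mem_US (S := posSet D) ?_ _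
  by_contra hc
  set r := (R.nsPerm R.exists_opp.choose)⁻¹ (R.negF (R.sroot i))
  have hr : half D ≤ (R.negF r : ℕ) := (R.negF_pos_iff r).2 hc
  have h5 := hpos _ hr
  rw [(ha r).2.2.1, show R.nsPerm R.exists_opp.choose r = R.negF (R.sroot i) from
    (R.nsPerm R.exists_opp.choose).apply_symm_apply _, R.negF_negF] at h5
  exact h5 (R.sroot_pos i)

/-- the coefficient of a simple root -/
noncomputable def coef (i : Fin D.rank) (g : G) : F :=
  open Classical in if h : g ∈ R.UP then (R.exists_UP_split i h).choose_spec.2.choose else 0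

theorem coef_eq {i : Fin D.rank} {v : G} (hv : v ∈ R.US (R.restSet i)) (t : F) :
    coef R i (v * R.xe (D.simple i) t) = t := by
  have hg : v * R.xe (D.simple i) t ∈ R.UP :=
    mul_mem (R.US_mono (R.restSet_subset i) hv) (R.xe_mem_US (S := posSet D) (r := R.sroot i) (R.sroot_pos i) t)
  unfold coef
  rw [dif_pos hg]
  set v' := (R.exists_UP_split i hg).choose
  obtain ⟨hv', e⟩ := (R.exists_UP_split i hg).choose_spec.1, (R.exists_UP_split i hg).choose_spec.2.choose_spec
  set t' := (R.exists_UP_split i hg).choose_spec.2.choose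
  by_contra hne
  have hq : R.xe (D.simple i) (t - t') = v⁻¹ * v' := by
    rw [sub_eq_add_neg, ← R.xe_add', R.xe_neg, mul_inv_eq_iff_eq_mul, mul_assoc, ← e, inv_mul_cancel_left]
  have hmem : R.xe (R.sroot i : ℕ) (t - t') ∈ R.US (R.restSet i) := by
    show R.xe (D.simple i) (t - t') ∈ _
    rw [hq]; exact mul_mem (inv_mem hv) hv'
  have h1 := R.ne_conj_rest i hmem
  rw [show R.ne (D.simple i) 1 * R.xe (R.sroot i : ℕ) (t - t') * (R.ne (D.simple i) 1)⁻¹ =
    R.xe (R.negF (R.sroot i)) (-((t - t') / 1 ^ 2)) from R.ne_conj_xe (R.sroot i) one_ne_zero _] at h1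
  have h2 := R.BS_inf_UN (R.UP_le_BS (R.US_mono (R.restSet_subset i) h1))
    (R.xe_mem_US (S := negSet D) (r := R.negF (R.sroot i))
      (fun h => (R.negF_pos_iff (R.sroot i)).1 h (R.sroot_pos i)) _)
  have h3 : R.xe (R.negF (R.sroot i) : ℕ) (-((t - t') / 1 ^ 2)) = R.xe (R.negF (R.sroot i) : ℕ) 0 := by
    rw [h2, R.xe_zero]
  have := R.xe_inj_param h3
  simp only [one_pow, div_one, neg_eq_zero, sub_eq_zero] at this
  exact hne this.symm

theorem coef_add {i : Fin D.rank} {a b : G} (ha : a ∈ R.UP) (hb : b ∈ R.UP) :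
    coef R i (a * b) = coef R i a + coef R i b := by
  obtain ⟨v, hv, s, rfl⟩ := R.exists_UP_split i ha
  obtain ⟨w, hw, t, rfl⟩ := R.exists_UP_split i hb
  rw [coef_eq R hv, coef_eq R hw]
  have hn := (Subgroup.mem_normalizer_iff.1 (R.xe_simple_mem_normalizer i s).1 w).1 hw
  rw [show v * R.xe (D.simple i) s * (w * R.xe (D.simple i) t) =
      v * (R.xe (D.simple i) s * w * (R.xe (D.simple i) s)⁻¹) * (R.xe (D.simple i) s * R.xe (D.simple i) t) by group,
    R.xe_add', coef_eq R (mul_mem hv hn)]

theorem coef_xe (i j : Fin D.rank) (t : F) : coef R i (R.xe (D.simple j) t) = if i = j then t else 0 := by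
  by_cases h : i = j
  · subst h
    have := coef_eq R (one_mem (R.US (R.restSet i))) t
    rw [if_pos rfl]; rwa [one_mul] at this
  · rw [if_neg h]
    have hmem : R.xe (D.simple j) t ∈ R.US (R.restSet i) :=
      R.xe_mem_US (S := R.restSet i) (r := R.sroot j) ⟨R.sroot_pos j, fun e => h (R.sroot_injective e).symm⟩ t
    have := coef_eq R hmem 0
    rwa [R.xe_zero, mul_one] at this

theorem coef_zero_mem {i : Fin D.rank} {k : G} (hk : k ∈ R.UP) (h : coef R i k = 0) :
    k ∈ R.US (R.restSet i) := by
  obtain ⟨v, hv, s, rfl⟩ := R.exists_UP_split i hk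
  rw [coef_eq R hv] at h
  rw [h, R.xe_zero, mul_one]
  exact hv

/-- the negatives of `restSet` -/
def negRest (i : Fin D.rank) : Set (Fin D.nroots) := {r | R.negF r ∈ R.restSet i}

theorem negRest_subset (i : Fin D.rank) : negRest R i ⊆ negSet D := fun r hr => (R.negF_pos_iff r).1 hr.1

theorem comm_negRest_mem {i : Fin D.rank} {r : Fin D.nroots} (hr : r ∈ negRest R i) {s : Fin D.nroots}
    (hs : ∀ j : Fin D.rank, j ≠ i → X.coef j (s : ℕ) = 0) :
    ∀ c ∈ D.commTerms r s, ∀ h : c.1 < D.nroots, (⟨c.1, h⟩ : Fin D.nroots) ∈ negRest R i := by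
  intro c hc h
  obtain ⟨_, h1, _, _, h5⟩ := R.cert.commTerms_props r.2 s.2 c hc
  obtain ⟨hr1, hr2⟩ := hr
  obtain ⟨j, hj, hji, hne⟩ : ∃ j, j < D.rank ∧ j ≠ (i : ℕ) ∧ X.coef j (R.negF r : ℕ) ≠ 0 := by
    rcases R.cert.coef_supp (R.negF r).2 i.2 with h | h | h
    · exact absurd (Fin.ext h) hr2
    · exfalso
      have h0 := (R.cert.neg_lt_half_iff (R.cert.simple_lt i.2)).2 (R.sroot_pos i)
      omega
    · exact h
  have hrn : X.coef j (R.negF r : ℕ) = - X.coef j (r : ℕ) := R.cert.coef_neg r.2 hj
  have hrpos : 0 ≤ X.coef j (R.negF r : ℕ) := R.cert.coef_nonneg (R.negF r).2 hj hr1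
  have hneg : X.coef j c.1 < 0 := by
    rw [h5 j hj, hs ⟨j, hj⟩ (fun e => hji (congrArg Fin.val e)), mul_zero, add_zero]
    exact mul_neg_of_pos_of_neg (by exact_mod_cast h1) (by omega)
  refine ⟨?_, fun e => ?_⟩
  · show half D ≤ D.neg c.1
    rw [R.cert.half_le_neg_iff h]
    by_contra hge
    have := R.cert.coef_nonneg h hj (not_lt.1 hge)
    omega
  · have e' : D.neg c.1 = D.simple i := congrArg Fin.val e
    have := R.cert.coef_neg h hj
    rw [e', R.cert.coef_simple i.2 hj, if_neg hji] at this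
    omega

theorem negRest_normalizer (i : Fin D.rank) (t : F) :
    R.xe (D.simple i) t ∈ Subgroup.normalizer (R.US (negRest R i) : Set G) ∧
      R.xe (D.neg (D.simple i)) t ∈ Subgroup.normalizer (R.US (negRest R i) : Set G) := by
  refine ⟨R.xe_mem_normalizer (fun r hr t' u => ?_) t, R.xe_mem_normalizer (fun r hr t' u => ?_) t⟩
  · refine R.xe_conj_mem (s := R.sroot i) (fun e => ?_) (fun e => ?_) hr
      (comm_negRest_mem R hr fun j hj => ?_) t' u
    · exact (negRest_subset R i hr) (e ▸ R.sroot_pos i)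
    · exact hr.2 e.symm
    · rw [R.coef_sroot, if_neg hj]
  · refine R.xe_conj_mem (s := R.negF (R.sroot i)) (fun e => ?_) (fun e => ?_) hr
      (comm_negRest_mem R hr fun j hj => ?_) t' u
    · exact hr.2 (by rw [← e, R.negF_negF])
    · have h := negRest_subset R i hr
      exact h (by rw [← R.negF_negF r, ← e, R.negF_negF]; exact R.sroot_pos i)
    · show X.coef j (D.neg (D.simple i)) = 0
      rw [R.cert.coef_neg (R.cert.simple_lt i.2) j.2, R.cert.coef_simple i.2 j.2,
        if_neg (fun e => hj (Fin.ext e)), neg_zero]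

/-- the lower coefficient -/
noncomputable def coefN (i : Fin D.rank) (g : G) : F :=
  open Classical in if h : ∃ v ∈ R.US (negRest R i), ∃ t, g = v * R.xe (D.neg (D.simple i)) t
    then h.choose_spec.2.choose else 0

theorem negSet_split (i : Fin D.rank) {g : G} (hg : g ∈ R.UN) :
    ∃ v ∈ R.US (negRest R i), ∃ t, g = v * R.xe (D.neg (D.simple i)) t := by
  refine closure_induction_symm R.gens_symm ?h1 ?hmul hg
  case h1 => exact ⟨1, one_mem _, 0, by rw [R.xe_zero, one_mul]⟩
  case hmul =>
    intro x hx y ih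
    obtain ⟨r, hr, t, rfl⟩ := hx
    obtain ⟨v, hv, t', rfl⟩ := ih
    by_cases h : r = R.negF (R.sroot i)
    · subst h
      have hn : R.xe (R.negF (R.sroot i) : ℕ) t ∈
          Subgroup.normalizer (R.US (negRest R i) : Set G) := (negRest_normalizer R i t).2
      exact ⟨_, (Subgroup.mem_normalizer_iff.1 hn v).1 hv, t + t', by
        rw [← R.xe_add']
        simp only [show (R.negF (R.sroot i) : ℕ) = D.neg (D.simple i) from rfl, mul_assoc, inv_mul_cancel_left]⟩
    · refine ⟨R.xe r t * v, mul_mem (R.xe_mem_US (S := negRest R i) ?_ t) hv, t',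
        by rw [mul_assoc]⟩
      exact ⟨(R.negF_pos_iff r).2 hr, fun e => h (by rw [← e, R.negF_negF])⟩

theorem coefN_eq {i : Fin D.rank} {v : G} (hv : v ∈ R.US (negRest R i)) (t : F) :
    coefN R i (v * R.xe (D.neg (D.simple i)) t) = t := by
  have hex : ∃ w ∈ R.US (negRest R i), ∃ s, v * R.xe (D.neg (D.simple i)) t = w * R.xe (D.neg (D.simple i)) s :=
    ⟨v, hv, t, rfl⟩
  unfold coefN
  rw [dif_pos hex]
  set v' := hex.choose
  obtain ⟨hv', e⟩ := hex.choose_spec.1, hex.choose_spec.2.choose_spec
  set t' := hex.choose_spec.2.choose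
  by_contra hne
  set r := R.negF (R.sroot i)
  have hr : (r : ℕ) = D.neg (D.simple i) := rfl
  have hmem : R.xe (r : ℕ) (t - t') ∈ R.US (negRest R i) := by
    rw [hr, show R.xe (D.neg (D.simple i)) (t - t') = v⁻¹ * v' by
      rw [sub_eq_add_neg, ← R.xe_add', R.xe_neg, mul_inv_eq_iff_eq_mul, mul_assoc, ← e, inv_mul_cancel_left]]
    exact mul_mem (inv_mem hv) hv'
  have hw : ∀ s ∈ negRest R i, R.wperm i s ∈ negSet D := fun s hs => by
    intro hpos
    have h1 := R.wperm_pos i (R.negF s) hs.1 hs.2
    obtain ⟨a, ha⟩ := R.isMon_nsPerm (R.nS i)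
    have h2 := (ha s).2.2.1
    rw [R.nsPerm_nS] at h2
    rw [h2] at h1
    exact (R.negF_pos_iff _).1 h1 hpos
  have h1 : R.ne (D.simple i) 1 * R.xe (r : ℕ) (t - t') * (R.ne (D.simple i) 1)⁻¹ ∈ R.UN :=
    Rel.IsMon.conj_mem_US R (R.isMon_ne_simple i one_ne_zero) (T := negSet D) hw hmem
  rw [show R.ne (D.simple i) 1 * R.xe (r : ℕ) (t - t') * (R.ne (D.simple i) 1)⁻¹ =
    R.xe (R.sroot i) (-(1 ^ 2 * (t - t'))) from R.ne_conj_xe_neg (R.sroot i) one_ne_zero _] at h1
  have h2 := R.BS_inf_UN (R.UP_le_BS (R.xe_mem_US (S := posSet D) (r := R.sroot i) (R.sroot_pos i) _)) h1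
  have h3 : R.xe (R.sroot i : ℕ) (-(1 ^ 2 * (t - t'))) = R.xe (R.sroot i : ℕ) 0 := by rw [h2, R.xe_zero]
  have := R.xe_inj_param h3
  simp only [one_pow, one_mul, neg_eq_zero, sub_eq_zero] at this
  exact hne this.symm

theorem coefN_add {i : Fin D.rank} {a b : G} (ha : a ∈ R.UN) (hb : b ∈ R.UN) :
    coefN R i (a * b) = coefN R i a + coefN R i b := by
  obtain ⟨v, hv, s, rfl⟩ := negSet_split R i ha
  obtain ⟨w, hw, t, rfl⟩ := negSet_split R i hb
  rw [coefN_eq R hv, coefN_eq R hw]
  have hn := (Subgroup.mem_normalizer_iff.1 (negRest_normalizer R i s).2 w).1 hw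
  rw [show v * R.xe (D.neg (D.simple i)) s * (w * R.xe (D.neg (D.simple i)) t) =
      v * (R.xe (D.neg (D.simple i)) s * w * (R.xe (D.neg (D.simple i)) s)⁻¹) *
        (R.xe (D.neg (D.simple i)) s * R.xe (D.neg (D.simple i)) t) by group,
    R.xe_add', coefN_eq R (mul_mem hv hn)]

theorem coefN_xe (i j : Fin D.rank) (t : F) :
    coefN R i (R.xe (D.neg (D.simple j)) t) = if i = j then t else 0 := by
  by_cases h : i = j
  · subst h
    have := coefN_eq R (one_mem (R.US (negRest R i))) t
    rw [if_pos rfl]; rwa [one_mul] at this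
  · rw [if_neg h]
    have hmem : R.xe (D.neg (D.simple j)) t ∈ R.US (negRest R i) :=
      R.xe_mem_US (S := negRest R i) (r := R.negF (R.sroot j))
        (show R.negF (R.negF (R.sroot j)) ∈ R.restSet i by
          rw [R.negF_negF]; exact ⟨R.sroot_pos j, fun e => h (R.sroot_injective e).symm⟩) t
    have := coefN_eq R hmem 0
    rwa [R.xe_zero, mul_one] at this

theorem coefN_zero_mem {i : Fin D.rank} {k : G} (hk : k ∈ R.UN) (h : coefN R i k = 0) :
    k ∈ R.US (negRest R i) := by
  obtain ⟨v, hv, s, rfl⟩ := negSet_split R i hk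
  rw [coefN_eq R hv] at h
  rw [h, R.xe_zero, mul_one]
  exact hv

theorem simple_comm (i j : Fin D.rank) (hij : i ≠ j) (s t : F) :
    Commute (R.xe (D.simple i) s) (R.xe (D.neg (D.simple j)) t) := by
  have hne : (j : ℕ) ≠ i := fun e => hij (Fin.ext e.symm)
  have hi := R.cert.simple_lt i.2
  have hj := R.cert.neg_lt (R.cert.simple_lt j.2)
  have hjneg : D.neg (D.simple j) < half D := (R.cert.neg_lt_half_iff (R.cert.simple_lt j.2)).2 (R.sroot_pos j)
  have h1 : D.neg (D.simple j) ≠ D.simple i := fun e => by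
    have := R.sroot_pos i
    simp only [Rel.sroot] at this
    omega
  have h2 : D.neg (D.simple j) ≠ D.neg (D.simple i) := fun e => by
    have := congrArg D.neg e
    rw [R.cert.neg_neg (R.cert.simple_lt j.2), R.cert.neg_neg (R.cert.simple_lt i.2)] at this
    exact hij (R.sroot_injective (Fin.ext this.symm))
  have hnil : D.commTerms (D.simple i) (D.neg (D.simple j)) = [] := by
    by_contra hc
    obtain ⟨c, hc⟩ := List.exists_mem_of_ne_nil _ hc
    obtain ⟨h0, ha, hb, -, h5⟩ := R.cert.commTerms_props hi hj c hc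
    have ei := h5 i i.2
    have ej := h5 j j.2
    rw [R.cert.coef_neg (R.cert.simple_lt j.2) i.2, R.cert.coef_simple i.2 i.2, R.cert.coef_simple j.2 i.2,
      if_pos rfl, if_neg (fun e => hne e.symm)] at ei
    rw [R.cert.coef_neg (R.cert.simple_lt j.2) j.2, R.cert.coef_simple i.2 j.2, R.cert.coef_simple j.2 j.2,
      if_pos rfl, if_neg hne] at ej
    by_cases hp : half D ≤ c.1
    · have := R.cert.coef_nonneg h0 j.2 hp
      omega
    · have := R.cert.coef_nonneg (R.cert.neg_lt h0) i.2 ((R.cert.half_le_neg_iff h0).2 (not_le.1 hp))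
      rw [R.cert.coef_neg h0 i.2] at this
      omega
  have h := R.xe_comm (D.simple i) (D.neg (D.simple j)) s t hi hj h1 h2
  simp only [ChevalleyDatum.commWord, hnil, List.map_nil, List.prod_nil, mul_one] at h
  exact h.symm

theorem slHom_lower' (i : Fin D.rank) (s : F) (g : Matrix.SpecialLinearGroup (Fin 2) F)
    (e : g.1 = !![1, 0; s, 1]) : R.slHom (R.sroot i) g = R.xe (D.neg (D.simple i)) s :=
  R.slHom_lower (R.sroot i) s g e

theorem rank_one (i : Fin D.rank) (b s : F) (h : 1 + b * s ≠ 0) :
    R.xe (D.simple i) b * R.xe (D.neg (D.simple i)) s = R.xe (D.neg (D.simple i)) (s / (1 + b * s)) *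
      R.he (D.simple i) (1 + b * s) * R.xe (D.simple i) (b / (1 + b * s)) := by
  let lo : F → Matrix.SpecialLinearGroup (Fin 2) F := fun x => ⟨!![1, 0; x, 1], by simp [Matrix.det_fin_two]⟩
  let di : Matrix.SpecialLinearGroup (Fin 2) F :=
    ⟨!![1 + b * s, 0; 0, (1 + b * s)⁻¹], by simp [Matrix.det_fin_two, h]⟩
  have e1 : ∀ x : F, R.slHom (R.sroot i) (Rel.slX x) = R.xe (D.simple i) x := fun x => R.slMap_slX (R.sroot i) x
  have e2 : ∀ x : F, R.slHom (R.sroot i) (lo x) = R.xe (D.neg (D.simple i)) x := fun x => slHom_lower' R i x _ rfl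
  have e3 : R.slHom (R.sroot i) di = R.he (D.simple i) (1 + b * s) := by
    show R.slMap (R.sroot i) di = _
    simp [Rel.slMap, Rel.slEval, di, R.xe_zero]
    rfl
  rw [← e1, ← e1, ← e2, ← e2, ← e3, ← map_mul, ← map_mul, ← map_mul]
  congr 1
  refine Subtype.ext ?_
  show (Rel.slX b).1 * (lo s).1 = (lo (s / (1 + b * s))).1 * di.1 * (Rel.slX (b / (1 + b * s))).1
  simp only [Rel.slX_val, lo, di]
  ext a c
  have h' : 1 + s * b ≠ 0 := by rwa [mul_comm s b]
  fin_cases a <;> fin_cases c <;> simp [Matrix.mul_apply, Fin.sum_univ_two] <;> field_simp <;> (try ring)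

/-- the system of a Chevalley relation system -/
noncomputable def sys (hgen : SimpleGen R) (hconn : ∀ S : Finset (Fin D.rank), S.Nonempty →
      (∀ p ∈ S, ∀ k : Fin D.rank, D.cartan p (D.simple k) ≠ 0 → k ∈ S) → S = Finset.univ)
    (hsum : ∀ i : Fin D.rank, ∑ k ∈ Finset.univ.erase i, (D.cartan i (D.simple k)).natAbs ≤ 3) : Sys F G where
  I := Fin D.rank
  A i j := D.cartan i (D.simple j)
  xP i t := R.xe (D.simple i) t
  xN i t := R.xe (D.neg (D.simple i)) t
  hh i c := R.he (D.simple i) c
  φ := coef R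
  ψ := coefN R
  n0 := (R.exists_opp.choose : G)
  A_diag i := R.cert.cartan_simple i.2
  A_sum := hsum
  connected := hconn
  xP_add i s t := R.xe_add' _ s t
  xN_add i s t := R.xe_add' _ s t
  hh_mul i a b ha hb := R.hmul' i i.2 ha hb
  hh_comm i j a b ha hb := R.HS_isMulCommutative (R.he_mem_HS i ha) (R.he_mem_HS j hb)
  torP i j c t hc := by
    have := (R.isMon_he_simple i hc (R.sroot j)).2.2.2 t
    rw [Equiv.Perm.one_apply] at this
    exact mul_inv_eq_iff_eq_mul.1 this
  torN i j c t hc := by
    have := (R.isMon_he_simple i hc (R.negF (R.sroot j))).2.2.2 t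
    rw [Equiv.Perm.one_apply] at this
    have e : D.cartan i (R.negF (R.sroot j) : ℕ) = - D.cartan i (D.simple j) :=
      R.cert.cartan_neg (R.cert.simple_lt j.2) i.2
    beta_reduce at this
    rw [e] at this
    exact mul_inv_eq_iff_eq_mul.1 this
  rk1 i b s h := rank_one R i b s h
  comm i j hij s t := simple_comm R i j hij s t
  gen := CfsgLib.Known.ChevGen.eq_top_of_simple R _ fun i t =>
    ⟨Subgroup.subset_closure (Or.inl ⟨(i, t), rfl⟩), Subgroup.subset_closure (Or.inr ⟨(i, t), rfl⟩)⟩
  φ_add i a b ha hb :=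
    coef_add R ((Subgroup.closure_le R.UP).2 (by rintro _ ⟨⟨j, u⟩, rfl⟩; exact simple_mem R j u) ha)
      ((Subgroup.closure_le R.UP).2 (by rintro _ ⟨⟨j, u⟩, rfl⟩; exact simple_mem R j u) hb)
  φ_xP i j t := coef_xe R i j t
  ψ_add i a b ha hb :=
    coefN_add R ((Subgroup.closure_le R.UN).2 (by rintro _ ⟨⟨j, u⟩, rfl⟩; exact simple_mem_neg R j u) ha)
      ((Subgroup.closure_le R.UN).2 (by rintro _ ⟨⟨j, u⟩, rfl⟩; exact simple_mem_neg R j u) hb)
  ψ_xN i j t := coefN_xe R i j t
  φ_inv i s k hk h0 := hgen.1 (R.US_mono (R.restSet_subset i)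
    ((Subgroup.mem_normalizer_iff.1 (R.xe_simple_mem_normalizer i s).2 k).1
      (coef_zero_mem R ((Subgroup.closure_le R.UP).2 (by rintro _ ⟨⟨j, u⟩, rfl⟩; exact simple_mem R j u) hk) h0)))
  ψ_inv i s k hk h0 := hgen.2 (R.US_mono (negRest_subset R i)
    ((Subgroup.mem_normalizer_iff.1 (negRest_normalizer R i s).1 k).1
      (coefN_zero_mem R
        ((Subgroup.closure_le R.UN).2 (by rintro _ ⟨⟨j, u⟩, rfl⟩; exact simple_mem_neg R j u) hk) h0)))
  disj g hg hg' := R.BS_inf_UN
    (R.UP_le_BS ((Subgroup.closure_le R.UP).2 (by rintro _ ⟨⟨j, u⟩, rfl⟩; exact simple_mem R j u) hg))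
    ((Subgroup.closure_le R.UN).2 (by rintro _ ⟨⟨j, u⟩, rfl⟩; exact simple_mem_neg R j u) hg')
  n0_xP i t := hgen.2 (R.exists_opp.choose_spec.1 _ (simple_mem R i t))
  n0_xN i t := by
    refine hgen.1 ?_
    obtain ⟨h1, -⟩ := R.exists_opp.choose_spec
    exact opp_inv_mem R i t

end CfsgLib.Known.ClassSquare.Chev
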