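import Mathlib

/-!
# Gauss decomposition with prescribed torus part

An axiomatic setting with simple root elements only, and the theorem of Ellers and Gordeev: over a field with
at least nine elements every noncentral element is conjugate to `v * h * u` with `h` any given torus element.
-/

set_option autoImplicit false

namespace CfsgLib.Known.ClassSquare

universe u v

/-- the group elements attached to the simple roots -/
structure Sys (F : Type u) [Field F] (G : Type v) [Group G] where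
  I : Type
  [fin : Fintype I]
  [dec : DecidableEq I]
  A : I → I → ℤ
  xP : I → F → G
  xN : I → F → G
  hh : I → F → G
  φ : I → G → F
  ψ : I → G → F
  n0 : G
  A_diag : ∀ i, A i i = 2
  A_sum : ∀ i, ∑ k ∈ Finset.univ.erase i, (A i k).natAbs ≤ 3
  connected : ∀ S : Finset I, S.Nonempty → (∀ p ∈ S, ∀ k, A p k ≠ 0 → k ∈ S) → S = Finset.univ
  xP_add : ∀ i s t, xP i s * xP i t = xP i (s + t)
  xN_add : ∀ i s t, xN i s * xN i t = xN i (s + t)
  hh_mul : ∀ i a b, a ≠ 0 → b ≠ 0 → hh i a * hh i b = hh i (a * b)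
  hh_comm : ∀ i j a b, a ≠ 0 → b ≠ 0 → Commute (hh i a) (hh j b)
  torP : ∀ i j c t, c ≠ 0 → hh i c * xP j t = xP j (c ^ A i j * t) * hh i c
  torN : ∀ i j c t, c ≠ 0 → hh i c * xN j t = xN j (c ^ (-A i j) * t) * hh i c
  rk1 : ∀ i b s, 1 + b * s ≠ 0 →
    xP i b * xN i s = xN i (s / (1 + b * s)) * hh i (1 + b * s) * xP i (b / (1 + b * s))
  comm : ∀ i j, i ≠ j → ∀ s t, Commute (xP i s) (xN j t)
  gen : Subgroup.closure (Set.range (fun x : I × F => xP x.1 x.2) ∪ Set.range fun x : I × F => xN x.1 x.2) = ⊤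
  φ_add : ∀ i a b, a ∈ Subgroup.closure (Set.range fun x : I × F => xP x.1 x.2) →
    b ∈ Subgroup.closure (Set.range fun x : I × F => xP x.1 x.2) → φ i (a * b) = φ i a + φ i b
  φ_xP : ∀ i j t, φ i (xP j t) = if i = j then t else 0
  ψ_add : ∀ i a b, a ∈ Subgroup.closure (Set.range fun x : I × F => xN x.1 x.2) →
    b ∈ Subgroup.closure (Set.range fun x : I × F => xN x.1 x.2) → ψ i (a * b) = ψ i a + ψ i b
  ψ_xN : ∀ i j t, ψ i (xN j t) = if i = j then t else 0
  φ_inv : ∀ i s k, k ∈ Subgroup.closure (Set.range fun x : I × F => xP x.1 x.2) → φ i k = 0 →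
    xN i s * k * (xN i s)⁻¹ ∈ Subgroup.closure (Set.range fun x : I × F => xP x.1 x.2)
  ψ_inv : ∀ i s k, k ∈ Subgroup.closure (Set.range fun x : I × F => xN x.1 x.2) → ψ i k = 0 →
    xP i s * k * (xP i s)⁻¹ ∈ Subgroup.closure (Set.range fun x : I × F => xN x.1 x.2)
  disj : ∀ g, g ∈ Subgroup.closure (Set.range fun x : I × F => xP x.1 x.2) →
    g ∈ Subgroup.closure (Set.range fun x : I × F => xN x.1 x.2) → g = 1
  n0_xP : ∀ i t, n0 * xP i t * n0⁻¹ ∈ Subgroup.closure (Set.range fun x : I × F => xN x.1 x.2)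
  n0_xN : ∀ i t, n0⁻¹ * xN i t * n0 ∈ Subgroup.closure (Set.range fun x : I × F => xP x.1 x.2)

attribute [instance] Sys.fin Sys.dec

namespace Sys

variable {F : Type u} [Field F] {G : Type v} [Group G] (S : Sys F G)

/-- upper unipotent group -/
def UP : Subgroup G := Subgroup.closure (Set.range fun x : S.I × F => S.xP x.1 x.2)

/-- lower unipotent group -/
def UN : Subgroup G := Subgroup.closure (Set.range fun x : S.I × F => S.xN x.1 x.2)

theorem xP_mem (i : S.I) (t : F) : S.xP i t ∈ S.UP := Subgroup.subset_closure ⟨(i, t), rfl⟩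

theorem xN_mem (i : S.I) (t : F) : S.xN i t ∈ S.UN := Subgroup.subset_closure ⟨(i, t), rfl⟩

theorem xP_zero (i : S.I) : S.xP i 0 = 1 := by
  have := S.xP_add i 0 0
  rw [add_zero] at this
  exact mul_eq_left.1 this

theorem xN_zero (i : S.I) : S.xN i 0 = 1 := by
  have := S.xN_add i 0 0
  rw [add_zero] at this
  exact mul_eq_left.1 this

theorem xP_neg (i : S.I) (t : F) : S.xP i (-t) = (S.xP i t)⁻¹ := by
  rw [eq_inv_iff_mul_eq_one, S.xP_add, neg_add_cancel, S.xP_zero]

theorem xN_neg (i : S.I) (t : F) : S.xN i (-t) = (S.xN i t)⁻¹ := by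
  rw [eq_inv_iff_mul_eq_one, S.xN_add, neg_add_cancel, S.xN_zero]

theorem hh_one (i : S.I) : S.hh i 1 = 1 := by
  have := S.hh_mul i 1 1 one_ne_zero one_ne_zero
  rw [one_mul] at this
  exact mul_eq_left.1 this

theorem hh_inv (i : S.I) {a : F} (ha : a ≠ 0) : S.hh i a⁻¹ = (S.hh i a)⁻¹ := by
  rw [eq_inv_iff_mul_eq_one, S.hh_mul i _ _ (inv_ne_zero ha) ha, inv_mul_cancel₀ ha, S.hh_one]

theorem rk1' (i : S.I) (b s : F) (h : 1 + b * s ≠ 0) :
    S.xN i b * S.xP i s =
      S.xP i (s / (1 + b * s)) * S.hh i (1 + b * s)⁻¹ * S.xN i (b / (1 + b * s)) := by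
  have h' : 1 + (-s) * (-b) ≠ 0 := by rw [neg_mul_neg, mul_comm]; exact h
  have := congrArg (·⁻¹) (S.rk1 i (-s) (-b) h')
  simp only [mul_inv_rev, S.xP_neg, S.xN_neg, inv_inv] at this
  rw [this, neg_mul_neg, mul_comm s b, neg_div, neg_div, S.xP_neg, S.xN_neg, inv_inv, inv_inv, S.hh_inv i h,
    mul_assoc]

/-- the opposite system -/
abbrev dual : Sys F G where
  I := S.I
  A := S.A
  xP := S.xN
  xN := S.xP
  hh i c := S.hh i c⁻¹
  φ := S.ψ
  ψ := S.φ
  n0 := S.n0⁻¹
  A_diag := S.A_diag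
  A_sum := S.A_sum
  connected := S.connected
  xP_add := S.xN_add
  xN_add := S.xP_add
  hh_mul i a b ha hb := by rw [S.hh_mul i _ _ (inv_ne_zero ha) (inv_ne_zero hb), mul_inv]
  hh_comm i j a b ha hb := S.hh_comm i j _ _ (inv_ne_zero ha) (inv_ne_zero hb)
  torP i j c t hc := by rw [S.torN i j _ t (inv_ne_zero hc), inv_zpow', neg_neg]
  torN i j c t hc := by rw [S.torP i j _ t (inv_ne_zero hc), inv_zpow']
  rk1 i b s h := S.rk1' i b s h
  comm i j h s t := (S.comm j i h.symm t s).symm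
  gen := by rw [Set.union_comm]; exact S.gen
  φ_add := S.ψ_add
  φ_xP := S.ψ_xN
  ψ_add := S.φ_add
  ψ_xN := S.φ_xP
  φ_inv := S.ψ_inv
  ψ_inv := S.φ_inv
  disj g hg hg' := S.disj g hg' hg
  n0_xP i t := by rw [inv_inv]; exact S.n0_xN i t
  n0_xN i t := by rw [inv_inv]; exact S.n0_xP i t

theorem φ_one (i : S.I) : S.φ i 1 = 0 := by
  have := S.φ_add i 1 1 (one_mem _) (one_mem _)
  rwa [mul_one, left_eq_add] at this

theorem φ_inv' (i : S.I) {a : G} (ha : a ∈ S.UP) : S.φ i a⁻¹ = -S.φ i a := by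
  have := S.φ_add i a a⁻¹ ha (inv_mem ha)
  rw [mul_inv_cancel, S.φ_one] at this
  exact eq_neg_of_add_eq_zero_right this.symm

/-- the torus -/
noncomputable def hT : (S.I → Fˣ) →* G :=
  MonoidHom.noncommPiCoprod
    (fun i => MonoidHom.mk' (fun c : Fˣ => S.hh i (c : F)) fun a b => by
      rw [Units.val_mul, S.hh_mul i _ _ a.ne_zero b.ne_zero])
    fun i j _ a b => S.hh_comm i j _ _ a.ne_zero b.ne_zero

theorem hT_single (i : S.I) (c : Fˣ) : S.hT (Pi.mulSingle i c) = S.hh i c :=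
  by unfold hT; erw [MonoidHom.noncommPiCoprod_mulSingle]; rfl

attribute [local irreducible] hT

/-- the value of a simple root on a torus element -/
def root (j : S.I) : (S.I → Fˣ) →* Fˣ where
  toFun c := ∏ i, c i ^ S.A i j
  map_one' := by simp
  map_mul' a b := by simp [mul_zpow, Finset.prod_mul_distrib]

theorem root_single (i j : S.I) (d : Fˣ) : S.root j (Pi.mulSingle i d) = d ^ S.A i j := by
  show ∏ k, (Pi.mulSingle i d : S.I → Fˣ) k ^ S.A k j = _
  rw [Finset.prod_eq_single i]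
  · rw [Pi.mulSingle_eq_same]
  · intro k _ hk; rw [Pi.mulSingle_eq_of_ne hk, one_zpow]
  · simp

theorem hT_xP (c : S.I → Fˣ) : ∀ (j : S.I) (t : F),
    S.hT c * S.xP j t = S.xP j ((S.root j c : Fˣ) * t) * S.hT c := by
  have key : ∀ s : Finset S.I, ∀ j t, S.hT (∏ i ∈ s, Pi.mulSingle i (c i)) * S.xP j t =
      S.xP j ((S.root j (∏ i ∈ s, Pi.mulSingle i (c i)) : Fˣ) * t) * S.hT (∏ i ∈ s, Pi.mulSingle i (c i)) := by
    intro s
    induction s using Finset.induction_on with
    | empty => intro j t; simp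
    | @insert a s ha ih =>
      intro j t
      rw [Finset.prod_insert ha, map_mul S.hT, mul_assoc, ih, ← mul_assoc, S.hT_single,
        S.torP a j _ _ (c a).ne_zero, map_mul (S.root j), S.root_single, Units.val_mul, Units.val_zpow_eq_zpow_val,
        mul_assoc, mul_assoc]
  have e := key Finset.univ
  rwa [Finset.univ_prod_mulSingle] at e

theorem hT_xN (c : S.I → Fˣ) : ∀ (j : S.I) (t : F),
    S.hT c * S.xN j t = S.xN j (((S.root j c)⁻¹ : Fˣ) * t) * S.hT c := by
  have key : ∀ s : Finset S.I, ∀ j t, S.hT (∏ i ∈ s, Pi.mulSingle i (c i)) * S.xN j t =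
      S.xN j (((S.root j (∏ i ∈ s, Pi.mulSingle i (c i)))⁻¹ : Fˣ) * t) *
        S.hT (∏ i ∈ s, Pi.mulSingle i (c i)) := by
    intro s
    induction s using Finset.induction_on with
    | empty => intro j t; simp
    | @insert a s ha ih =>
      intro j t
      rw [Finset.prod_insert ha, map_mul S.hT, mul_assoc, ih, ← mul_assoc, S.hT_single,
        S.torN a j _ _ (c a).ne_zero, map_mul (S.root j), S.root_single, mul_inv, Units.val_mul,
        ← zpow_neg, Units.val_zpow_eq_zpow_val, mul_assoc, mul_assoc]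
  have e := key Finset.univ
  rwa [Finset.univ_prod_mulSingle] at e

theorem hT_mem_UP (c : S.I → Fˣ) {u : G} (hu : u ∈ S.UP) : S.hT c * u * (S.hT c)⁻¹ ∈ S.UP := by
  induction hu using Subgroup.closure_induction with
  | mem x hx =>
    obtain ⟨⟨j, t⟩, rfl⟩ := hx
    rw [S.hT_xP, mul_inv_cancel_right]; exact S.xP_mem _ _
  | one => simp
  | mul x y _ _ ihx ihy =>
    rw [show S.hT c * (x * y) * (S.hT c)⁻¹ = (S.hT c * x * (S.hT c)⁻¹) * (S.hT c * y * (S.hT c)⁻¹) by group]
    exact mul_mem ihx ihy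
  | inv x _ ih =>
    rw [show S.hT c * x⁻¹ * (S.hT c)⁻¹ = (S.hT c * x * (S.hT c)⁻¹)⁻¹ by group]
    exact inv_mem ih

theorem hT_mem_UN (c : S.I → Fˣ) {u : G} (hu : u ∈ S.UN) : S.hT c * u * (S.hT c)⁻¹ ∈ S.UN := by
  induction hu using Subgroup.closure_induction with
  | mem x hx =>
    obtain ⟨⟨j, t⟩, rfl⟩ := hx
    rw [S.hT_xN, mul_inv_cancel_right]; exact S.xN_mem _ _
  | one => simp
  | mul x y _ _ ihx ihy =>
    rw [show S.hT c * (x * y) * (S.hT c)⁻¹ = (S.hT c * x * (S.hT c)⁻¹) * (S.hT c * y * (S.hT c)⁻¹) by group]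
    exact mul_mem ihx ihy
  | inv x _ ih =>
    rw [show S.hT c * x⁻¹ * (S.hT c)⁻¹ = (S.hT c * x * (S.hT c)⁻¹)⁻¹ by group]
    exact inv_mem ih

theorem decomp (i : S.I) {u : G} (hu : u ∈ S.UP) :
    ∃ k ∈ S.UP, S.φ i k = 0 ∧ u = S.xP i (S.φ i u) * k := by
  refine ⟨S.xP i (-S.φ i u) * u, mul_mem (S.xP_mem _ _) hu, ?_, ?_⟩
  · rw [S.φ_add i _ _ (S.xP_mem _ _) hu, S.φ_xP, if_pos rfl, neg_add_cancel]
  · rw [← mul_assoc, S.xP_add, add_neg_cancel, S.xP_zero, one_mul]

theorem decomp' (i : S.I) {u : G} (hu : u ∈ S.UP) :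
    ∃ k ∈ S.UP, S.φ i k = 0 ∧ u = k * S.xP i (S.φ i u) := by
  refine ⟨u * S.xP i (-S.φ i u), mul_mem hu (S.xP_mem _ _), ?_, ?_⟩
  · rw [S.φ_add i _ _ hu (S.xP_mem _ _), S.φ_xP, if_pos rfl, add_neg_cancel]
  · rw [mul_assoc, S.xP_add, neg_add_cancel, S.xP_zero, mul_one]

/-- `v * h * u` -/
def InCell (x : G) (c : S.I → Fˣ) : Prop := ∃ v ∈ S.UN, ∃ u ∈ S.UP, x = v * S.hT c * u

theorem exists_single (i : S.I) {d : F} (hd : d ≠ 0) : S.hh i d = S.hT (Pi.mulSingle i (Units.mk0 d hd)) := by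
  rw [S.hT_single]; rfl

/-- the rank one rearrangement -/
theorem rank_one [Fintype F] (hF : 9 ≤ Fintype.card F) (i : S.I) (b a t : F) : ∃ (p : F) (c : Fˣ) (q r : F),
    S.xP i b * S.xN i a * S.xP i t = S.xN i p * S.hh i c * S.xP i q * S.xN i r := by
  classical
  by_cases h : 1 + b * a ≠ 0
  · refine ⟨a / (1 + b * a), Units.mk0 _ h, b / (1 + b * a) + t, 0, ?_⟩
    rw [S.rk1 i b a h, S.xN_zero, mul_one, mul_assoc _ (S.xP i _), S.xP_add]
    rfl
  push Not at h
  obtain ⟨z, -, hz⟩ := Finset.exists_mem_notMem_of_card_lt_card (s := ({0, -t⁻¹} : Finset F))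
    (t := Finset.univ) (lt_of_le_of_lt Finset.card_le_two (by rw [Finset.card_univ]; omega))
  simp only [Finset.mem_insert, Finset.mem_singleton, not_or] at hz
  have h1 : 1 + b * (a - z) ≠ 0 := by
    rw [show 1 + b * (a - z) = -(b * z) by linear_combination h]
    refine neg_ne_zero.2 (mul_ne_zero (fun hb => ?_) hz.1)
    rw [hb, zero_mul, add_zero] at h
    exact one_ne_zero h
  have h2 : 1 + z * t ≠ 0 := fun e => by
    by_cases ht : t = 0
    · rw [ht, mul_zero, add_zero] at e; exact one_ne_zero e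
    · refine hz.2 ?_
      field_simp
      linear_combination e
  set d := 1 + b * (a - z)
  set d' := 1 + z * t
  refine ⟨(a - z) / d, Units.mk0 (d * d'⁻¹) (mul_ne_zero h1 (inv_ne_zero h2)),
    (d'⁻¹ ^ S.A i i)⁻¹ * (b / d + t / d'), z / d', ?_⟩
  rw [show S.xN i a = S.xN i (a - z) * S.xN i z by rw [S.xN_add, sub_add_cancel],
    show S.xP i b * (S.xN i (a - z) * S.xN i z) * S.xP i t =
      (S.xP i b * S.xN i (a - z)) * (S.xN i z * S.xP i t) by group,
    S.rk1 i b _ h1, S.rk1' i z t h2]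
  have e := S.torP i i d'⁻¹ ((d'⁻¹ ^ S.A i i)⁻¹ * (b / d + t / d')) (inv_ne_zero h2)
  rw [mul_inv_cancel_left₀ (zpow_ne_zero _ (inv_ne_zero h2))] at e
  rw [Units.val_mk0, ← S.hh_mul i d d'⁻¹ h1 (inv_ne_zero h2)]
  have hx := S.xP_add i (b / d) (t / d')
  calc S.xN i ((a - z) / d) * S.hh i d * S.xP i (b / d) * (S.xP i (t / d') * S.hh i d'⁻¹ * S.xN i (z / d'))
      = S.xN i ((a - z) / d) * S.hh i d * ((S.xP i (b / d) * S.xP i (t / d')) * S.hh i d'⁻¹) *
          S.xN i (z / d') := by group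
    _ = _ := by rw [hx, ← e]; group

/-- `G = V H U V` -/
theorem exists_four [Fintype F] (hF : 9 ≤ Fintype.card F) (g : G) : ∃ w ∈ S.UN, ∃ v ∈ S.UN, ∃ c, ∃ u ∈ S.UP,
    g = v * S.hT c * u * w := by
  have key : ∀ x ∈ Subgroup.closure (Set.range (fun x : S.I × F => S.xP x.1 x.2) ∪
      Set.range fun x : S.I × F => S.xN x.1 x.2), ∃ v ∈ S.UN, ∃ c, ∃ u ∈ S.UP, ∃ w ∈ S.UN,
      x = v * S.hT c * u * w := by
    have hfin : ∀ z ∈ (Set.range (fun x : S.I × F => S.xP x.1 x.2) ∪
        Set.range fun x : S.I × F => S.xN x.1 x.2), z⁻¹ ∈ (Set.range (fun x : S.I × F => S.xP x.1 x.2) ∪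
        Set.range fun x : S.I × F => S.xN x.1 x.2) := by
      rintro z (⟨⟨i, t⟩, rfl⟩ | ⟨⟨i, t⟩, rfl⟩)
      · exact Or.inl ⟨(i, -t), S.xP_neg i t⟩
      · exact Or.inr ⟨(i, -t), S.xN_neg i t⟩
    have step : ∀ x z, z ∈ (Set.range (fun x : S.I × F => S.xP x.1 x.2) ∪
        Set.range fun x : S.I × F => S.xN x.1 x.2) →
        (∃ v ∈ S.UN, ∃ c, ∃ u ∈ S.UP, ∃ w ∈ S.UN, x = v * S.hT c * u * w) →
        ∃ v ∈ S.UN, ∃ c, ∃ u ∈ S.UP, ∃ w ∈ S.UN, x * z = v * S.hT c * u * w := by
      rintro x z (⟨⟨i, t⟩, rfl⟩ | ⟨⟨i, t⟩, rfl⟩) ⟨v, hv, c, u, hu, w, hw, rfl⟩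
      · obtain ⟨k, hk, hk0, hwk⟩ := S.dual.decomp i hw
        obtain ⟨k0, hk0', hk00, huk⟩ := S.decomp' i hu
        set a := S.dual.φ i w
        set b := S.φ i u
        have hwk' : w = S.xN i a * k := hwk
        obtain ⟨p, d, q, r, e⟩ := S.rank_one hF i b a t
        have hk' : S.xP i (-t) * k * (S.xP i (-t))⁻¹ ∈ S.UN := S.ψ_inv i (-t) k hk hk0
        have hk0n : S.xN i (-p) * k0 * (S.xN i (-p))⁻¹ ∈ S.UP := S.φ_inv i (-p) k0 hk0' hk00
        set h' := S.hh i (d : F) with hh'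
        have hh2 : h' = S.hT (Pi.mulSingle i d) := (S.hT_single i d).symm
        refine ⟨v * (S.hT c * S.xN i p * (S.hT c)⁻¹), mul_mem hv (S.hT_mem_UN c (S.xN_mem _ _)),
          c * Pi.mulSingle i d,
          (h'⁻¹ * (S.xN i (-p) * k0 * (S.xN i (-p))⁻¹) * h') * S.xP i q,
          mul_mem ?_ (S.xP_mem _ _), S.xN i r * (S.xP i (-t) * k * (S.xP i (-t))⁻¹),
          mul_mem (S.xN_mem _ _) hk', ?_⟩
        · have := S.hT_mem_UP (Pi.mulSingle i d)⁻¹ hk0n
          rwa [map_inv, inv_inv, ← hh2] at this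
        · rw [huk, hwk', map_mul, ← hh2]
          calc v * S.hT c * (k0 * S.xP i b) * (S.xN i a * k) * S.xP i t
              = v * S.hT c * k0 * (S.xP i b * S.xN i a * S.xP i t) *
                  (S.xP i (-t) * k * (S.xP i (-t))⁻¹) := by rw [S.xP_neg]; group
            _ = _ := by rw [e, S.xN_neg, S.xP_neg]; group
      · exact ⟨v, hv, c, u, hu, w * S.xN i t, mul_mem hw (S.xN_mem _ _), by group⟩
    intro x hx
    induction hx using Subgroup.closure_induction_right with
    | one => exact ⟨1, one_mem _, 1, 1, one_mem _, 1, one_mem _, by simp⟩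
    | mul_right x hx y hy ih => exact step x y hy ih
    | mul_inv_cancel x hx y hy ih => exact step x _ (hfin y hy) ih
  obtain ⟨v, hv, c, u, hu, w, hw, e⟩ := key g (by rw [S.gen]; trivial)
  exact ⟨w, hw, v, hv, c, u, hu, e⟩

/-- every element is conjugate into the big cell -/
theorem exists_cell [Fintype F] (hF : 9 ≤ Fintype.card F) (g : G) :
    ∃ y : G, ∃ c, S.InCell (y * g * y⁻¹) c := by
  obtain ⟨w, hw, v, hv, c, u, hu, e⟩ := S.exists_four hF g
  exact ⟨w, c, w * v, mul_mem hw hv, u, hu, by rw [e]; group⟩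

/-- `y g y⁻¹` lies in the cell of `c` -/
def Reach (g : G) (c : S.I → Fˣ) : Prop := ∃ y, S.InCell (y * g * y⁻¹) c

/-- some representative in the cell allows a move at `i` -/
def Ready (g : G) (c : S.I → Fˣ) (i : S.I) : Prop := ∃ y, ∃ v ∈ S.UN, ∃ u ∈ S.UP,
  y * g * y⁻¹ = v * S.hT c * u ∧ (S.root i c ≠ 1 ∨ S.ψ i v ≠ 0 ∨ S.φ i u ≠ 0)

theorem ready_of_root {g : G} {c : S.I → Fˣ} {i : S.I} (h : S.Reach g c) (h' : S.root i c ≠ 1) : S.Ready g c i := by
  obtain ⟨y, v, hv, u, hu, e⟩ := h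
  exact ⟨y, v, hv, u, hu, e, Or.inl h'⟩

/-- a move with nonzero upper coefficient -/
theorem move_upper {x : G} {c : S.I → Fˣ} {v u : G} (hv : v ∈ S.UN) (hu : u ∈ S.UP)
    (e : x = v * S.hT c * u) {i : S.I} (hb : S.φ i u ≠ 0) (d : Fˣ) :
    ∃ y, S.InCell (y * x * y⁻¹) (c * Pi.mulSingle i d) := by
  obtain ⟨k, hk, hk0, huk⟩ := S.decomp i hu
  set b := S.φ i u
  set s := (1 - (d : F)) / b
  have hd : 1 + b * -s = d := by simp only [s]; field_simp; ring
  have r := S.rk1 i b (-s) (by rw [hd]; exact d.ne_zero)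
  rw [hd, ← S.hT_single] at r
  set p := -s / (d : F)
  set q := b / (d : F)
  refine ⟨S.xN i s, S.xN i s * v * (S.hT c * S.xN i p * (S.hT c)⁻¹),
    mul_mem (mul_mem (S.xN_mem _ _) hv) (S.hT_mem_UN c (S.xN_mem _ _)),
    S.xP i q * (S.xN i s * k * (S.xN i s)⁻¹), mul_mem (S.xP_mem _ _) (S.φ_inv i s k hk hk0), ?_⟩
  rw [e, huk, map_mul]
  calc S.xN i s * (v * S.hT c * (S.xP i b * k)) * (S.xN i s)⁻¹
      = S.xN i s * v * S.hT c * (S.xP i b * S.xN i (-s)) * (S.xN i s * k * (S.xN i s)⁻¹) := by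
        rw [S.xN_neg]; group
    _ = _ := by rw [r]; group

theorem dual_hT (c : S.I → Fˣ) : S.dual.hT c = S.hT c⁻¹ := by
  have key : ∀ s : Finset S.I, S.dual.hT (∏ i ∈ s, Pi.mulSingle i (c i)) =
      S.hT (∏ i ∈ s, Pi.mulSingle i (c i))⁻¹ := by
    intro s
    induction s using Finset.induction_on with
    | empty => simp
    | @insert a s ha ih =>
      rw [Finset.prod_insert ha, map_mul S.dual.hT, ih, mul_inv, map_mul S.hT]
      congr 1
      rw [← Pi.mulSingle_inv, S.hT_single]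
      refine (S.dual.hT_single a (c a)).trans ?_
      show S.hh a ((c a : F))⁻¹ = _
      rw [Units.val_inv_eq_inv_val]
  have e := key Finset.univ
  rwa [Finset.univ_prod_mulSingle] at e

set_option maxHeartbeats 1000000 in
/-- a move -/
theorem move [Fintype F] {g : G} {c : S.I → Fˣ} {i : S.I} (h : S.Ready g c i) (d : Fˣ) :
    S.Reach g (c * Pi.mulSingle i d) := by
  obtain ⟨y, v, hv, u, hu, e, hr⟩ := h
  have upper : ∀ y v u, v ∈ S.UN → u ∈ S.UP → y * g * y⁻¹ = v * S.hT c * u → S.φ i u ≠ 0 →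
      S.Reach g (c * Pi.mulSingle i d) := by
    intro y v u hv hu e hb
    obtain ⟨z, hz⟩ := S.move_upper hv hu e hb d
    exact ⟨z * y, by rwa [show z * y * g * (z * y)⁻¹ = z * (y * g * y⁻¹) * z⁻¹ by group]⟩
  by_cases hb : S.φ i u ≠ 0
  · exact upper y v u hv hu e hb
  push Not at hb
  by_cases ha : S.ψ i v ≠ 0
  · -- through the opposite system
    have e' : (y * g * y⁻¹)⁻¹ = u⁻¹ * S.dual.hT c * v⁻¹ := by rw [e, S.dual_hT, map_inv]; group
    have hb' : S.dual.φ i v⁻¹ ≠ 0 := by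
      rw [S.dual.φ_inv' i hv]; exact neg_ne_zero.2 ha
    obtain ⟨z, v', hv', u', hu', ez⟩ :=
      S.dual.move_upper (inv_mem hu) (inv_mem hv) e' hb' d
    refine ⟨z * y, u'⁻¹, inv_mem hu', v'⁻¹, inv_mem hv', ?_⟩
    have hT' : S.dual.hT (c * Pi.mulSingle i d) = (S.hT (c * Pi.mulSingle i d))⁻¹ :=
      (S.dual_hT _).trans (map_inv _ _)
    have := congrArg (·⁻¹) ez
    simp only [mul_inv_rev, inv_inv] at this
    rw [show z * y * g * (z * y)⁻¹ = z * (y * g * y⁻¹ * z⁻¹) by group, this]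
    show u'⁻¹ * ((S.dual.hT (c * Pi.mulSingle i d))⁻¹ * v'⁻¹) = _
    rw [hT', inv_inv, mul_assoc]
  push Not at ha
  rcases hr with hr | hr | hr
  · -- create a coefficient
    obtain ⟨k, hk, hk0, huk⟩ := S.decomp i hu
    rw [hb, S.xP_zero, one_mul] at huk
    subst huk
    set r : F := ((S.root i c : Fˣ) : F)
    have hvv : S.xP i 1 * v * (S.xP i 1)⁻¹ ∈ S.UN := S.ψ_inv i 1 v hv ha
    refine upper (S.xP i 1 * y) _ (S.xP i r⁻¹ * u * S.xP i (-1)) hvv
      (mul_mem (mul_mem (S.xP_mem _ _) hu) (S.xP_mem _ _)) ?_ ?_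
    · have hc1 : S.xP i 1 * S.hT c = S.hT c * S.xP i r⁻¹ := by
        rw [S.hT_xP, mul_inv_cancel₀ (S.root i c).ne_zero]
      rw [show S.xP i 1 * y * g * (S.xP i 1 * y)⁻¹ = S.xP i 1 * (y * g * y⁻¹) * (S.xP i 1)⁻¹ by group, e,
        S.xP_neg]
      calc S.xP i 1 * (v * S.hT c * u) * (S.xP i 1)⁻¹
          = S.xP i 1 * v * (S.xP i 1)⁻¹ * (S.xP i 1 * S.hT c) * u * (S.xP i 1)⁻¹ := by group
        _ = _ := by rw [hc1]; group
    · rw [S.φ_add i _ _ (mul_mem (S.xP_mem _ _) hu) (S.xP_mem _ _), S.φ_add i _ _ (S.xP_mem _ _) hu,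
        S.φ_xP, S.φ_xP, if_pos rfl, if_pos rfl, hb, add_zero]
      intro h0
      apply hr
      apply Units.ext
      rw [Units.val_one]
      have h1 : r⁻¹ = 1 := by linear_combination h0
      exact inv_eq_one.1 h1
  · exact absurd ha hr
  · exact absurd hb hr

theorem root_one_comm {c : S.I → Fˣ} (h : ∀ i, S.root i c = 1) : S.hT c ∈ Subgroup.center G := by
  rw [Subgroup.mem_center_iff]
  intro x
  have hx : x ∈ Subgroup.closure (Set.range (fun x : S.I × F => S.xP x.1 x.2) ∪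
      Set.range fun x : S.I × F => S.xN x.1 x.2) := by rw [S.gen]; trivial
  refine (show Subgroup.closure _ ≤ Subgroup.centralizer {S.hT c} from (Subgroup.closure_le _).2 ?_) hx _ rfl |>.symm
  rintro _ (⟨⟨j, t⟩, rfl⟩ | ⟨⟨j, t⟩, rfl⟩) z (rfl : z = S.hT c)
  · rw [S.hT_xP, h, Units.val_one, one_mul]
  · rw [S.hT_xN, h, inv_one, Units.val_one, one_mul]

/-- some node of a noncentral element is ready -/
theorem exists_ready [Fintype F] (hF : 9 ≤ Fintype.card F) {g : G} (hg : g ∉ Subgroup.center G) :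
    ∃ c i, S.Ready g c i := by
  by_contra hno
  push Not at hno
  obtain ⟨y, c, v, hv, u, hu, e⟩ := S.exists_cell hF g
  have hall : ∀ i, S.root i c = 1 ∧ S.ψ i v = 0 ∧ S.φ i u = 0 := fun i => by
    refine ⟨?_, ?_, ?_⟩ <;> by_contra h
    · exact hno c i ⟨y, v, hv, u, hu, e, Or.inl h⟩
    · exact hno c i ⟨y, v, hv, u, hu, e, Or.inr (Or.inl h)⟩
    · exact hno c i ⟨y, v, hv, u, hu, e, Or.inr (Or.inr h)⟩
  have hz := S.root_one_comm fun i => (hall i).1
  have hroot := fun i => (hall i).1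
  -- conjugates under lower elements stay
  have stay : ∀ (T : Sys F G) (c : T.I → Fˣ), T.hT c ∈ Subgroup.center G →
      (∀ y v u, v ∈ T.UN → u ∈ T.UP → y * g * y⁻¹ = v * T.hT c * u → ∀ i, T.φ i u = 0) →
      ∀ y v u, v ∈ T.UN → u ∈ T.UP → y * g * y⁻¹ = v * T.hT c * u → u = 1 := by
    intro T c hz hzero y v u hv hu e
    have hfin : ∀ w ∈ Set.range (fun x : T.I × F => T.xN x.1 x.2),
        w⁻¹ ∈ Set.range (fun x : T.I × F => T.xN x.1 x.2) := by
      rintro w ⟨⟨i, t⟩, rfl⟩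
      exact ⟨(i, -t), T.xN_neg i t⟩
    have step : ∀ w z : G, z ∈ Set.range (fun x : T.I × F => T.xN x.1 x.2) →
        w ∈ T.UN → w * u * w⁻¹ ∈ T.UP → z * w * u * (z * w)⁻¹ ∈ T.UP := by
      rintro w _ ⟨⟨i, t⟩, rfl⟩ hw hwu
      have h0 := hzero (w * y) (w * v * w⁻¹) (w * u * w⁻¹) (mul_mem (mul_mem hw hv) (inv_mem hw)) hwu (by
        have hcw : Commute w (T.hT c) := Subgroup.mem_center_iff.1 hz w
        calc w * y * g * (w * y)⁻¹ = w * (y * g * y⁻¹) * w⁻¹ := by group
          _ = (w * v * w⁻¹) * (w * T.hT c) * u * w⁻¹ := by rw [e]; group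
          _ = _ := by rw [hcw.eq]; group) i
      have := T.φ_inv i t _ hwu h0
      dsimp only
      rwa [show T.xN i t * w * u * (T.xN i t * w)⁻¹ = T.xN i t * (w * u * w⁻¹) * (T.xN i t)⁻¹ by group]
    have allw : ∀ w ∈ T.UN, w * u * w⁻¹ ∈ T.UP := by
      intro w hw
      induction hw using Subgroup.closure_induction_left with
      | one => simpa using hu
      | mul_left x hx w hw ih => exact step w x hx hw ih
      | inv_mul_cancel x hx w hw ih => exact step w _ (hfin x hx) hw ih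
    have hn : ∀ x ∈ T.UP, T.n0 * x * T.n0⁻¹ ∈ T.UN := by
      intro x hx
      induction hx using Subgroup.closure_induction with
      | mem z hz => obtain ⟨⟨j, t⟩, rfl⟩ := hz; exact T.n0_xP j t
      | one => simp
      | mul a b _ _ iha ihb =>
        rw [show T.n0 * (a * b) * T.n0⁻¹ = (T.n0 * a * T.n0⁻¹) * (T.n0 * b * T.n0⁻¹) by group]
        exact mul_mem iha ihb
      | inv a _ iha =>
        rw [show T.n0 * a⁻¹ * T.n0⁻¹ = (T.n0 * a * T.n0⁻¹)⁻¹ by group]
        exact inv_mem iha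
    obtain ⟨wn, hwn, vv, hvv, cc, uu, huu, hn0⟩ : ∃ w ∈ T.UN, ∃ v ∈ T.UN, ∃ c, ∃ u ∈ T.UP,
        T.n0 = v * T.hT c * u * w := T.exists_four hF T.n0
    have h1 : wn * u * wn⁻¹ ∈ T.UP := allw wn hwn
    have h2 : T.hT cc * (uu * (wn * u * wn⁻¹) * uu⁻¹) * (T.hT cc)⁻¹ ∈ T.UP :=
      T.hT_mem_UP cc (mul_mem (mul_mem huu h1) (inv_mem huu))
    have h3 := hn u hu
    rw [hn0, show vv * T.hT cc * uu * wn * u * (vv * T.hT cc * uu * wn)⁻¹ =
      vv * (T.hT cc * (uu * (wn * u * wn⁻¹) * uu⁻¹) * (T.hT cc)⁻¹) * vv⁻¹ by group] at h3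
    have h4 := mul_mem (mul_mem (inv_mem hvv) h3) hvv
    rw [show vv⁻¹ * (vv * (T.hT cc * (uu * (wn * u * wn⁻¹) * uu⁻¹) * (T.hT cc)⁻¹) * vv⁻¹) * vv =
      T.hT cc * (uu * (wn * u * wn⁻¹) * uu⁻¹) * (T.hT cc)⁻¹ by group] at h4
    have h5 := T.disj _ h2 h4
    simpa [conj_eq_one_iff, mul_inv_eq_one] using h5
  have hu1 : u = 1 := stay S c hz (fun y v u hv hu e i => by
    by_contra h
    exact hno c i ⟨y, v, hv, u, hu, e, Or.inr (Or.inr h)⟩) y v u hv hu e
  subst hu1
  rw [mul_one] at e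
  -- the lower part
  have hz' : S.dual.hT c⁻¹ = S.hT c := by rw [S.dual_hT, inv_inv]
  have hv1 : v = 1 := by
    refine stay S.dual c⁻¹ (hz'.symm ▸ hz) (fun y' v' u' hv' hu' e' i => ?_) y 1 v (one_mem _) hv ?_
    · by_contra h
      rw [hz'] at e'
      refine hno c i ⟨u' * y', u', hu', v', hv', ?_, Or.inr (Or.inl h)⟩
      calc u' * y' * g * (u' * y')⁻¹ = u' * (y' * g * y'⁻¹) * u'⁻¹ := by group
        _ = u' * (v' * S.hT c * u') * u'⁻¹ := by rw [e']
        _ = u' * (v' * S.hT c) := by group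
        _ = u' * (S.hT c * v') := by rw [(Subgroup.mem_center_iff.1 hz v').symm]
        _ = _ := by group
    · rw [hz', one_mul, e]
      exact (Subgroup.mem_center_iff.1 hz v)
  subst hv1
  rw [one_mul] at e
  apply hg
  have : g = y⁻¹ * S.hT c * y := by rw [← e]; group
  rw [this]
  have hcy := Subgroup.mem_center_iff.1 hz y⁻¹
  rw [hcy, mul_assoc, inv_mul_cancel, mul_one]
  exact hz

end Sys

end CfsgLib.Known.ClassSquare

namespace CfsgLib.Known.ClassSquare

namespace Sys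

universe u v

variable {F : Type u} [Field F] [Fintype F] {G : Type v} [Group G] (S : Sys F G)

open scoped Classical in
theorem card_bad (n : ℤ) (hn : n ≠ 0) (a : Fˣ) :
    (Finset.univ.filter fun d : Fˣ => a * d ^ n = 1).card ≤ n.natAbs := by
  rcases Finset.eq_empty_or_nonempty (Finset.univ.filter fun d : Fˣ => a * d ^ n = 1) with h | ⟨d₀, hd₀⟩
  · simp [h]
  refine le_trans (Finset.card_le_card_of_injOn (fun d => d / d₀)
    (t := Finset.univ.filter fun e : Fˣ => e ^ n.natAbs = 1) ?_ ?_) ?_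
  · intro d hd
    simp only [Finset.mem_coe, Finset.mem_filter, Finset.mem_univ, true_and] at hd hd₀ ⊢
    have : (d / d₀) ^ n = 1 := by
      rw [div_zpow, div_eq_one]
      exact mul_left_cancel (hd.trans hd₀.symm)
    rcases Int.natAbs_eq n with e | e
    · rwa [e, zpow_natCast] at this
    · rwa [e, zpow_neg, inv_eq_one, zpow_natCast] at this
  · intro a _ b _ h
    exact div_left_injective h
  · exact IsCyclic.card_pow_eq_one_le (Int.natAbs_pos.2 hn)

theorem root_update (c : S.I → Fˣ) (i k : S.I) (d : Fˣ) :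
    S.root k (c * Pi.mulSingle i d) = S.root k c * d ^ S.A i k := by rw [map_mul, S.root_single]

open scoped Classical in
/-- values of a move at `p` keeping roots nontrivial -/
theorem exists_keep (hF : 9 ≤ Fintype.card F) (c : S.I → Fˣ) (p : S.I) (bad : Finset Fˣ) (hb : bad.card ≤ 2) :
    ∃ d : Fˣ, d ∉ bad ∧ ∀ k, S.A p k ≠ 0 → S.root k (c * Pi.mulSingle p d) ≠ 1 := by
  set B := bad ∪ (Finset.univ : Finset S.I).biUnion fun k =>
    if S.A p k = 0 then ∅ else Finset.univ.filter fun d : Fˣ => S.root k c * d ^ S.A p k = 1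
  have hB : B.card ≤ 7 := by
    refine (Finset.card_union_le _ _).trans ?_
    have h1 : ∀ k, (if S.A p k = 0 then ∅ else Finset.univ.filter fun d : Fˣ =>
        S.root k c * d ^ S.A p k = 1).card ≤ (S.A p k).natAbs := fun k => by
      split_ifs with h
      · simp
      · exact card_bad _ h _
    have h2 := Finset.card_biUnion_le.trans (Finset.sum_le_sum fun k (_ : k ∈ (Finset.univ : Finset S.I)) => h1 k)
    rw [← Finset.add_sum_erase _ _ (Finset.mem_univ p), S.A_diag] at h2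
    have h3 := S.A_sum p
    simp only [Int.reduceAbs] at h2
    omega
  obtain ⟨d, -, hd⟩ := Finset.exists_mem_notMem_of_card_lt_card (s := B) (t := (Finset.univ : Finset Fˣ))
    (by rw [Finset.card_univ, Fintype.card_units]; omega)
  simp only [B, Finset.mem_union, Finset.mem_biUnion, Finset.mem_univ, true_and, not_or, not_exists] at hd
  refine ⟨d, hd.1, fun k hk => ?_⟩
  have := hd.2 k
  rw [if_neg hk, Finset.mem_filter] at this
  rw [S.root_update]
  exact fun h => this ⟨Finset.mem_univ _, h⟩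

open scoped Classical in
/-- all simple roots can be made nontrivial at once -/
theorem exists_generic (hF : 9 ≤ Fintype.card F) {g : G} (hg : g ∉ Subgroup.center G) :
    ∃ c, S.Reach g c ∧ ∀ k, S.root k c ≠ 1 := by
  obtain ⟨c, i, hr⟩ := S.exists_ready hF hg
  let nb := fun (s : Finset S.I) (p : S.I) => s ∪ Finset.univ.filter fun k => S.A p k ≠ 0
  have main : ∀ n, ∀ s : Finset S.I, n = (Finset.univ \ s).card → s.Nonempty →
      ∀ c, S.Reach g c → (∀ k ∈ s, S.root k c ≠ 1) → ∃ c, S.Reach g c ∧ ∀ k, S.root k c ≠ 1 := by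
    intro n
    induction n using Nat.strong_induction_on with
    | _ n ih =>
      intro s hn hs c hc hsc
      by_cases hall : ∀ p ∈ s, ∀ k, S.A p k ≠ 0 → k ∈ s
      · have := S.connected s hs hall
        subst this
        exact ⟨c, hc, fun k => hsc k (Finset.mem_univ k)⟩
      · simp only [not_forall] at hall
        obtain ⟨p, hp, k, hk, hks⟩ := hall
        obtain ⟨d, -, hd⟩ := S.exists_keep hF c p ∅ (by simp)
        refine ih _ ?_ (nb s p) rfl (hs.mono Finset.subset_union_left) _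
          (S.move (S.ready_of_root hc (hsc p hp)) d) fun l hl => ?_
        · rw [hn]
          refine Finset.card_lt_card ?_
          rw [Finset.ssubset_iff_of_subset (Finset.sdiff_subset_sdiff le_rfl Finset.subset_union_left)]
          exact ⟨k, by simp [hks], by simp [nb, hk]⟩
        · by_cases hpl : S.A p l = 0
          · simp only [nb, Finset.mem_union, Finset.mem_filter, hpl, ne_eq, not_true_eq_false, and_false,
              or_false] at hl
            rw [S.root_update, hpl, zpow_zero, mul_one]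
            exact hsc l hl
          · exact hd l hpl
  obtain ⟨d, -, hd⟩ := S.exists_keep hF c i ∅ (by simp)
  exact main _ {i} rfl ⟨i, Finset.mem_singleton_self i⟩ _ (S.move hr d) fun k hk => by
    rw [Finset.mem_singleton] at hk
    subst hk
    exact hd k (by rw [S.A_diag]; norm_num)

open scoped Classical in
/-- **Gauss decomposition with prescribed torus part** -/
theorem reach (hF : 9 ≤ Fintype.card F) {g : G} (hg : g ∉ Subgroup.center G) (τ : S.I → Fˣ) : S.Reach g τ := by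
  obtain ⟨c₀, hc₀, hgen₀⟩ := S.exists_generic hF hg
  let N := Fintype.card S.I
  let e : S.I ≃ Fin N := Fintype.equivFin S.I
  let mix : ℕ → (S.I → Fˣ) → S.I → Fˣ := fun i c k => if (e k : ℕ) < i then τ k else c k
  -- right to left: intermediate values
  have back : ∀ k ≤ N, ∃ c, S.Reach g c ∧ (∀ l, S.root l c ≠ 1) ∧
      ∀ l, N - k ≤ (e l : ℕ) → S.root l (mix (e l) c) ≠ 1 := by
    intro k
    induction k with
    | zero => exact fun _ => ⟨c₀, hc₀, hgen₀, fun l hl => absurd (e l).2 (by omega)⟩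
    | succ k ih =>
      intro hk
      obtain ⟨c, hc, hgen, hpre⟩ := ih (by omega)
      set i := e.symm ⟨N - (k + 1), by omega⟩
      have hi : (e i : ℕ) = N - (k + 1) := by simp [i]
      obtain ⟨d, hd, hkeep⟩ := S.exists_keep hF c i
        (Finset.univ.filter fun d : Fˣ => S.root i (mix (e i) c) * d ^ (2 : ℤ) = 1)
        (le_trans (by exact card_bad (2 : ℤ) (by norm_num) (S.root i (mix (e i) c))) (by norm_num))
      have hrd : S.Ready g c i := S.ready_of_root hc (hgen i)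
      have hmove := @Sys.move F _ G _ S _ g c i hrd d
      refine ⟨_, hmove, fun l => ?_, fun l hl => ?_⟩
      · by_cases h : S.A i l = 0
        · rw [S.root_update, h, zpow_zero, mul_one]; exact hgen l
        · exact hkeep l h
      · rcases Nat.lt_or_ge (e l : ℕ) (N - k) with hlt | hge
        · have hli : l = i := e.injective (Fin.ext (by omega))
          subst l
          have hmix : mix (e i) (c * Pi.mulSingle i d) = mix (e i) c * Pi.mulSingle i d := by
            funext m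
            simp only [mix, Pi.mul_apply]
            split_ifs with h
            · rw [Pi.mulSingle_eq_of_ne (fun hm => by subst hm; omega), mul_one]
            · rfl
          rw [hmix, S.root_update, S.A_diag]
          intro h
          exact hd (Finset.mem_filter.2 ⟨Finset.mem_univ _, h⟩)
        · have hmix : mix (e l) (c * Pi.mulSingle i d) = mix (e l) c := by
            funext m
            simp only [mix, Pi.mul_apply]
            split_ifs with h
            · rfl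
            · rw [Pi.mulSingle_eq_of_ne (fun hm => by subst hm; omega), mul_one]
          rw [hmix]; exact hpre l hge
  obtain ⟨c, hc, -, hpre⟩ := back N le_rfl
  have fwd : ∀ i ≤ N, S.Reach g (mix i c) := by
    intro i
    induction i with
    | zero =>
      intro _
      rwa [show mix 0 c = c from funext fun k => by simp [mix]]
    | succ i ih =>
      intro hi
      set l := e.symm ⟨i, by omega⟩
      have hl : (e l : ℕ) = i := by simp [l]
      have h : S.Reach g (mix i c * Pi.mulSingle l ((c l)⁻¹ * τ l)) := S.move (S.ready_of_root (ih (by omega)) (hl ▸ hpre l (by omega))) ((c l)⁻¹ * τ l)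
      rwa [show mix (i + 1) c = mix i c * Pi.mulSingle l ((c l)⁻¹ * τ l) from funext fun m => ?_]
      simp only [mix, Pi.mul_apply]
      by_cases hm : m = l
      · subst hm
        rw [Pi.mulSingle_eq_same, if_pos (by omega), if_neg (by omega), mul_inv_cancel_left]
      · rw [Pi.mulSingle_eq_of_ne hm, mul_one]
        have : (e m : ℕ) ≠ i := fun h' => hm (e.injective (Fin.ext (h'.trans hl.symm)))
        by_cases h' : (e m : ℕ) < i
        · rw [if_pos h', if_pos (by omega)]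
        · rw [if_neg h', if_neg (by omega)]
  have := fwd N le_rfl
  rwa [show mix N c = τ from funext fun k => by simp [mix, (e k).2]] at this

end Sys

end CfsgLib.Known.ClassSquare
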