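import Cfsg.Agent.Lib.Known.ClassSquare.RegPair
import Cfsg.Agent.Lib.Known.ClassSquare.Gauss

/-!
# A class whose square is everything

From the Gauss decomposition and the factorisation into regular unipotents in a Levi subgroup of type `A`.
-/

set_option autoImplicit false

namespace CfsgLib.Known.ClassSquare

open Matrix

universe u v

variable {F : Type u} [Field F]

/-- regular unipotent matrix -/
def RegM {k : ℕ} (x : Matrix (Fin k) (Fin k) F) : Prop := (x - 1) ^ k = 0 ∧ (x - 1) ^ (k - 1) ≠ 0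

/-- upper unitriangular -/
def UpperM {k : ℕ} (x : Matrix (Fin k) (Fin k) F) : Prop := (∀ i j, j < i → x i j = 0) ∧ ∀ i, x i i = 1

/-- lower unitriangular -/
def LowerM {k : ℕ} (x : Matrix (Fin k) (Fin k) F) : Prop := (∀ i j, i < j → x i j = 0) ∧ ∀ i, x i i = 1

theorem regM_iff {k : ℕ} (x : Matrix (Fin k) (Fin k) F) :
    RegM x ↔ IsReg k (Matrix.toLinAlgEquiv' x) := by
  have e : ∀ m, (Matrix.toLinAlgEquiv' x - 1) ^ m = Matrix.toLinAlgEquiv' ((x - 1) ^ m) := fun m => by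
    rw [map_pow, map_sub, map_one]
  unfold RegM IsReg
  rw [e, e, map_eq_zero_iff _ Matrix.toLinAlgEquiv'.injective, ne_eq, ne_eq,
    map_eq_zero_iff _ Matrix.toLinAlgEquiv'.injective]

theorem RegM.inv {k : ℕ} {x : Matrix.SpecialLinearGroup (Fin k) F} (h : RegM x.1) : RegM (x⁻¹).1 := by
  obtain ⟨z, hz, hxz, hzx⟩ := ((regM_iff x.1).1 h).exists_inv
  rw [regM_iff]
  convert hz using 1
  calc Matrix.toLinAlgEquiv' (x⁻¹).1 = z * Matrix.toLinAlgEquiv' x.1 * Matrix.toLinAlgEquiv' (x⁻¹).1 := by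
        rw [hzx, one_mul]
    _ = z := by
        rw [mul_assoc, ← map_mul, ← Matrix.SpecialLinearGroup.coe_mul, mul_inv_cancel,
          Matrix.SpecialLinearGroup.coe_one, map_one, mul_one]

theorem RegM.exists_conj {k : ℕ} {x y : Matrix.SpecialLinearGroup (Fin (k + 1)) F} (hx : RegM x.1)
    (hy : RegM y.1) : ∃ (c : Fˣ) (S : Matrix.SpecialLinearGroup (Fin (k + 1)) F),
      y.1 = S.1 * (Matrix.diagonal (Function.update 1 0 (c : F)) * x.1 *
        Matrix.diagonal (Function.update 1 0 ((c : F))⁻¹)) * (S⁻¹).1 := by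
  obtain ⟨P, hP⟩ := ((regM_iff x.1).1 hx).exists_conj (Module.finrank_fin_fun F) ((regM_iff y.1).1 hy)
  let M := Matrix.toLinAlgEquiv'.symm (P : (Fin (k + 1) → F) →ₗ[F] Fin (k + 1) → F)
  let M' := Matrix.toLinAlgEquiv'.symm (P.symm : (Fin (k + 1) → F) →ₗ[F] Fin (k + 1) → F)
  have h1 : M * M' = 1 := by
    rw [← map_mul, ← map_one Matrix.toLinAlgEquiv'.symm]
    congr 1
    exact LinearMap.ext fun v => P.apply_symm_apply v
  have hy' : y.1 = M * x.1 * M' := by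
    apply Matrix.toLinAlgEquiv'.injective
    rw [hP, map_mul, map_mul, AlgEquiv.apply_symm_apply, AlgEquiv.apply_symm_apply, LinearEquiv.conj_apply]
    rfl
  have hdet : M.det * M'.det = 1 := by rw [← Matrix.det_mul, h1, Matrix.det_one]
  let c : Fˣ := ⟨M.det, M'.det, hdet, by rw [mul_comm]; exact hdet⟩
  set D : Matrix (Fin (k + 1)) (Fin (k + 1)) F := Matrix.diagonal (Function.update 1 0 (c : F))
  set D' : Matrix (Fin (k + 1)) (Fin (k + 1)) F := Matrix.diagonal (Function.update 1 0 ((c : F))⁻¹)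
  have hDD : D' * D = 1 := by
    simp only [D, D', Matrix.diagonal_mul_diagonal, ← Matrix.diagonal_one]
    congr 1
    funext i
    by_cases hi : i = 0
    · subst hi; simp
    · simp [hi]
  have hdD : D'.det = ((c : F))⁻¹ := by
    simp [D', Matrix.det_diagonal, Finset.prod_update_of_mem]
  let S : Matrix.SpecialLinearGroup (Fin (k + 1)) F := ⟨M * D', by
    rw [Matrix.det_mul, hdD]; exact mul_inv_cancel₀ c.ne_zero⟩
  refine ⟨c, S, ?_⟩
  have hS : (S⁻¹).1 = D * M' := by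
    rw [← one_mul (S⁻¹).1, ← show D * M' * S.1 = 1 from ?_, mul_assoc, ← Matrix.SpecialLinearGroup.coe_mul,
      mul_inv_cancel, Matrix.SpecialLinearGroup.coe_one, mul_one]
    show D * M' * (M * D') = 1
    rw [show D * M' * (M * D') = D * (M' * M) * D' by simp only [mul_assoc], mul_eq_one_comm.1 h1, mul_one,
      mul_eq_one_comm.1 hDD]
  rw [hS, hy']
  show M * x.1 * M' = M * D' * (D * x.1 * D') * (D * M')
  calc M * x.1 * M' = M * (D' * D) * x.1 * (D' * D) * M' := by rw [hDD, mul_one, mul_one]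
    _ = _ := by simp only [mul_assoc]

/-- conjugation of special linear matrices by a diagonal matrix -/
def conjDiag {k : ℕ} (c : Fˣ) :
    Matrix.SpecialLinearGroup (Fin (k + 1)) F → Matrix.SpecialLinearGroup (Fin (k + 1)) F := fun x =>
  ⟨Matrix.diagonal (Function.update 1 0 (c : F)) * x.1 * Matrix.diagonal (Function.update 1 0 ((c : F))⁻¹), by
    rw [Matrix.det_mul, Matrix.det_mul, x.2, mul_one, Matrix.det_diagonal, Matrix.det_diagonal,
      Finset.prod_update_of_mem (Finset.mem_univ _), Finset.prod_update_of_mem (Finset.mem_univ _)]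
    simp⟩

/-- the data of a Levi subgroup of type `A` with a torus element isolating it -/
structure LeviData {G : Type v} [Group G] (S : Sys F G) where
  B : Type
  [finB : Fintype B]
  nb : B → ℕ
  ι : (∀ b, Matrix.SpecialLinearGroup (Fin (nb b + 2)) F) →* G
  τ : S.I → Fˣ
  QP : Subgroup G
  QN : Subgroup G
  split_UP : ∀ u ∈ S.UP, ∃ x : ∀ b, Matrix.SpecialLinearGroup (Fin (nb b + 2)) F,
    (∀ b, UpperM (x b).1) ∧ ∃ q ∈ QP, u = ι x * q
  split_UN : ∀ v ∈ S.UN, ∃ x : ∀ b, Matrix.SpecialLinearGroup (Fin (nb b + 2)) F,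
    (∀ b, LowerM (x b).1) ∧ ∃ q ∈ QN, v = q * ι x
  t_comm : ∀ x, Commute (S.hT τ) (ι x)
  conj_QP : ∀ x, ∀ q ∈ QP, ι x * q * (ι x)⁻¹ ∈ QP
  conj_QN : ∀ x, ∀ q ∈ QN, ι x * q * (ι x)⁻¹ ∈ QN
  t_QP : ∀ q ∈ QP, S.hT τ * q * (S.hT τ)⁻¹ ∈ QP
  t_QN : ∀ q ∈ QN, S.hT τ * q * (S.hT τ)⁻¹ ∈ QN
  fix_QP : ∀ q ∈ QP, Commute (S.hT τ) q → q = 1
  fix_QN : ∀ q ∈ QN, Commute (S.hT τ) q → q = 1
  diag : ∀ c : B → Fˣ, ∃ e, Commute e (S.hT τ) ∧ ∀ x, e * ι x * e⁻¹ = ι fun b => conjDiag (c b) (x b)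
  invert : ∃ w, w * (S.hT τ)⁻¹ * w⁻¹ = S.hT τ ∧ ∃ x x', (∀ b, RegM (x b).1) ∧ (∀ b, RegM (x' b).1) ∧
    w * ι x * w⁻¹ = ι x'

attribute [instance] LeviData.finB

namespace LeviData

variable {G : Type v} [Group G] {S : Sys F G} (L : LeviData S)

/-- the torus element -/
noncomputable abbrev t : G := S.hT L.τ

theorem conj_reg {x y : ∀ b, Matrix.SpecialLinearGroup (Fin (L.nb b + 2)) F} (hx : ∀ b, RegM (x b).1)
    (hy : ∀ b, RegM (y b).1) : ∃ u, L.t * L.ι y = u * (L.t * L.ι x) * u⁻¹ := by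
  choose c T hT using fun b => (hx b).exists_conj (hy b)
  obtain ⟨e, he, hex⟩ := L.diag c
  refine ⟨L.ι T * e, ?_⟩
  have h1 : y = T * (fun b => conjDiag (c b) (x b)) * T⁻¹ := funext fun b => Subtype.ext (hT b)
  rw [h1, map_mul, map_mul, map_inv, ← hex]
  have c1 : Commute L.t (L.ι T * e) := (L.t_comm T).mul_right he.symm
  calc L.t * (L.ι T * (e * L.ι x * e⁻¹) * (L.ι T)⁻¹) = L.t * (L.ι T * e) * L.ι x * (L.ι T * e)⁻¹ := by group
    _ = L.ι T * e * L.t * L.ι x * (L.ι T * e)⁻¹ := by rw [c1.eq]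
    _ = _ := by group

variable [Fintype F]

theorem t_pow : L.t ^ (Fintype.card F - 1) = 1 := by
  rw [← map_pow, show L.τ ^ (Fintype.card F - 1) = 1 from funext fun i => ?_, map_one]
  classical
  rw [Pi.pow_apply, Pi.one_apply, ← Fintype.card_units]
  exact pow_card_eq_one

theorem cent_reg {x : ∀ b, Matrix.SpecialLinearGroup (Fin (L.nb b + 2)) F} (hx : ∀ b, RegM (x b).1) (r : G)
    (hr : Commute r (L.t * L.ι x)) : Commute L.t r := by
  classical
  obtain ⟨p, hp⟩ := CharP.exists F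
  have : Fact p.Prime := ⟨CharP.char_is_prime F p⟩
  let N := ∑ b, (L.nb b + 2)
  have hxN : x ^ p ^ N = 1 := by
    refine funext fun b => Subtype.ext ?_
    rw [Pi.pow_apply, Matrix.SpecialLinearGroup.coe_pow, Pi.one_apply, Matrix.SpecialLinearGroup.coe_one]
    have : CharP (Matrix (Fin (L.nb b + 2)) (Fin (L.nb b + 2)) F) p :=
      charP_of_injective_algebraMap (algebraMap F _).injective p
    have h := add_pow_char_pow_of_commute (p := p) (n := N) (Commute.one_right ((x b).1 - 1))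
    have hle : L.nb b + 2 ≤ p ^ N :=
      le_trans (Finset.single_le_sum (f := fun b => L.nb b + 2) (fun _ _ => Nat.zero_le _) (Finset.mem_univ b))
        (Nat.lt_pow_self (Fact.out : p.Prime).one_lt).le
    rw [sub_add_cancel, one_pow, pow_eq_zero_of_le hle (hx b).1, zero_add] at h
    exact h
  have hcard : Fintype.card F - 1 ≠ 0 := by have := Fintype.one_lt_card (α := F); omega
  have hcop : Nat.Coprime (p ^ N) (Fintype.card F - 1) := by
    obtain ⟨n, -, hn⟩ := FiniteField.card F p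
    refine Nat.Coprime.pow_left N ((Fact.out : p.Prime).coprime_iff_not_dvd.2 fun h => ?_)
    have h2 : p ∣ Fintype.card F := by rw [hn]; exact dvd_pow_self p n.ne_zero
    have := Nat.dvd_sub h2 h
    rw [Nat.sub_sub_self Fintype.card_pos] at this
    exact (Fact.out : p.Prime).one_lt.not_ge (Nat.le_of_dvd one_pos this)
  obtain ⟨e, he0, he1⟩ := Nat.chineseRemainder hcop 0 1
  have key : (L.t * L.ι x) ^ e = L.t := by
    rw [(L.t_comm x).mul_pow]
    obtain ⟨k, hk⟩ := Nat.modEq_zero_iff_dvd.1 he0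
    rw [hk, ← map_pow L.ι, pow_mul x, hxN, one_pow, map_one, mul_one, ← hk]
    rw [pow_eq_pow_mod e L.t_pow, he1, ← pow_eq_pow_mod 1 L.t_pow, pow_one]
  exact key ▸ (hr.pow_right e).symm

/-- the orbit trick -/
theorem absorb [Finite G] (Q : Subgroup G) (z : G) (hz : ∀ q ∈ Q, z * q * z⁻¹ ∈ Q)
    (hfix : ∀ q ∈ Q, Commute q z → q = 1) :
    (∀ q ∈ Q, ∃ r, q * z = r * z * r⁻¹) ∧ ∀ q ∈ Q, ∃ r, z * q = r * z * r⁻¹ := by
  have hz' : ∀ q ∈ Q, z⁻¹ * q * z ∈ Q := by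
    intro q hq
    have hinj : Function.Injective fun a : Q => (⟨z * a * z⁻¹, hz a a.2⟩ : Q) := fun a b h =>
      Subtype.ext (by simpa using congrArg Subtype.val h)
    obtain ⟨r, hr⟩ := Finite.surjective_of_injective hinj ⟨q, hq⟩
    have hr' : z * (r : G) * z⁻¹ = q := congrArg Subtype.val hr
    have : z⁻¹ * q * z = r := by rw [← hr']; group
    rw [this]; exact r.2
  constructor
  · intro q hq
    let f : Q → Q := fun r => ⟨r * z * (r : G)⁻¹ * z⁻¹, by
      rw [show (r : G) * z * (r : G)⁻¹ * z⁻¹ = r * (z * (r : G)⁻¹ * z⁻¹) by group]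
      exact mul_mem r.2 (hz _ (inv_mem r.2))⟩
    have hf : Function.Injective f := fun a b h => by
      have h' : (a : G) * z * (a : G)⁻¹ * z⁻¹ = b * z * (b : G)⁻¹ * z⁻¹ := congrArg Subtype.val h
      have hc : Commute ((b : G)⁻¹ * a) z := by
        show (b : G)⁻¹ * a * z = z * ((b : G)⁻¹ * a)
        calc (b : G)⁻¹ * a * z = (b : G)⁻¹ * (a * z * (a : G)⁻¹ * z⁻¹) * z * a := by group
          _ = _ := by rw [h']; group
      have := hfix _ (mul_mem (inv_mem b.2) a.2) hc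
      exact Subtype.ext (inv_mul_eq_one.1 this).symm
    obtain ⟨r, hr⟩ := Finite.surjective_of_injective hf ⟨q, hq⟩
    have hr' : (r : G) * z * (r : G)⁻¹ * z⁻¹ = q := congrArg Subtype.val hr
    exact ⟨r, by rw [← hr']; group⟩
  · intro q hq
    let f : Q → Q := fun r => ⟨z⁻¹ * r * z * (r : G)⁻¹, mul_mem (hz' _ r.2) (inv_mem r.2)⟩
    have hf : Function.Injective f := fun a b h => by
      have h' : z⁻¹ * (a : G) * z * (a : G)⁻¹ = z⁻¹ * b * z * (b : G)⁻¹ := congrArg Subtype.val h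
      have hc : Commute ((b : G)⁻¹ * a) z := by
        show (b : G)⁻¹ * a * z = z * ((b : G)⁻¹ * a)
        calc (b : G)⁻¹ * a * z = (b : G)⁻¹ * z * (z⁻¹ * a * z * (a : G)⁻¹) * a := by group
          _ = _ := by rw [h']; group
      have := hfix _ (mul_mem (inv_mem b.2) a.2) hc
      exact Subtype.ext (inv_mul_eq_one.1 this).symm
    obtain ⟨r, hr⟩ := Finite.surjective_of_injective hf ⟨q, hq⟩
    have hr' : z⁻¹ * (r : G) * z * (r : G)⁻¹ = q := congrArg Subtype.val hr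
    exact ⟨r, by rw [← hr']; group⟩

theorem exists_factors (hF : 9 ≤ Fintype.card F) {k : ℕ} (x y : Matrix.SpecialLinearGroup (Fin (k + 2)) F)
    (hx : LowerM x.1) (hy : UpperM y.1) :
    ∃ a b : Matrix.SpecialLinearGroup (Fin (k + 2)) F, RegM a.1 ∧ RegM b.1 ∧ x * y = a * b := by
  obtain ⟨p, hp⟩ := CharP.exists F
  have : Fact p.Prime := ⟨CharP.char_is_prime F p⟩
  set K := Matrix.toLinAlgEquiv' (x * y).1 with hK
  have hdetK : LinearMap.det K = 1 := by rw [hK]; exact (LinearMap.det_toLin' _).trans (x * y).2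
  have hsc : K = 1 ∨ ∃ v, ∀ l : F, K v ≠ l • v := by
    refine or_iff_not_imp_right.2 fun h => ?_
    obtain ⟨l, hl⟩ : ∃ l : F, ∀ v, K v = l • v := by
      by_contra hc
      exact h (exists_noneigen K hc)
    have h00 : (x * y).1 0 0 = 1 := by
      rw [Matrix.SpecialLinearGroup.coe_mul, Matrix.mul_apply,
        Finset.sum_eq_single (0 : Fin (k + 2))]
      · rw [hx.2, hy.2, one_mul]
      · intro j _ hj
        rw [hx.1 0 j (Fin.pos_iff_ne_zero.2 hj), zero_mul]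
      · simp
    have := congrFun (hl (Pi.single 0 1)) 0
    rw [hK, Matrix.toLinAlgEquiv'_apply] at this
    simp at this
    have hl1 : l = 1 := by rw [← this]; simpa using h00
    exact LinearMap.ext fun v => by rw [hl, hl1, one_smul]; rfl
  obtain ⟨a, b, hab, ha, hb⟩ := exists_reg_mul hF (n := k) (Module.finrank_fin_fun F) K hdetK hsc
  set A := Matrix.toLinAlgEquiv'.symm a
  set B := Matrix.toLinAlgEquiv'.symm b
  have eA : Matrix.toLinAlgEquiv' A = a := AlgEquiv.apply_symm_apply _ _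
  have eB : Matrix.toLinAlgEquiv' B = b := AlgEquiv.apply_symm_apply _ _
  refine ⟨⟨A, ?_⟩, ⟨B, ?_⟩, (regM_iff A).2 (eA.symm ▸ ha), (regM_iff B).2 (eB.symm ▸ hb), ?_⟩
  · have := ha.det p; rw [← eA] at this; exact (LinearMap.det_toLin' A).symm.trans this
  · have := hb.det p; rw [← eB] at this; exact (LinearMap.det_toLin' B).symm.trans this
  · refine Subtype.ext (Matrix.toLinAlgEquiv'.injective ?_)
    show Matrix.toLinAlgEquiv' (x * y).1 = Matrix.toLinAlgEquiv' (A * B)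
    rw [map_mul Matrix.toLinAlgEquiv' A B, eA, eB, ← hab]

include L in
theorem square [Finite G] (hF : 9 ≤ Fintype.card F) : ∃ c : G,
    (∀ g, g ∉ Subgroup.center G → ∃ u v : G, g = (u * c * u⁻¹) * (v * c * v⁻¹)) ∧
      ∃ u v : G, (1 : G) = (u * c * u⁻¹) * (v * c * v⁻¹) := by
  classical
  obtain ⟨w, hw, x₀, x₁, hx₀, hx₁, hwx⟩ := L.invert
  set R := x₀⁻¹
  have hR : ∀ b, RegM (R b).1 := fun b => (hx₀ b).inv
  refine ⟨L.t * L.ι R, fun g hg => ?_, ?_⟩
  · obtain ⟨y, v, hv, u, hu, e⟩ := S.reach hF hg (L.τ * L.τ)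
    obtain ⟨xu, hxu, q₂, hq₂, rfl⟩ := L.split_UP u hu
    obtain ⟨xl, hxl, q₁, hq₁, rfl⟩ := L.split_UN v hv
    choose Y Z hY hZ hYZ using fun b => exists_factors hF (xl b) (xu b) (hxl b) (hxu b)
    have hcomb : L.ι xl * L.ι xu = L.ι Y * L.ι Z := by
      rw [← map_mul, ← map_mul]; exact congrArg _ (funext hYZ)
    have fixer : ∀ (Q : Subgroup G) (z : ∀ b, Matrix.SpecialLinearGroup (Fin (L.nb b + 2)) F),
        (∀ b, RegM (z b).1) → (∀ q ∈ Q, Commute L.t q → q = 1) →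
        ∀ q ∈ Q, Commute q (L.t * L.ι z) → q = 1 := fun Q z hz hQ q hq hc => hQ q hq (L.cent_reg hz q hc)
    have stab : ∀ (Q : Subgroup G), (∀ x, ∀ q ∈ Q, L.ι x * q * (L.ι x)⁻¹ ∈ Q) →
        (∀ q ∈ Q, L.t * q * L.t⁻¹ ∈ Q) → ∀ z, ∀ q ∈ Q, (L.t * L.ι z) * q * (L.t * L.ι z)⁻¹ ∈ Q := by
      intro Q h1 h2 z q hq
      rw [show (L.t * L.ι z) * q * (L.t * L.ι z)⁻¹ = L.t * (L.ι z * q * (L.ι z)⁻¹) * L.t⁻¹ by group]
      exact h2 _ (h1 z q hq)
    obtain ⟨r₁, hr₁⟩ := (absorb L.QN (L.t * L.ι Y) (stab _ L.conj_QN L.t_QN Y)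
      (fixer _ Y hY L.fix_QN)).1 q₁ hq₁
    obtain ⟨r₂, hr₂⟩ := (absorb L.QP (L.t * L.ι Z) (stab _ L.conj_QP L.t_QP Z)
      (fixer _ Z hZ L.fix_QP)).2 q₂ hq₂
    obtain ⟨s₁, hs₁⟩ := L.conj_reg hR hY
    obtain ⟨s₂, hs₂⟩ := L.conj_reg hR hZ
    refine ⟨y⁻¹ * r₁ * s₁, y⁻¹ * r₂ * s₂, ?_⟩
    have hg' : g = y⁻¹ * (y * g * y⁻¹) * y := by group
    have htt : S.hT (L.τ * L.τ) = L.t * L.t := map_mul _ _ _
    have c1 := L.t_comm xl
    have c2 := L.t_comm Y
    have main : y * g * y⁻¹ = (q₁ * (L.t * L.ι Y)) * ((L.t * L.ι Z) * q₂) := by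
      rw [e, htt]
      calc q₁ * L.ι xl * (L.t * L.t) * (L.ι xu * q₂)
          = q₁ * ((L.ι xl * (L.t * L.t)) * L.ι xu) * q₂ := by group
        _ = q₁ * ((L.t * L.t) * (L.ι Y * L.ι Z)) * q₂ := by
            rw [← (c1.mul_left c1).eq, mul_assoc (L.t * L.t), hcomb]
        _ = q₁ * (L.t * (L.t * L.ι Y) * L.ι Z) * q₂ := by group
        _ = q₁ * (L.t * (L.ι Y * L.t) * L.ι Z) * q₂ := by rw [c2.eq]
        _ = _ := by group
    rw [hg', main, hr₁, hr₂, hs₁, hs₂]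
    group
  · obtain ⟨s, hs⟩ := L.conj_reg hR (hx₁)
    refine ⟨1, w⁻¹ * s, ?_⟩
    have hinv : (L.t * L.ι R)⁻¹ = w⁻¹ * (L.t * L.ι x₁) * w := by
      have hRi : (L.ι R)⁻¹ = L.ι x₀ := by rw [← map_inv, inv_inv]
      rw [_root_.mul_inv_rev, hRi, ← hwx]
      have hw' : w⁻¹ * L.t * w = L.t⁻¹ := by
        show w⁻¹ * S.hT L.τ * w = (S.hT L.τ)⁻¹
        conv_lhs => rw [← hw]
        group
      have hct : Commute (L.t)⁻¹ (L.ι x₀) := (L.t_comm x₀).inv_left
      calc L.ι x₀ * L.t⁻¹ = L.t⁻¹ * L.ι x₀ := hct.eq.symm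
        _ = (w⁻¹ * L.t * w) * L.ι x₀ := by rw [hw']
        _ = _ := by group
    rw [one_mul, inv_one, mul_one, show w⁻¹ * s * (L.t * L.ι R) * (w⁻¹ * s)⁻¹ = w⁻¹ * (s * (L.t * L.ι R) * s⁻¹) * w
      by group, ← hs, ← hinv, mul_inv_cancel]

include L in
/-- transfer to a quotient killing the centre -/
theorem square_image [Finite G] (hF : 9 ≤ Fintype.card F) {Q : Type*} [Group Q] (π : G →* Q)
    (hπ : Function.Surjective π) (hker : ∀ z ∈ Subgroup.center G, π z = 1) :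
    ∃ c : Q, ∀ g : Q, ∃ x y : Q, g = (x * c * x⁻¹) * (y * c * y⁻¹) := by
  obtain ⟨c, h1, u₀, v₀, h0⟩ := L.square hF
  refine ⟨π c, fun g => ?_⟩
  obtain ⟨g, rfl⟩ := hπ g
  by_cases hg : g ∈ Subgroup.center G
  · refine ⟨π u₀, π v₀, ?_⟩
    rw [hker g hg]
    simpa using congrArg π h0
  · obtain ⟨u, v, e⟩ := h1 g hg
    exact ⟨π u, π v, by simpa using congrArg π e⟩

end LeviData

end CfsgLib.Known.ClassSquare
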