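import Cfsg.Agent.Lib.Known.ClassSquare.Model
import Cfsg.Agent.Lib.Known.ClassicalSections
import Cfsg.Agent.Lib.Classical.SLGroup

/-!
# Helpers for the classical instances of the class square theorem
-/

set_option autoImplicit false

namespace CfsgLib.Known.ClassSquare

open Matrix

universe u v

variable {F : Type u} [Field F]

/-- an element interchanging two generated subgroups up to containment interchanges them exactly -/
theorem conj_inv_mem {G : Type v} [Group G] [Finite G] {A B : Subgroup G} {n : G}
    (h1 : ∀ x ∈ A, n * x * n⁻¹ ∈ B) (h2 : ∀ x ∈ B, n * x * n⁻¹ ∈ A) {y : G} (hy : y ∈ B) : n⁻¹ * y * n ∈ A := by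
  have hinj : Function.Injective fun a : A => (⟨n * (n * a * n⁻¹) * n⁻¹, h2 _ (h1 a a.2)⟩ : A) := fun a b h =>
    Subtype.ext (mul_left_cancel (mul_right_cancel (mul_left_cancel (mul_right_cancel (congrArg Subtype.val h)))))
  obtain ⟨a, ha⟩ := Finite.surjective_of_injective hinj ⟨n * y * n⁻¹, h2 y hy⟩
  have e : n * (n * (a : G) * n⁻¹) * n⁻¹ = n * y * n⁻¹ := congrArg Subtype.val ha
  have e' : n * (a : G) * n⁻¹ = y := mul_left_cancel (mul_right_cancel e)
  rw [← e', show n⁻¹ * (n * (a : G) * n⁻¹) * n = a by group]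
  exact a.2

/-- generated subgroups are mapped by conjugation -/
theorem conj_genOf_mem {G : Type v} [Group G] {I : Type} {X : I → F → G} {B : Subgroup G} {n : G}
    (h : ∀ i t, n * X i t * n⁻¹ ∈ B) {x : G} (hx : x ∈ genOf X) : n * x * n⁻¹ ∈ B := by
  induction hx using Subgroup.closure_induction with
  | mem z hz => obtain ⟨⟨i, t⟩, rfl⟩ := hz; exact h i t
  | one => simp
  | mul a b _ _ ha hb => have := mul_mem ha hb; simpa [mul_assoc] using this
  | inv a _ ha => have := inv_mem ha; simpa [mul_assoc] using this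

/-- a regular unipotent special linear matrix -/
theorem exists_regM (k : ℕ) : ∃ x : Matrix.SpecialLinearGroup (Fin (k + 2)) F, RegM x.1 := by
  let M : Matrix (Fin (k + 2)) (Fin (k + 2)) F := Matrix.of fun i j =>
    if (j : ℕ) = i then 1 else if (j : ℕ) = i + 1 then 1 else 0
  have hU : UpperM M := by
    refine ⟨fun i j h => ?_, fun i => by simp [M]⟩
    have : (j : ℕ) < i := h
    simp only [M, Matrix.of_apply]
    rw [if_neg (by omega), if_neg (by omega)]
  refine ⟨⟨M, ?_⟩, hU.regM fun i j h => ?_⟩
  · rw [Matrix.det_of_upperTriangular (fun i j h => hU.1 i j h)]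
    exact Finset.prod_eq_one fun i _ => hU.2 i
  · simp only [M, Matrix.of_apply, if_neg (show (j : ℕ) ≠ i by omega), if_pos h]
    exact one_ne_zero

theorem diagonal_transvection {ι : Type} [Fintype ι] [DecidableEq ι] (d : ι → F) {a b : ι} (t t' : F)
    (h : d a * t = t' * d b) :
    Matrix.diagonal d * Matrix.transvection a b t = Matrix.transvection a b t' * Matrix.diagonal d := by
  ext r c
  rw [Matrix.diagonal_mul, Matrix.mul_diagonal]
  simp only [Matrix.transvection, Matrix.add_apply, Matrix.one_apply, Matrix.single_apply]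
  by_cases h1 : a = r ∧ b = c
  · obtain ⟨rfl, rfl⟩ := h1
    by_cases h2 : a = b <;> simp_all [mul_add, add_mul] <;> ring
  · rw [if_neg h1, if_neg h1]
    by_cases h2 : r = c
    · subst h2; simp
    · simp [h2]

theorem blockSL_transvection {ι κ μ : Type} [Fintype ι] [DecidableEq ι] [Fintype κ] [DecidableEq κ] [Fintype μ]
    [DecidableEq μ] (e : ι ⊕ κ ≃ μ) {a b : ι} (h : a ≠ b) (t : F) :
    (ClassicalSections.blockSL e (Matrix.SpecialLinearGroup.transvection h t)).1 =
      Matrix.transvection (e (Sum.inl a)) (e (Sum.inl b)) t := by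
  ext r c
  obtain ⟨r, rfl⟩ := e.surjective r
  obtain ⟨c, rfl⟩ := e.surjective c
  show Matrix.reindex e e (Matrix.fromBlocks (Matrix.transvection a b t) 0 0 1) (e r) (e c) = _
  rcases r with r | r <;> rcases c with c | c <;>
    simp [Matrix.transvection, Matrix.one_apply, Matrix.single_apply]

end CfsgLib.Known.ClassSquare
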