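import Cfsg.Agent.Lib.Known.ClassSquare.ChevLevi
import Cfsg.Agent.Lib.Lie.Chev.Data.CertE6
import Cfsg.Agent.Lib.Known.ChevAut.Diag

/-!
# Class square data for type E6
-/

set_option autoImplicit false

namespace CfsgLib.Known.ClassSquare.Chev

open Cfsg.Lie
open CfsgLib.Lie.Chev

/-- the Levi data of type E6 -/
def specE6 : Spec where
  blocks := [[[(0, 0), (46, 1)], [(25, 1), (0, 0)]], [[(0, 0), (42, 1)], [(29, 1), (0, 0)]],
    [[(0, 0), (37, 1)], [(34, 1), (0, 0)]]]
  m := [4, 5, 7, 10, 7, 4]
  dv := [[-1, 0, -1, -1, 0, 1], [-1, 0, 0, 0, 0, 0], [0, 0, 0, 0, 0, -1]]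
  word := [0, 2, 3, 4, 5, 1, 3, 4, 2, 3, 0, 2, 1, 3, 4, 5, 3, 4, 2, 3, 0, 2, 1, 3, 4, 2, 3, 0, 2, 1, 3, 2, 0]

theorem specE6_ok : specE6.OK chevE6 auxE6 where
  entry := by decide +kernel
  comm := by decide +kernel
  triv := by decide +kernel
  cross := by decide +kernel
  base := by decide +kernel
  split := by decide +kernel
  diag := by decide +kernel
  wordOK := by decide +kernel

theorem sumE6_le : ∀ i : Fin chevE6.rank,
    ∑ k ∈ Finset.univ.erase i, (chevE6.cartan i (chevE6.simple k)).natAbs ≤ 3 := by decide +kernel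

theorem connE6 : ∀ S : Finset (Fin chevE6.rank), S.Nonempty →
    (∀ p ∈ S, ∀ k : Fin chevE6.rank, chevE6.cartan p (chevE6.simple k) ≠ 0 → k ∈ S) → S = Finset.univ := by
  decide +kernel

/-- steps showing that the simple root elements generate -/
def stepsE6 : List PStep :=
  [(56, (42, 57)), (57, (39, 58)), (58, (46, 61)), (61, (37, 62)), (62, (39, 64)), (64, (42, 67)), (67, (36,
    68)), (68, (37, 69)), (69, (39, 70)), (70, (46, 71)), (64, (36, 65)), (65, (37, 66)), (62, (36, 63)), (58,
    (37, 59)), (59, (36, 60)), (46, (39, 47)), (47, (42, 50)), (50, (37, 51)), (51, (39, 53)), (53, (36, 54)),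
    (54, (37, 55)), (51, (36, 52)), (47, (37, 48)), (48, (36, 49)), (42, (39, 43)), (43, (37, 44)), (44, (36,
    45)), (39, (37, 40)), (40, (36, 41)), (37, (36, 38))]

theorem chkGenE6 : chkGen chevE6 stepsE6 = true := by decide +kernel

universe u

/-- every element is a product of two members of one class -/
theorem squareE6 (F : Type u) [Field F] [Fintype F] (hF : 9 ≤ Fintype.card F) : ∃ c : ↥(chevE6.group F),
    ∀ g, ∃ x y : ↥(chevE6.group F), g = (x * c * x⁻¹) * (y * c * y⁻¹) := by
  have : Finite ↥(chevE6.group F) := (chevRel certE6 F).Finite_of_field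
  have hd : ∃ d : F, d ≠ 0 ∧ d ≠ 1 := by
    classical
    by_contra h
    push Not at h
    have : Finset.univ ⊆ ({0, 1} : Finset F) := fun d _ => by
      by_cases h0 : d = 0 <;> simp [h0, h d]
    have := (Finset.card_le_card this).trans Finset.card_le_two
    rw [Finset.card_univ] at this
    omega
  exact exists_square (chevRel certE6 F) specE6_ok (simpleGen_of_chk _ hd chkGenE6) connE6 sumE6_le hF
    (ChevAut.center_eq_bot certE6)

end CfsgLib.Known.ClassSquare.Chev
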