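import Cfsg.Agent.Lib.Known.ClassSquare.ChevLevi
import Cfsg.Agent.Lib.Lie.Chev.Data.CertE7
import Cfsg.Agent.Lib.Known.ChevAut.Diag

/-!
# Class square data for type E7
-/

set_option autoImplicit false

namespace CfsgLib.Known.ClassSquare.Chev

open Cfsg.Lie
open CfsgLib.Lie.Chev

/-- the Levi data of type E7 -/
def specE7 : Spec where
  blocks := [[[(0, 0), (93, 1), (94, -1)], [(32, 1), (0, 0), (73, 1)], [(31, -1), (52, 1), (0, 0)]],
    [[(0, 0), (66, 1), (67, -1)], [(59, 1), (0, 0), (64, 1)], [(58, -1), (61, 1), (0, 0)]]]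
  m := [7, 11, 14, 21, 16, 11, 6]
  dv := [[1, 0, 1, 1, 1, 1, 1], [0, 0, 0, 0, 1, 1, 1]]
  word := [6, 5, 4, 3, 2, 1, 3, 4, 5, 6, 0, 2, 3, 4, 5, 1, 3, 4, 2, 3, 0, 2, 1, 3, 4, 5, 6, 3, 4, 5, 1, 3, 4, 2, 3, 0,
    2, 1, 3, 4, 5, 3, 4, 2, 3, 0, 2, 1, 3, 4, 2, 3, 0, 2, 1, 3, 1]

theorem specE7_ok : specE7.OK chevE7 auxE7 where
  entry := by decide +kernel
  comm := by decide +kernel
  triv := by decide +kernel
  cross := by decide +kernel
  base := by decide +kernel
  split := by decide +kernel
  diag := by decide +kernel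
  wordOK := by decide +kernel

theorem sumE7_le : ∀ i : Fin chevE7.rank,
    ∑ k ∈ Finset.univ.erase i, (chevE7.cartan i (chevE7.simple k)).natAbs ≤ 3 := by decide +kernel

theorem connE7 : ∀ S : Finset (Fin chevE7.rank), S.Nonempty →
    (∀ p ∈ S, ∀ k : Fin chevE7.rank, chevE7.cartan p (chevE7.simple k) ≠ 0 → k ∈ S) → S = Finset.univ := by
  decide +kernel

/-- steps showing that the simple root elements generate -/
def stepsE7 : List PStep :=
  [(93, (73, 94)), (94, (69, 95)), (95, (78, 99)), (99, (66, 100)), (100, (69, 103)), (103, (73, 109)), (109,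
    (64, 110)), (110, (66, 112)), (112, (69, 115)), (115, (78, 119)), (119, (63, 120)), (120, (64, 121)), (121,
    (66, 122)), (122, (95, 125)), (122, (69, 123)), (123, (73, 124)), (115, (63, 116)), (116, (64, 117)), (117,
    (66, 118)), (112, (63, 113)), (113, (64, 114)), (110, (63, 111)), (103, (64, 104)), (104, (66, 106)), (106,
    (63, 107)), (107, (64, 108)), (104, (63, 105)), (100, (64, 101)), (101, (63, 102)), (95, (66, 96)), (96, (64,
    97)), (97, (63, 98)), (78, (69, 79)), (79, (73, 83)), (83, (66, 84)), (84, (69, 87)), (87, (64, 88)), (88,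
    (66, 90)), (90, (63, 91)), (91, (64, 92)), (88, (63, 89)), (84, (64, 85)), (85, (63, 86)), (79, (66, 80)),
    (80, (64, 81)), (81, (63, 82)), (73, (69, 74)), (74, (66, 75)), (75, (64, 76)), (76, (63, 77)), (69, (66,
    70)), (70, (64, 71)), (71, (63, 72)), (66, (64, 67)), (67, (63, 68)), (64, (63, 65))]

theorem chkGenE7 : chkGen chevE7 stepsE7 = true := by decide +kernel

universe u

/-- every element is a product of two members of one class -/
theorem squareE7 (F : Type u) [Field F] [Fintype F] (hF : 9 ≤ Fintype.card F) : ∃ c : ↥(chevE7.group F),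
    ∀ g, ∃ x y : ↥(chevE7.group F), g = (x * c * x⁻¹) * (y * c * y⁻¹) := by
  have : Finite ↥(chevE7.group F) := (chevRel certE7 F).Finite_of_field
  have hd : ∃ d : F, d ≠ 0 ∧ d ≠ 1 := by
    classical
    by_contra h
    push Not at h
    have : Finset.univ ⊆ ({0, 1} : Finset F) := fun d _ => by
      by_cases h0 : d = 0 <;> simp [h0, h d]
    have := (Finset.card_le_card this).trans Finset.card_le_two
    rw [Finset.card_univ] at this
    omega
  exact exists_square (chevRel certE7 F) specE7_ok (simpleGen_of_chk _ hd chkGenE7) connE7 sumE7_le hF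
    (ChevAut.center_eq_bot certE7)

end CfsgLib.Known.ClassSquare.Chev
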