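import Cfsg.Agent.Lib.Known.ClassSquare.ChevLevi
import Cfsg.Agent.Lib.Lie.Chev.Data.CertE8
import Cfsg.Agent.Lib.Known.ChevAut.Diag

/-!
# Class square data for type E8
-/

set_option autoImplicit false

namespace CfsgLib.Known.ClassSquare.Chev

open Cfsg.Lie
open CfsgLib.Lie.Chev

/-- the Levi data of type E8 -/
def specE8 : Spec where
  blocks := [[[(0, 0), (141, 1)], [(98, 1), (0, 0)]],
    [[(0, 0), (162, 1), (163, -1)], [(77, 1), (0, 0), (135, 1)], [(76, -1), (104, 1), (0, 0)]],
    [[(0, 0), (126, 1), (127, -1), (128, 1), (129, -1)], [(113, 1), (0, 0), (123, 1), (124, -1), (125, 1)],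
      [(112, -1), (116, 1), (0, 0), (121, 1), (122, -1)], [(111, 1), (115, -1), (118, 1), (0, 0), (120, 1)],
      [(110, -1), (114, 1), (117, -1), (119, 1), (0, 0)]]]
  m := [10, 15, 20, 30, 24, 18, 12, 6]
  dv := [[5, 8, 10, 15, 12, 9, 6, 3], [4, 5, 7, 10, 8, 6, 4, 2], [8, 12, 16, 24, 20, 15, 10, 5]]
  word := [3, 2, 1, 3, 4, 5, 6, 0, 2, 3, 4, 5, 1, 3, 4, 2, 3, 0, 2, 1, 3, 4, 5, 6, 7, 6, 5, 4, 3, 2, 1, 3, 4, 5, 6, 0,
    2, 3, 4, 5, 1, 3, 4, 2, 3, 0, 2, 1, 3, 4, 5, 6, 7, 3, 2, 1, 3, 4, 5, 6, 0, 2, 3, 4, 5, 1, 3, 4, 2, 3, 0, 2, 1,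
    3, 4, 5, 6, 3, 4, 5, 1, 3, 4, 2, 3, 0, 2, 1, 3, 4, 5, 3, 4, 2, 3, 0, 2, 1, 3, 4, 2, 3, 0, 2, 1, 3]

theorem specE8_ok : specE8.OK chevE8 auxE8 where
  entry := by decide +kernel
  comm := by decide +kernel
  triv := by decide +kernel
  cross := by decide +kernel
  base := by decide +kernel
  split := by decide +kernel
  diag := by decide +kernel
  wordOK := by decide +kernel

theorem sumE8_le : ∀ i : Fin chevE8.rank,
    ∑ k ∈ Finset.univ.erase i, (chevE8.cartan i (chevE8.simple k)).natAbs ≤ 3 := by decide +kernel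

theorem connE8 : ∀ S : Finset (Fin chevE8.rank), S.Nonempty →
    (∀ p ∈ S, ∀ k : Fin chevE8.rank, chevE8.cartan p (chevE8.simple k) ≠ 0 → k ∈ S) → S = Finset.univ := by
  decide +kernel

/-- steps showing that the simple root elements generate -/
def stepsE8 : List PStep :=
  [(162, (135, 163)), (163, (130, 164)), (164, (141, 169)), (169, (126, 170)), (170, (130, 174)), (174, (135,
    184)), (184, (123, 185)), (185, (126, 188)), (188, (130, 194)), (194, (141, 204)), (204, (121, 205)), (205,
    (123, 207)), (207, (126, 210)), (210, (164, 226)), (226, (120, 227)), (227, (121, 228)), (228, (123, 229)),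
    (229, (126, 230)), (230, (130, 231)), (231, (141, 233)), (233, (135, 234)), (234, (130, 235)), (235, (126,
    236)), (236, (123, 237)), (237, (121, 238)), (238, (120, 239)), (231, (135, 232)), (210, (130, 214)), (214,
    (135, 219)), (219, (120, 220)), (220, (121, 221)), (221, (123, 222)), (222, (126, 223)), (223, (130, 224)),
    (224, (141, 225)), (214, (120, 215)), (215, (121, 216)), (216, (123, 217)), (217, (126, 218)), (210, (120,
    211)), (211, (121, 212)), (212, (123, 213)), (207, (120, 208)), (208, (121, 209)), (205, (120, 206)), (194,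
    (121, 195)), (195, (123, 197)), (197, (126, 200)), (200, (120, 201)), (201, (121, 202)), (202, (123, 203)),
    (197, (120, 198)), (198, (121, 199)), (195, (120, 196)), (188, (121, 189)), (189, (123, 191)), (191, (120,
    192)), (192, (121, 193)), (189, (120, 190)), (185, (121, 186)), (186, (120, 187)), (174, (123, 175)), (175,
    (126, 178)), (178, (121, 179)), (179, (123, 181)), (181, (120, 182)), (182, (121, 183)), (179, (120, 180)),
    (175, (121, 176)), (176, (120, 177)), (170, (123, 171)), (171, (121, 172)), (172, (120, 173)), (164, (126,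
    165)), (165, (123, 166)), (166, (121, 167)), (167, (120, 168)), (141, (130, 142)), (142, (135, 147)), (147,
    (126, 148)), (148, (130, 152)), (152, (123, 153)), (153, (126, 156)), (156, (121, 157)), (157, (123, 159)),
    (159, (120, 160)), (160, (121, 161)), (157, (120, 158)), (153, (121, 154)), (154, (120, 155)), (148, (123,
    149)), (149, (121, 150)), (150, (120, 151)), (142, (126, 143)), (143, (123, 144)), (144, (121, 145)), (145,
    (120, 146)), (135, (130, 136)), (136, (126, 137)), (137, (123, 138)), (138, (121, 139)), (139, (120, 140)),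
    (130, (126, 131)), (131, (123, 132)), (132, (121, 133)), (133, (120, 134)), (126, (123, 127)), (127, (121,
    128)), (128, (120, 129)), (123, (121, 124)), (124, (120, 125)), (121, (120, 122))]

theorem chkGenE8 : chkGen chevE8 stepsE8 = true := by decide +kernel

universe u

/-- every element is a product of two members of one class -/
theorem squareE8 (F : Type u) [Field F] [Fintype F] (hF : 9 ≤ Fintype.card F) : ∃ c : ↥(chevE8.group F),
    ∀ g, ∃ x y : ↥(chevE8.group F), g = (x * c * x⁻¹) * (y * c * y⁻¹) := by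
  have : Finite ↥(chevE8.group F) := (chevRel certE8 F).Finite_of_field
  have hd : ∃ d : F, d ≠ 0 ∧ d ≠ 1 := by
    classical
    by_contra h
    push Not at h
    have : Finset.univ ⊆ ({0, 1} : Finset F) := fun d _ => by
      by_cases h0 : d = 0 <;> simp [h0, h d]
    have := (Finset.card_le_card this).trans Finset.card_le_two
    rw [Finset.card_univ] at this
    omega
  exact exists_square (chevRel certE8 F) specE8_ok (simpleGen_of_chk _ hd chkGenE8) connE8 sumE8_le hF
    (ChevAut.center_eq_bot certE8)

end CfsgLib.Known.ClassSquare.Chev
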