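import Cfsg.Agent.Lib.Known.ClassSquare.ChevLevi
import Cfsg.Agent.Lib.Lie.Chev.Data.CertF4
import Cfsg.Agent.Lib.Known.ChevAut.Diag

/-!
# Class square data for type F4
-/

set_option autoImplicit false

namespace CfsgLib.Known.ClassSquare.Chev

open Cfsg.Lie
open CfsgLib.Lie.Chev

/-- the Levi data of type F4 -/
def specF4 : Spec where
  blocks := [[[(0, 0), (33, 1), (34, -1)], [(14, 1), (0, 0), (27, 1)], [(13, -1), (20, 1), (0, 0)]],
    [[(0, 0), (24, 1)], [(23, 1), (0, 0)]]]
  m := [2, 4, 6, 3]
  dv := [[0, -1, -2, -1], [-1, -2, -3, -1]]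
  word := [2, 1, 2, 0, 1, 2, 3, 2, 1, 2, 0, 1, 2, 3, 2, 1, 2, 0, 1, 2]

theorem specF4_ok : specF4.OK chevF4 auxF4 where
  entry := by decide +kernel
  comm := by decide +kernel
  triv := by decide +kernel
  cross := by decide +kernel
  base := by decide +kernel
  split := by decide +kernel
  diag := by decide +kernel
  wordOK := by decide +kernel

theorem sumF4_le : ∀ i : Fin chevF4.rank,
    ∑ k ∈ Finset.univ.erase i, (chevF4.cartan i (chevF4.simple k)).natAbs ≤ 3 := by decide +kernel

theorem connF4 : ∀ S : Finset (Fin chevF4.rank), S.Nonempty →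
    (∀ p ∈ S, ∀ k : Fin chevF4.rank, chevF4.cartan p (chevF4.simple k) ≠ 0 → k ∈ S) → S = Finset.univ := by
  decide +kernel

/-- steps showing that the simple root elements generate -/
def stepsF4 : List PStep :=
  [(33, (27, 34)), (34, (25, 35)), (35, (27, 37)), (37, (24, 38)), (38, (35, 44)), (38, (25, 39)), (39, (27,
    40)), (45, (25, 46)), (35, (24, 36)), (41, (24, 42)), (27, (25, 28)), (28, (24, 29)), (30, (24, 31)), (25,
    (24, 26))]

theorem chkGenF4 : chkGen chevF4 stepsF4 = true := by decide +kernel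

universe u

/-- every element is a product of two members of one class -/
theorem squareF4 (F : Type u) [Field F] [Fintype F] (hF : 9 ≤ Fintype.card F) : ∃ c : ↥(chevF4.group F),
    ∀ g, ∃ x y : ↥(chevF4.group F), g = (x * c * x⁻¹) * (y * c * y⁻¹) := by
  have : Finite ↥(chevF4.group F) := (chevRel certF4 F).Finite_of_field
  have hd : ∃ d : F, d ≠ 0 ∧ d ≠ 1 := by
    classical
    by_contra h
    push Not at h
    have : Finset.univ ⊆ ({0, 1} : Finset F) := fun d _ => by
      by_cases h0 : d = 0 <;> simp [h0, h d]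
    have := (Finset.card_le_card this).trans Finset.card_le_two
    rw [Finset.card_univ] at this
    omega
  exact exists_square (chevRel certF4 F) specF4_ok (simpleGen_of_chk _ hd chkGenF4) connF4 sumF4_le hF
    (ChevAut.center_eq_bot certF4)

end CfsgLib.Known.ClassSquare.Chev
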