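import Cfsg.Agent.Lib.Known.ClassSquare.ChevLevi
import Cfsg.Agent.Lib.Lie.Chev.Data.CertG2
import Cfsg.Agent.Lib.Known.ChevAut.Diag

/-!
# Class square data for type G2
-/

set_option autoImplicit false

namespace CfsgLib.Known.ClassSquare.Chev

open Cfsg.Lie
open CfsgLib.Lie.Chev

/-- the Levi data of type G2 -/
def specG2 : Spec where
  blocks := []
  m := [3, 5]
  dv := []
  word := [1, 0, 1, 0, 1, 0]

theorem specG2_ok : specG2.OK chevG2 auxG2 where
  entry := by decide +kernel
  comm := by decide +kernel
  triv := by decide +kernel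
  cross := by decide +kernel
  base := by decide +kernel
  split := by decide +kernel
  diag := by decide +kernel
  wordOK := by decide +kernel

theorem sumG2_le : ∀ i : Fin chevG2.rank,
    ∑ k ∈ Finset.univ.erase i, (chevG2.cartan i (chevG2.simple k)).natAbs ≤ 3 := by decide +kernel

theorem connG2 : ∀ S : Finset (Fin chevG2.rank), S.Nonempty →
    (∀ p ∈ S, ∀ k : Fin chevG2.rank, chevG2.cartan p (chevG2.simple k) ≠ 0 → k ∈ S) → S = Finset.univ := by
  decide +kernel

end CfsgLib.Known.ClassSquare.Chev
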