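import Cfsg.Agent.Lib.Known.ClassSquare.DataG2

/-!
# The simple root elements generate the unipotent groups in type G2, and the class square theorem there
-/

set_option autoImplicit false

namespace CfsgLib.Known.ClassSquare.Chev

open Cfsg.Lie (ChevalleyDatum)
open CfsgLib.Lie.Chev CfsgLib.Lie.Chev.TwoGen

universe u v

/-- the table conditions at a pair of simple roots of type G2 -/
def G2Tab (D : ChevalleyDatum) (a b c1 c2 c3 c4 : ℕ) : Prop :=
  indep D a b = true ∧
  (∃ s1 ∈ [(1 : ℤ), -1], ∃ s2 ∈ [(1 : ℤ), -1], ∃ s3 ∈ [(1 : ℤ), -1], ∃ s4 ∈ [(1 : ℤ), -1],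
    D.commTerms a b = [(c1, s1, 1, 1), (c2, s2, 2, 1), (c3, s3, 3, 1), (c4, s4, 3, 2)]) ∧
  (indep D b c3 = true ∧ ∃ m ∈ [(1 : ℤ), -1], D.commTerms b c3 = [(c4, m, 1, 1)]) ∧
  (∀ p ∈ [(b, c1), (b, c2), (b, c4), (c4, c1), (c4, c2), (c4, c3), (c3, c1), (c3, c2)],
    indep D p.1 p.2 = true ∧ D.commTerms p.1 p.2 = []) ∧
  indep D c2 c1 = true ∧ ∀ t ∈ D.commTerms c2 c1, t.1 = c4

instance (D : ChevalleyDatum) (a b c1 c2 c3 c4 : ℕ) : Decidable (G2Tab D a b c1 c2 c3 c4) := by
  unfold G2Tab; infer_instance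

variable {D : ChevalleyDatum} {X : Aux} {F : Type u} [Field F] {G : Type v} [Group G] (R : Rel D X F G)

include R in
theorem indep_commute {r s : ℕ} (h : indep D r s = true) (hn : D.commTerms r s = []) (t u : F) :
    Commute (R.xe r t) (R.xe s u) := by
  simp only [indep, Bool.and_eq_true, nat_blt_iff, Bool.not_eq_true'] at h
  obtain ⟨⟨⟨h1, h2⟩, h3⟩, h4⟩ := h
  exact xe_commute R h1 h2 (fun e => by rw [e, Nat.beq_refl] at h3; cases h3)
    (fun e => by rw [e, Nat.beq_refl] at h4; cases h4) hn t u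

include R in
theorem indep_swap {r s : ℕ} (h : indep D r s = true) (t u : F) :
    R.xe s u * R.xe r t = R.xe r t * R.xe s u *
      ((D.commWord F r s t u).map fun p => R.xe p.1 p.2).prod := by
  simp only [indep, Bool.and_eq_true, nat_blt_iff, Bool.not_eq_true'] at h
  obtain ⟨⟨⟨h1, h2⟩, h3⟩, h4⟩ := h
  exact R.xe_comm r s t u h1 h2 (fun e => by rw [e, Nat.beq_refl] at h3; cases h3)
    (fun e => by rw [e, Nat.beq_refl] at h4; cases h4)

include R in
theorem g2_full {H : Subgroup G} {a b c1 c2 c3 c4 : ℕ} (hT : G2Tab D a b c1 c2 c3 c4)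
    (ha : R.Full H a) (hb : R.Full H b)
    (h3 : ∃ x y z : F, x ≠ 0 ∧ y ≠ 0 ∧ z ≠ 0 ∧ x ≠ y ∧ x ≠ z ∧ y ≠ z) :
    R.Full H c1 ∧ R.Full H c2 ∧ R.Full H c3 ∧ R.Full H c4 := by
  obtain ⟨hab, ⟨s1, hs1, s2, hs2, s3, hs3, s4, hs4, hterms⟩, ⟨hb3, m, hm, hbt⟩, hnil, h21, ht21⟩ := hT
  have pm : ∀ {z : ℤ}, z ∈ [(1 : ℤ), -1] → (z : F) * (z : F) = 1 := by
    intro z hz
    simp only [List.mem_cons, List.not_mem_nil, or_false] at hz
    rcases hz with rfl | rfl <;> simp
  have cm : ∀ p ∈ [(b, c1), (b, c2), (b, c4), (c4, c1), (c4, c2), (c4, c3), (c3, c1), (c3, c2)],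
      ∀ t u : F, Commute (R.xe p.1 t) (R.xe p.2 u) := fun p hp => indep_commute R (hnil p hp).1 (hnil p hp).2
  have key : ∀ t u : F, R.xe c1 ((s1 : F) * (t * u)) * R.xe c2 ((s2 : F) * (t ^ 2 * u)) *
      R.xe c3 ((s3 : F) * (t ^ 3 * u)) * R.xe c4 ((s4 : F) * (t ^ 3 * u ^ 2)) ∈ H := by
    intro t u
    have := R.comm_prod_mem hab (ha (-t)) (hb u)
    rw [hterms] at this
    simpa [mul_assoc] using this
  have hc4 : R.Full H c4 := by
    intro w
    set A := (s1 : F) * (1 * 1)
    set B := (s2 : F) * ((1 : F) ^ 2 * 1)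
    set C := (s3 : F) * ((1 : F) ^ 3 * 1)
    set E := (s4 : F) * ((1 : F) ^ 3 * 1 ^ 2)
    set P := R.xe c1 A * R.xe c2 B * R.xe c3 C * R.xe c4 E
    have hP : P ∈ H := key 1 1
    have hCC : C * C = 1 := by simp only [C, one_pow, one_mul, mul_one]; exact pm hs3
    set z := (m : F) * C
    have hz : z * z = 1 := by
      have e : z * z = ((m : F) * m) * (C * C) := by simp only [z]; ring
      rw [e, pm hm, hCC, one_mul]
    set v := -(w * z)
    have hsw : R.xe c3 C * R.xe b v = R.xe b v * R.xe c3 C * R.xe c4 w := by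
      rw [indep_swap R hb3 v C]
      simp only [ChevalleyDatum.commWord, hbt, List.map_cons, List.map_nil, List.prod_cons, List.prod_nil, mul_one,
        pow_one]
      congr 2
      show (m : F) * -(-(w * z)) * C = w
      have : (m : F) * -(-(w * z)) * C = w * (z * z) := by simp only [z]; ring
      rw [this, hz, mul_one]
    have k1 : Commute (R.xe b v) (R.xe c1 A) := cm (b, c1) (by simp) v A
    have k2 : Commute (R.xe b v) (R.xe c2 B) := cm (b, c2) (by simp) v B
    have k4 : Commute (R.xe b v) (R.xe c4 E) := cm (b, c4) (by simp) v E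
    have k44 : Commute (R.xe c4 w) (R.xe c4 E) := by rw [commute_iff_eq, R.xe_add', R.xe_add', add_comm]
    have e : P * R.xe b v = R.xe b v * P * R.xe c4 w := by
      calc P * R.xe b v = R.xe c1 A * R.xe c2 B * R.xe c3 C * (R.xe c4 E * R.xe b v) := by simp only [P, mul_assoc]
        _ = R.xe c1 A * R.xe c2 B * (R.xe c3 C * R.xe b v) * R.xe c4 E := by
          rw [← k4.eq]; simp only [mul_assoc]
        _ = R.xe c1 A * (R.xe c2 B * R.xe b v) * R.xe c3 C * (R.xe c4 w * R.xe c4 E) := by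
          rw [hsw]; simp only [mul_assoc]
        _ = (R.xe c1 A * R.xe b v) * R.xe c2 B * R.xe c3 C * (R.xe c4 E * R.xe c4 w) := by
          rw [← k2.eq, k44.eq]; simp only [mul_assoc]
        _ = _ := by rw [← k1.eq]; simp only [P, mul_assoc]
    have : R.xe c4 w = (R.xe b v * P)⁻¹ * (P * R.xe b v) := by rw [e, inv_mul_cancel_left]
    rw [this]
    exact mul_mem (inv_mem (mul_mem (hb v) hP)) (mul_mem hP (hb v))
  -- the vectors `(p, q, r)` with the product of the three root elements in `H`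
  let V : F → F → F → Prop := fun p q r => R.xe c1 p * R.xe c2 q * R.xe c3 r ∈ H
  have vline : ∀ t w : F, t ≠ 0 → V ((s1 : F) * w) ((s2 : F) * (t * w)) ((s3 : F) * (t ^ 2 * w)) := by
    intro t w ht
    have := (Subgroup.mul_mem_cancel_right H (hc4 _)).1 (key t (w / t))
    show R.xe c1 _ * R.xe c2 _ * R.xe c3 _ ∈ H
    rwa [show t * (w / t) = w by field_simp, show t ^ 2 * (w / t) = t * w by field_simp,
      show t ^ 3 * (w / t) = t ^ 2 * w by field_simp] at this
  have vadd : ∀ p q r p' q' r' : F, V p q r → V p' q' r' → V (p + p') (q + q') (r + r') := by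
    intro p q r p' q' r' h h'
    have hW : ((D.commWord F c2 c1 q p').map fun z => R.xe z.1 z.2).prod ∈ H ∧
        ∀ k ∈ [c2, c3], ∀ x, Commute ((D.commWord F c2 c1 q p').map fun z => R.xe z.1 z.2).prod (R.xe k x) := by
      refine ⟨list_prod_mem fun x hx => ?_, fun k hk x => Commute.list_prod_left _ _ fun z hz => ?_⟩
      · simp only [ChevalleyDatum.commWord, List.map_map, List.mem_map, Function.comp_apply] at hx
        obtain ⟨c, hc, rfl⟩ := hx
        rw [ht21 c hc]; exact hc4 _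
      · simp only [ChevalleyDatum.commWord, List.map_map, List.mem_map, Function.comp_apply] at hz
        obtain ⟨c, hc, rfl⟩ := hz
        rw [ht21 c hc]
        simp only [List.mem_cons, List.not_mem_nil, or_false] at hk
        rcases hk with rfl | rfl
        · exact cm (c4, k) (by simp) _ _
        · exact cm (c4, k) (by simp) _ _
    have sw := indep_swap R h21 q p'
    generalize ((D.commWord F c2 c1 q p').map fun z => R.xe z.1 z.2).prod = W at hW sw
    have k31 : Commute (R.xe c3 r) (R.xe c1 p') := cm (c3, c1) (by simp) r p'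
    have k32 : Commute (R.xe c3 r) (R.xe c2 q') := cm (c3, c2) (by simp) r q'
    have w2 : Commute W⁻¹ (R.xe c2 q') := (hW.2 c2 (by simp) q').inv_left
    have w3 : Commute W⁻¹ (R.xe c3 (r + r')) := (hW.2 c3 (by simp) (r + r')).inv_left
    have hWinv : R.xe c2 q * R.xe c1 p' = R.xe c1 p' * R.xe c2 q * W⁻¹ := by rw [sw, mul_inv_cancel_right]
    have e : R.xe c1 p * R.xe c2 q * R.xe c3 r * (R.xe c1 p' * R.xe c2 q' * R.xe c3 r') =
        R.xe c1 (p + p') * R.xe c2 (q + q') * R.xe c3 (r + r') * W⁻¹ := by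
      calc _ = R.xe c1 p * R.xe c2 q * (R.xe c3 r * R.xe c1 p') * R.xe c2 q' * R.xe c3 r' := by
            simp only [mul_assoc]
        _ = R.xe c1 p * (R.xe c2 q * R.xe c1 p') * (R.xe c3 r * R.xe c2 q') * R.xe c3 r' := by
            rw [k31.eq]; simp only [mul_assoc]
        _ = (R.xe c1 p * R.xe c1 p') * R.xe c2 q * (W⁻¹ * R.xe c2 q') * (R.xe c3 r * R.xe c3 r') := by
            rw [k32.eq, hWinv]; simp only [mul_assoc]
        _ = _ := by
            rw [w2.eq, R.xe_add', R.xe_add', mul_assoc _ (R.xe c3 (r + r')) W⁻¹, ← w3.eq, ← R.xe_add' c2 q q']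
            simp only [mul_assoc]
    have hmem := mul_mem h h'
    rw [e] at hmem
    exact (Subgroup.mul_mem_cancel_right H (inv_mem hW.1)).1 hmem
  obtain ⟨x, y, z, hx, hy, hz, hxy, hxz, hyz⟩ := h3
  have hall : ∀ A B C : F, V A B C := by
    intro A B C
    have q1 := pm hs1
    have q2 := pm hs2
    have q3 := pm hs3
    set A' := (s1 : F) * A
    set B' := (s2 : F) * B
    set C' := (s3 : F) * C
    set wx := (C' - (y + z) * B' + y * z * A') / ((x - y) * (x - z)) with hwx
    set wy := (C' - (x + z) * B' + x * z * A') / ((y - x) * (y - z)) with hwy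
    set wz := (C' - (x + y) * B' + x * y * A') / ((z - x) * (z - y)) with hwz
    have d1 : x - y ≠ 0 := sub_ne_zero.2 hxy
    have d2 : x - z ≠ 0 := sub_ne_zero.2 hxz
    have d3 : y - z ≠ 0 := sub_ne_zero.2 hyz
    have eA : wx + wy + wz = A' := by
      rw [hwx, hwy, hwz, show (y - x) = -(x - y) by ring, show (z - x) = -(x - z) by ring,
        show (z - y) = -(y - z) by ring]
      field_simp; ring
    have eB : x * wx + y * wy + z * wz = B' := by
      rw [hwx, hwy, hwz, show (y - x) = -(x - y) by ring, show (z - x) = -(x - z) by ring,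
        show (z - y) = -(y - z) by ring]
      field_simp; ring
    have eC : x ^ 2 * wx + y ^ 2 * wy + z ^ 2 * wz = C' := by
      rw [hwx, hwy, hwz, show (y - x) = -(x - y) by ring, show (z - x) = -(x - z) by ring,
        show (z - y) = -(y - z) by ring]
      field_simp; ring
    have h := vadd _ _ _ _ _ _ (vadd _ _ _ _ _ _ (vline x wx hx) (vline y wy hy)) (vline z wz hz)
    rw [← mul_add, ← mul_add, ← mul_add, ← mul_add, ← mul_add, ← mul_add, eA, eB, eC] at h
    simp only [A', B', C', ← mul_assoc, q1, q2, q3, one_mul] at h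
    exact h
  refine ⟨fun w => ?_, fun w => ?_, fun w => ?_, hc4⟩
  · simpa [V, R.xe_zero] using hall w 0 0
  · simpa [V, R.xe_zero] using hall 0 w 0
  · simpa [V, R.xe_zero] using hall 0 0 w

theorem g2_simpleGen {F : Type u} [Field F] (h3 : ∃ x y z : F, x ≠ 0 ∧ y ≠ 0 ∧ z ≠ 0 ∧ x ≠ y ∧ x ≠ z ∧ y ≠ z) :
    SimpleGen (chevRel certG2 F) := by
  have hP : G2Tab Cfsg.Lie.chevG2 7 6 8 9 10 11 := by decide +kernel
  have hN : G2Tab Cfsg.Lie.chevG2 4 5 3 2 1 0 := by decide +kernel
  constructor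
  · refine (chevRel certG2 F).US_le fun r hr t => ?_
    set H := Subgroup.closure (Set.range fun x : Fin Cfsg.Lie.chevG2.rank × F =>
      (chevRel certG2 F).xe (Cfsg.Lie.chevG2.simple x.1) x.2)
    have h7 : (chevRel certG2 F).Full H 7 := fun u => Subgroup.subset_closure ⟨(⟨0, by decide⟩, u), rfl⟩
    have h6 : (chevRel certG2 F).Full H 6 := fun u => Subgroup.subset_closure ⟨(⟨1, by decide⟩, u), rfl⟩
    obtain ⟨k8, k9, k10, k11⟩ := g2_full (chevRel certG2 F) hP h7 h6 h3
    have hr' : 6 ≤ (r : ℕ) := hr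
    have hr2 : (r : ℕ) < 12 := r.2
    obtain ⟨n, hn⟩ : ∃ n, n = (r : ℕ) := ⟨_, rfl⟩
    rw [← hn] at hr' hr2 ⊢
    interval_cases n
    exacts [h6 t, h7 t, k8 t, k9 t, k10 t, k11 t]
  · refine (chevRel certG2 F).US_le fun r hr t => ?_
    set H := Subgroup.closure (Set.range fun x : Fin Cfsg.Lie.chevG2.rank × F =>
      (chevRel certG2 F).xe (Cfsg.Lie.chevG2.neg (Cfsg.Lie.chevG2.simple x.1)) x.2)
    have h4 : (chevRel certG2 F).Full H 4 := fun u => Subgroup.subset_closure ⟨(⟨0, by decide⟩, u), rfl⟩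
    have h5 : (chevRel certG2 F).Full H 5 := fun u => Subgroup.subset_closure ⟨(⟨1, by decide⟩, u), rfl⟩
    obtain ⟨k8, k9, k10, k11⟩ := g2_full (chevRel certG2 F) hN h4 h5 h3
    have hr' : (r : ℕ) < 6 := not_le.1 hr
    obtain ⟨n, hn⟩ : ∃ n, n = (r : ℕ) := ⟨_, rfl⟩
    rw [← hn] at hr' ⊢
    interval_cases n
    exacts [k11 t, k10 t, k9 t, k8 t, h4 t, h5 t]

/-- every element is a product of two members of one class -/
theorem squareG2 (F : Type u) [Field F] [Fintype F] (hF : 9 ≤ Fintype.card F) :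
    ∃ c : ↥(Cfsg.Lie.chevG2.group F),
      ∀ g, ∃ x y : ↥(Cfsg.Lie.chevG2.group F), g = (x * c * x⁻¹) * (y * c * y⁻¹) := by
  classical
  have : Finite ↥(Cfsg.Lie.chevG2.group F) := (chevRel certG2 F).Finite_of_field
  have pick : ∀ s : Finset F, s.card < 9 → ∃ x, x ∉ s := fun s hs => by
    by_contra h
    push Not at h
    have := Finset.card_le_card (fun x _ => h x : Finset.univ ⊆ s)
    rw [Finset.card_univ] at this
    omega
  obtain ⟨x, hx⟩ := pick {0} (by simp)
  obtain ⟨y, hy⟩ := pick {0, x} (lt_of_le_of_lt Finset.card_le_two (by norm_num))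
  obtain ⟨z, hz⟩ := pick {0, x, y} (lt_of_le_of_lt Finset.card_le_three (by norm_num))
  simp only [Finset.mem_insert, Finset.mem_singleton, not_or] at hx hy hz
  exact exists_square (chevRel certG2 F) specG2_ok
    (g2_simpleGen ⟨x, y, z, hx, hy.1, hz.1, Ne.symm hy.2, Ne.symm hz.2.1, Ne.symm hz.2.2⟩) connG2 sumG2_le hF
    (ChevAut.center_eq_bot certG2)

end CfsgLib.Known.ClassSquare.Chev
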