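import Cfsg.Agent.Lib.Known.ClassSquare.Pre
import Cfsg.Agent.Lib.Known.ClassSquare.Mat

/-!
# Levi data from a matrix model and a weight on the coordinates
-/

set_option autoImplicit false

namespace CfsgLib.Known.ClassSquare

open Matrix

universe u v

variable {F : Type u} [Field F] {G : Type v} [Group G]

/-- a Levi subgroup of type `A` in a matrix model, isolated by a weight on the coordinates -/
structure Block (P : Pre F G) where
  B : Type
  [finB : Fintype B]
  nb : B → ℕ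
  ι : (∀ b, Matrix.SpecialLinearGroup (Fin (nb b + 2)) F) →* G
  lam : P.ι → ℤ
  m : P.I → ℤ
  hlam : ∀ r, ∑ i, m i * P.w i r = lam r
  level : ∀ x r c, lam r ≠ lam c → P.ρ (ι x) r c = 0
  split : ∀ i, (∀ t, (∃ x, (∀ b, UpperM (x b).1) ∧ P.xP i t = ι x) ∧
      ∃ x, (∀ b, LowerM (x b).1) ∧ P.xN i t = ι x) ∨
    ∀ t, P.Up lam (P.ρ (P.xP i t)) ∧ P.Up (fun r => -lam r) (P.ρ (P.xN i t))
  small : ∀ g, (P.Up lam (P.ρ g) ∨ P.Up (fun r => -lam r) (P.ρ g)) →
    (∀ r c, -8 < lam r - lam c → lam r - lam c < 8 → P.ρ g r c = (1 : Matrix P.ι P.ι F) r c) → g = 1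
  diag : ∀ c : B → Fˣ, ∃ ν : P.I → Fˣ, ∀ x,
    P.sys.hT ν * ι x * (P.sys.hT ν)⁻¹ = ι fun b => conjDiag (c b) (x b)
  invert : ∃ w, (∀ r c, P.ρ w r c ≠ 0 → lam r = -lam c) ∧ ∃ x x', (∀ b, RegM (x b).1) ∧ (∀ b, RegM (x' b).1) ∧
    w * ι x * w⁻¹ = ι x'

namespace Block

variable {P : Pre F G} (L : Block P)

theorem diag_prod (τ : P.I → Fˣ) :
    P.ρ (P.sys.hT τ) = diagonal fun r => ((∏ i, τ i ^ P.w i r : Fˣ) : F) := by
  have key : ∀ s : Finset P.I, P.ρ (P.sys.hT (∏ i ∈ s, Pi.mulSingle i (τ i))) =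
      diagonal fun r => ((∏ i ∈ s, τ i ^ P.w i r : Fˣ) : F) := by
    intro s
    induction s using Finset.induction_on with
    | empty =>
      rw [Finset.prod_empty, show P.sys.hT (1 : P.I → Fˣ) = 1 from map_one _, map_one]
      simp
    | @insert a s ha ih =>
      rw [Finset.prod_insert ha, show P.sys.hT (Pi.mulSingle a (τ a) * ∏ i ∈ s, Pi.mulSingle i (τ i)) =
        P.sys.hT (Pi.mulSingle a (τ a)) * P.sys.hT (∏ i ∈ s, Pi.mulSingle i (τ i)) from map_mul P.sys.hT _ _,
        map_mul P.ρ, ih, show P.sys.hT (Pi.mulSingle a (τ a)) = P.h a (τ a) from P.sys.hT_single a (τ a),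
        P.h_diag a _ (τ a).ne_zero, diagonal_mul_diagonal]
      congr 1
      funext r
      rw [Finset.prod_insert ha, Units.val_mul, Units.val_zpow_eq_zpow_val]
  have e := key Finset.univ
  rwa [Finset.univ_prod_mulSingle] at e

/-- the group attached to a height -/
def rad [Finite G] (P : Pre F G) (h : P.ι → ℤ) : Subgroup G where
  toSubmonoid := P.upMonoid h
  inv_mem' {x} hx := by
    rw [inv_eq_of_mul_eq_one_left (show x ^ (orderOf x - 1) * x = 1 by
      rw [← pow_succ, Nat.sub_add_cancel (orderOf_pos x), pow_orderOf_eq_one])]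
    exact (P.upMonoid h).pow_mem hx _

theorem conj_rad [Finite G] (h : P.ι → ℤ) (g : G) (hg : ∀ r c, h r ≠ h c → P.ρ g r c = 0)
    (hg' : ∀ r c, h r ≠ h c → P.ρ g⁻¹ r c = 0) {q : G} (hq : q ∈ rad P h) : g * q * g⁻¹ ∈ rad P h := by
  show P.Up h (P.ρ (g * q * g⁻¹))
  have hq' : P.Up h (P.ρ q) := hq
  intro r c hrc
  rw [map_mul, map_mul, Matrix.mul_apply, ← map_one P.ρ, ← mul_inv_cancel g, map_mul, Matrix.mul_apply]
  refine Finset.sum_congr rfl fun b _ => ?_
  by_cases hb : P.ρ g⁻¹ b c = 0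
  · rw [hb, mul_zero, mul_zero]
  congr 1
  have hbc : h b = h c := not_not.1 fun e => hb (hg' b c e)
  rw [Matrix.mul_apply, Finset.sum_eq_single b]
  · rw [hq' b b le_rfl, Matrix.one_apply_eq, mul_one]
  · intro a _ ha
    by_cases hra : P.ρ g r a = 0
    · rw [hra, zero_mul]
    have hra' : h r = h a := not_not.1 fun e => hra (hg r a e)
    rw [hq' a b (by omega), Matrix.one_apply_ne ha, mul_zero]
  · simp

include L in
/-- the Levi data of a block -/
theorem nonempty_leviData [Fintype F] [Finite G] (hF : 9 ≤ Fintype.card F) : Nonempty (LeviData P.sys) := by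
  classical
  obtain ⟨g, hg⟩ := IsCyclic.exists_generator (α := Fˣ)
  have hord : 8 ≤ orderOf g := by
    rw [orderOf_eq_card_of_forall_mem_zpowers hg, Nat.card_eq_fintype_card, Fintype.card_units]
    omega
  set τ : P.I → Fˣ := fun i => g ^ L.m i with hτ
  set T : G := P.sys.hT τ with hT
  have hTd : P.ρ T = diagonal fun r => ((g ^ L.lam r : Fˣ) : F) := by
    rw [hT, diag_prod]
    congr 1
    funext r
    congr 1
    rw [← L.hlam r]
    simp only [hτ, ← _root_.zpow_mul]
    induction (Finset.univ : Finset P.I) using Finset.induction_on with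
    | empty => simp
    | @insert a s ha ih => rw [Finset.sum_insert ha, Finset.prod_insert ha, _root_.zpow_add, ih]
  have hTlev : ∀ r c, L.lam r ≠ L.lam c → P.ρ T r c = 0 := fun r c h => by
    rw [hTd, diagonal_apply_ne _ (fun e => h (by rw [e]))]
  have hTi : P.ρ T⁻¹ = diagonal fun r => (((g ^ L.lam r)⁻¹ : Fˣ) : F) := by
    rw [hT, ← map_inv P.sys.hT, diag_prod]
    congr 1
    funext r
    congr 1
    rw [← L.hlam r]
    simp only [hτ, Pi.inv_apply, _root_.inv_zpow, ← _root_.zpow_mul, Finset.prod_inv_distrib]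
    congr 1
    induction (Finset.univ : Finset P.I) using Finset.induction_on with
    | empty => simp
    | @insert a s ha ih => rw [Finset.sum_insert ha, Finset.prod_insert ha, _root_.zpow_add, ih]
  have hTilev : ∀ r c, L.lam r ≠ L.lam c → P.ρ T⁻¹ r c = 0 := fun r c h => by
    rw [hTi, diagonal_apply_ne _ (fun e => h (by rw [e]))]
  have hfix : ∀ q, (P.Up L.lam (P.ρ q) ∨ P.Up (fun r => -L.lam r) (P.ρ q)) → Commute T q → q = 1 := by
    intro q hq hc
    refine L.small q hq fun r c h1 h2 => ?_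
    have e := congrFun (congrFun (congrArg P.ρ hc.eq) r) c
    rw [map_mul, map_mul, hTd, diagonal_mul, mul_diagonal] at e
    by_cases hrc : L.lam r = L.lam c
    · rcases hq with h | h
      · exact h r c hrc.le
      · exact h r c (by show -L.lam r ≤ -L.lam c; omega)
    · rw [Matrix.one_apply_ne (fun e => hrc (by rw [e]))]
      by_contra hne
      rw [mul_comm (P.ρ q r c)] at e
      have e' : (g ^ L.lam r : Fˣ) = g ^ L.lam c := Units.ext (mul_right_cancel₀ hne e)
      have h3 : g ^ (L.lam r - L.lam c) = 1 := by rw [_root_.zpow_sub, e', mul_inv_cancel]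
      have hd := orderOf_dvd_iff_zpow_eq_one.2 h3
      have hne' : L.lam r - L.lam c ≠ 0 := sub_ne_zero.2 hrc
      have := Int.le_of_dvd (abs_pos.2 hne') ((dvd_abs _ _).2 hd)
      have h4 : |L.lam r - L.lam c| < 8 := abs_lt.2 ⟨h1, h2⟩
      omega
  have hneg : ∀ g' : G, (∀ r c, L.lam r ≠ L.lam c → P.ρ g' r c = 0) →
      ∀ r c, -L.lam r ≠ -L.lam c → P.ρ g' r c = 0 := fun g' h r c e => h r c (fun e' => e (by rw [e']))
  have hι : ∀ x r c, L.lam r ≠ L.lam c → P.ρ (L.ι x)⁻¹ r c = 0 := fun x r c h => by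
    rw [← map_inv]; exact L.level x⁻¹ r c h
  letI := L.finB
  refine ⟨{
    B := L.B
    nb := L.nb
    ι := L.ι
    τ := τ
    QP := rad P L.lam
    QN := rad P fun r => -L.lam r
    split_UP := ?_
    split_UN := ?_
    t_comm := ?_
    conj_QP := fun x q hq => conj_rad L.lam _ (L.level x) (hι x) hq
    conj_QN := fun x q hq => conj_rad _ _ (hneg _ (L.level x)) (hneg _ (hι x)) hq
    t_QP := fun q hq => conj_rad L.lam _ hTlev hTilev hq
    t_QN := fun q hq => conj_rad _ _ (hneg _ hTlev) (hneg _ hTilev) hq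
    fix_QP := fun q hq hc => hfix q (Or.inl hq) hc
    fix_QN := fun q hq hc => hfix q (Or.inr hq) hc
    diag := ?_
    invert := ?_ }⟩
  · intro u hu
    induction hu using Subgroup.closure_induction_left with
    | one => exact ⟨1, fun b => upperM_one, 1, one_mem _, by rw [map_one, mul_one]⟩
    | mul_left z hz y _ ih =>
      obtain ⟨⟨i, t⟩, rfl⟩ := hz
      obtain ⟨x, hx, q, hq, rfl⟩ := ih
      rcases L.split i with h | h
      · obtain ⟨⟨x', hx', e⟩, -⟩ := h t
        refine ⟨x' * x, fun b => ?_, q, hq, ?_⟩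
        · rw [Pi.mul_apply, Matrix.SpecialLinearGroup.coe_mul]; exact (hx' b).mul (hx b)
        · show P.xP i t * (L.ι x * q) = _
          rw [e, map_mul, mul_assoc]
      · refine ⟨x, hx, L.ι x⁻¹ * P.xP i t * (L.ι x⁻¹)⁻¹ * q,
          mul_mem (conj_rad L.lam _ (L.level x⁻¹) (hι x⁻¹) (h t).1) hq, ?_⟩
        show P.xP i t * (L.ι x * q) = _
        rw [map_inv, inv_inv]; group
    | inv_mul_cancel z hz y _ ih =>
      obtain ⟨⟨i, t⟩, rfl⟩ := hz
      obtain ⟨x, hx, q, hq, rfl⟩ := ih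
      show ∃ x', _ ∧ ∃ q' ∈ _, (P.xP i t)⁻¹ * (L.ι x * q) = L.ι x' * q'
      rw [← P.xP_neg]
      rcases L.split i with h | h
      · obtain ⟨⟨x', hx', e⟩, -⟩ := h (-t)
        refine ⟨x' * x, fun b => ?_, q, hq, ?_⟩
        · rw [Pi.mul_apply, Matrix.SpecialLinearGroup.coe_mul]; exact (hx' b).mul (hx b)
        · rw [e, map_mul, mul_assoc]
      · refine ⟨x, hx, L.ι x⁻¹ * P.xP i (-t) * (L.ι x⁻¹)⁻¹ * q,
          mul_mem (conj_rad L.lam _ (L.level x⁻¹) (hι x⁻¹) (h (-t)).1) hq, ?_⟩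
        rw [map_inv, inv_inv]; group
  · intro u hu
    induction hu using Subgroup.closure_induction_left with
    | one => exact ⟨1, fun b => lowerM_one, 1, one_mem _, by rw [map_one, mul_one]⟩
    | mul_left z hz y _ ih =>
      obtain ⟨⟨i, t⟩, rfl⟩ := hz
      obtain ⟨x, hx, q, hq, rfl⟩ := ih
      show ∃ x', _ ∧ ∃ q' ∈ _, P.xN i t * (q * L.ι x) = q' * L.ι x'
      rcases L.split i with h | h
      · obtain ⟨-, x', hx', e⟩ := h t
        refine ⟨x' * x, fun b => ?_, L.ι x' * q * (L.ι x')⁻¹,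
          conj_rad _ _ (hneg _ (L.level x')) (hneg _ (hι x')) hq, ?_⟩
        · rw [Pi.mul_apply, Matrix.SpecialLinearGroup.coe_mul]; exact (hx' b).mul (hx b)
        · rw [e, map_mul]; group
      · refine ⟨x, hx, P.xN i t * q, mul_mem (show P.xN i t ∈ rad P fun r => -L.lam r from (h t).2) hq, (mul_assoc _ _ _).symm⟩
    | inv_mul_cancel z hz y _ ih =>
      obtain ⟨⟨i, t⟩, rfl⟩ := hz
      obtain ⟨x, hx, q, hq, rfl⟩ := ih
      show ∃ x', _ ∧ ∃ q' ∈ _, (P.xN i t)⁻¹ * (q * L.ι x) = q' * L.ι x'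
      rw [← P.xN_neg]
      rcases L.split i with h | h
      · obtain ⟨-, x', hx', e⟩ := h (-t)
        refine ⟨x' * x, fun b => ?_, L.ι x' * q * (L.ι x')⁻¹,
          conj_rad _ _ (hneg _ (L.level x')) (hneg _ (hι x')) hq, ?_⟩
        · rw [Pi.mul_apply, Matrix.SpecialLinearGroup.coe_mul]; exact (hx' b).mul (hx b)
        · rw [e, map_mul]; group
      · refine ⟨x, hx, P.xN i (-t) * q, mul_mem (show P.xN i (-t) ∈ rad P fun r => -L.lam r from (h (-t)).2) hq,
          (mul_assoc _ _ _).symm⟩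
  · intro x
    refine P.ρ_inj ?_
    show P.ρ (T * L.ι x) = P.ρ (L.ι x * T)
    rw [map_mul, map_mul, hTd]
    ext r c
    rw [diagonal_mul, mul_diagonal]
    by_cases h : L.lam r = L.lam c
    · rw [h, mul_comm]
    · rw [L.level x r c h, mul_zero, zero_mul]
  · intro c
    obtain ⟨ν, hν⟩ := L.diag c
    refine ⟨P.sys.hT ν, ?_, hν⟩
    show P.sys.hT ν * P.sys.hT τ = P.sys.hT τ * P.sys.hT ν
    exact (map_mul P.sys.hT ν τ).symm.trans ((congrArg P.sys.hT (mul_comm ν τ)).trans (map_mul P.sys.hT τ ν))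
  · obtain ⟨w, hw, x, x', hx, hx', e⟩ := L.invert
    refine ⟨w, ?_, x, x', hx, hx', e⟩
    show w * T⁻¹ * w⁻¹ = T
    rw [mul_inv_eq_iff_eq_mul]
    refine P.ρ_inj ?_
    rw [map_mul, map_mul, hTd, hTi]
    ext r c
    rw [diagonal_mul, mul_diagonal]
    by_cases h : P.ρ w r c = 0
    · rw [h, mul_zero, zero_mul]
    · rw [hw r c h, _root_.zpow_neg, mul_comm]

include L in
/-- transfer of the square to a quotient killing the centre -/
theorem square [Fintype F] [Finite G] (hF : 9 ≤ Fintype.card F) {Q : Type*} [Group Q] (π : G →* Q)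
    (hπ : Function.Surjective π) (hker : ∀ z ∈ Subgroup.center G, π z = 1) :
    ∃ c : Q, ∀ g : Q, ∃ x y : Q, g = (x * c * x⁻¹) * (y * c * y⁻¹) := by
  obtain ⟨D⟩ := L.nonempty_leviData hF
  exact D.square_image hF π hπ hker

end Block

end CfsgLib.Known.ClassSquare
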