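import Cfsg.Agent.Lib.Known.ClassSquare.OrthModel

/-!
# Levi blocks of the split orthogonal groups
-/

set_option autoImplicit false
set_option linter.unusedSectionVars false

namespace CfsgLib.Known.ClassSquare.Orth

noncomputable section

open QuadraticMap CfsgLib.Classical.Quad CfsgLib.Known.SpinMult

universe u v

/-- products of powers of one element -/
theorem prod_zpow_const {M : Type*} [CommGroup M] {I : Type*} [Fintype I] (g : M) (e : I → ℤ) :
    ∏ i, g ^ e i = g ^ ∑ i, e i := by
  classical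
  induction (Finset.univ : Finset I) using Finset.induction_on with
  | empty => simp
  | @insert a s ha ih => rw [Finset.sum_insert ha, Finset.prod_insert ha, _root_.zpow_add, ih]

section Sum

variable {F : Type u} [Field F] {V : Type v} [AddCommGroup V] [Module F V] {Q : QuadraticForm F V} {m : ℕ}
  {S : Type} [Fintype S] [DecidableEq S] (fr : Frame Q m S) (hm : 2 ≤ m)

theorem cw_sim (i a : Fin m) : cw (sim fr hm i) (Sum.inr (Sum.inl a)) =
    (if (a : ℕ) = i then (if (a : ℕ) + 1 = m then 1 + (Fintype.card S : ℤ) else 1) else 0) -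
      (if (a : ℕ) = i + 1 then 1 else 0) +
      if Fintype.card S = 0 ∧ (i : ℕ) + 1 = m ∧ (a : ℕ) + 2 = m then 1 else 0 := by
  have := i.2
  have := a.2
  have hc := card_S_le fr
  rcases sim_cases fr hm i with ⟨hi, ei⟩ | ⟨hi, s, ei⟩ | ⟨hi, hSi, _, ei⟩
  · simp only [cw, ei, Sum.inr.injEq, Sum.inl.injEq, Sum.swap_inl, Sum.swap_inr, reduceCtorEq, if_false,
      Fin.ext_iff]
    split_ifs <;> first | omega | norm_num
  · have := Fintype.card_pos_iff.2 ⟨s⟩
    have : Fintype.card S = 1 := by omega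
    simp only [cw, ei, Sum.inr.injEq, Sum.inl.injEq, Sum.swap_inl, Sum.swap_inr, reduceCtorEq, if_false,
      Fin.ext_iff]
    split_ifs <;> first | omega | norm_num [*]
  · have : Fintype.card S = 0 := Fintype.card_eq_zero
    simp only [cw, ei, Sum.inr.injEq, Sum.inl.injEq, Sum.swap_inl, Sum.swap_inr, reduceCtorEq, if_false,
      Fin.ext_iff]
    split_ifs <;> first | omega | norm_num

theorem sum_cw (E : ℕ → ℤ) (a : Fin m) :
    ∑ i : Fin m, E i * cw (sim fr hm i) (Sum.inr (Sum.inl a)) =
      E a * (if (a : ℕ) + 1 = m then 1 + (Fintype.card S : ℤ) else 1) - (if (a : ℕ) = 0 then 0 else E (a - 1)) +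
        if Fintype.card S = 0 ∧ (a : ℕ) + 2 = m then E (m - 1) else 0 := by
  simp only [cw_sim, mul_add, mul_sub, Finset.sum_add_distrib, Finset.sum_sub_distrib, mul_ite, mul_one, mul_zero]
  congr 1
  · congr 1
    · rw [Finset.sum_eq_single a]
      · simp only [if_true]
      · intro i _ hi
        rw [if_neg fun e => hi (Fin.ext e.symm)]
      · simp
    · by_cases ha : (a : ℕ) = 0
      · rw [if_pos ha]
        exact Finset.sum_eq_zero fun i _ => if_neg (by omega)
      · rw [if_neg ha, Finset.sum_eq_single (⟨(a : ℕ) - 1, by omega⟩ : Fin m)]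
        · exact if_pos (by simp; omega)
        · intro i _ hi
          exact if_neg fun e => hi (Fin.ext (by simp; omega))
        · simp
  · by_cases h : Fintype.card S = 0 ∧ (a : ℕ) + 2 = m
    · rw [if_pos h, Finset.sum_eq_single (⟨m - 1, by omega⟩ : Fin m)]
      · exact if_pos ⟨h.1, by simp; omega, h.2⟩
      · intro i _ hi
        exact if_neg fun e => hi (Fin.ext (by simp; omega))
      · simp
    · rw [if_neg h]
      exact Finset.sum_eq_zero fun i _ => if_neg fun e => h ⟨e.1, e.2.2⟩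

theorem sum_cw_all (E : ℕ → ℤ) (f : Fin m → ℤ)
    (h : ∀ a : Fin m, ∑ i : Fin m, E i * cw (sim fr hm i) (Sum.inr (Sum.inl a)) = f a) (r : S ⊕ Idx m) :
    ∑ i : Fin m, E i * cw (sim fr hm i) r = Sum.elim (fun _ => 0) (Sum.elim f fun a => -f a) r := by
  rcases r with s | (a | a)
  · refine Finset.sum_eq_zero fun i _ => ?_
    have := cw_swapJ (sim fr hm i) (Sum.inl s)
    simp [swapJ] at this
    rw [show cw (sim fr hm i) (Sum.inl s) = 0 by omega, mul_zero]
  · exact h a
  · show _ = -f a
    rw [← h a, ← Finset.sum_neg_distrib]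
    refine Finset.sum_congr rfl fun i _ => ?_
    rw [← mul_neg, ← cw_swapJ]
    rfl

end Sum

variable {F : Type u} [Field F] {V : Type v} [AddCommGroup V] [Module F V] {Q : QuadraticForm F V} {m k : ℕ}
  {S : Type} [Fintype S] [DecidableEq S] (fr : Frame Q m S) (e : Fin (k + 2) ⊕ Unit ≃ Fin m)

/-- antisymmetric extension of a function on the coordinates -/
def ext' {R : Type*} [Zero R] [Neg R] (f : Fin m → R) : S ⊕ Idx m → R :=
  Sum.elim (fun _ => 0) (Sum.elim f fun a => -f a)

theorem ext'_swapJ (f : Fin m → ℤ) (j : S ⊕ Idx m) : ext' f (swapJ j) = -ext' f j := by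
  rcases j with s | (a | a) <;> simp [ext', swapJ]

/-- matrices of the Levi subgroup -/
def lMat : Matrix.SpecialLinearGroup (Fin (k + 2)) F →* Matrix (S ⊕ Idx m) (S ⊕ Idx m) F where
  toFun x := Matrix.fromBlocks 1 0 0 (ClassicalSections.levi m (ClassicalSections.blockSL e x))
  map_one' := by rw [map_one, map_one, Matrix.fromBlocks_one]
  map_mul' x y := by rw [map_mul, map_mul, Matrix.fromBlocks_multiply]; simp

/-- the root of a pair of block coordinates -/
def bRoot (a b : Fin (k + 2)) (h : a ≠ b) : Root S m :=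
  lr (Sum.inl (e (Sum.inl a))) (Sum.inr (e (Sum.inl b))) (by simp)
    (by simp only [Sum.swap_inl, ne_eq, Sum.inr.injEq, EmbeddingLike.apply_eq_iff_eq, Sum.inl.injEq]; exact h.symm)

theorem lMat_transvection (a b : Fin (k + 2)) (h : a ≠ b) (t : F) :
    lMat e (Matrix.SpecialLinearGroup.transvection h t) = mat fr (pr fr (rt fr (bRoot (S := S) e a b h) t)) := by
  have hab : e (Sum.inl a) ≠ e (Sum.inl b) := fun he => h (Sum.inl_injective (e.injective he))
  have h1 : ClassicalSections.blockSL e (Matrix.SpecialLinearGroup.transvection h t) =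
      Matrix.SpecialLinearGroup.transvection hab t := Subtype.ext (blockSL_transvection e h t)
  have hinv : (Matrix.SpecialLinearGroup.transvection hab t)⁻¹ = Matrix.SpecialLinearGroup.transvection hab (-t) :=
    Matrix.SpecialLinearGroup.transvection_inv hab t
  ext r c
  rw [mat_rt]
  show Matrix.fromBlocks 1 0 0 (ClassicalSections.levi m (ClassicalSections.blockSL e
    (Matrix.SpecialLinearGroup.transvection h t))) r c = _
  rw [h1]
  show Matrix.fromBlocks 1 0 0 (Matrix.fromBlocks (Matrix.transvection _ _ t) 0 0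
    ((Matrix.SpecialLinearGroup.transvection hab t)⁻¹).1.transpose) r c = _
  rw [hinv]
  show Matrix.fromBlocks 1 0 0 (Matrix.fromBlocks (Matrix.transvection _ _ t) 0 0
    (Matrix.transvection (e (Sum.inl a)) (e (Sum.inl b)) (-t)).transpose) r c = _
  rcases r with s | (r | r) <;> rcases c with s' | (c | c) <;>
    simp [bRoot, lr, swapJ, nu, Matrix.transvection, Matrix.one_apply, Matrix.single_apply, fr.sing, eq_comm] <;>
    split_ifs <;> simp_all

theorem lMat_range [Nontrivial (Fin (k + 2))] (x : Matrix.SpecialLinearGroup (Fin (k + 2)) F) :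
    ∃ g : Om fr, mat fr g = lMat e x := by
  let T : Subgroup (Matrix.SpecialLinearGroup (Fin (k + 2)) F) :=
    { carrier := {x | ∃ g : Om fr, mat fr g = lMat e x}
      one_mem' := ⟨1, by rw [map_one, map_one]⟩
      mul_mem' := by
        rintro x y ⟨g, hg⟩ ⟨g', hg'⟩
        exact ⟨g * g', by rw [map_mul, map_mul, hg, hg']⟩
      inv_mem' := by
        rintro x ⟨g, hg⟩
        refine ⟨g⁻¹, ?_⟩
        calc mat fr g⁻¹ = mat fr g⁻¹ * (lMat e x * lMat e x⁻¹) := by
              rw [← map_mul (lMat e), mul_inv_cancel, map_one, mul_one]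
          _ = lMat e x⁻¹ := by rw [← mul_assoc, ← hg, ← map_mul, inv_mul_cancel, map_one, one_mul] }
  have hT := CfsgLib.Classical.closure_transvection_eq_top T fun a b h c =>
    ⟨pr fr (rt fr (bRoot e a b h) c), (lMat_transvection fr e a b h c).symm⟩
  have : x ∈ T := hT ▸ Subgroup.mem_top x
  exact this

/-- the Levi subgroup -/
def lHom : Matrix.SpecialLinearGroup (Fin (k + 2)) F →* Om fr :=
  MonoidHom.mk' (fun x => (lMat_range fr e x).choose) fun x y => mat_injective fr
    (((lMat_range fr e (x * y)).choose_spec.trans (map_mul (lMat e) x y)).trans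
      ((congrArg₂ (· * ·) (lMat_range fr e x).choose_spec (lMat_range fr e y).choose_spec).symm.trans
        (map_mul (mat fr) _ _).symm))

theorem mat_lHom (x : Matrix.SpecialLinearGroup (Fin (k + 2)) F) : mat fr (lHom fr e x) = lMat e x :=
  (lMat_range fr e x).choose_spec

theorem lHom_transvection (a b : Fin (k + 2)) (h : a ≠ b) (t : F) :
    lHom fr e (Matrix.SpecialLinearGroup.transvection h t) = pr fr (rt fr (bRoot (S := S) e a b h) t) :=
  mat_injective fr (by rw [mat_lHom, lMat_transvection fr])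

theorem lMat_level (f : Fin m → ℤ) (hf : ∀ a b, f (e (Sum.inl a)) = f (e (Sum.inl b)))
    (x : Matrix.SpecialLinearGroup (Fin (k + 2)) F) (r c : S ⊕ Idx m) (h : ext' f r ≠ ext' f c) :
    lMat e x r c = 0 := by
  have key : ∀ (y : Matrix.SpecialLinearGroup (Fin (k + 2)) F) (p q : Fin m), f p ≠ f q →
      (ClassicalSections.blockSL e y).1 p q = 0 := by
    intro y p q hpq
    obtain ⟨p, rfl⟩ := e.surjective p
    obtain ⟨q, rfl⟩ := e.surjective q
    show Matrix.reindex e e (Matrix.fromBlocks y.1 0 0 1) (e p) (e q) = 0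
    simp only [Matrix.reindex_apply, Matrix.submatrix_apply, Equiv.symm_apply_apply]
    rcases p with p | p <;> rcases q with q | q
    · exact absurd (hf p q) hpq
    · rfl
    · rfl
    · exact Matrix.one_apply_ne fun (e' : p = q) => hpq (by rw [e'])
  rcases r with s | (r | r) <;> rcases c with s' | (c | c)
  · exact Matrix.one_apply_ne fun e' => h (by rw [e'])
  all_goals try rfl
  · exact key x r c (fun e' => h e')
  · show ((ClassicalSections.blockSL e x)⁻¹).1 c r = 0
    rw [← map_inv]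
    exact key x⁻¹ c r (fun e' => h (by simp [ext', e']))

/-- two homomorphisms agreeing on transvections agree -/
theorem hom_ext {M : Type*} [Monoid M] [Nontrivial (Fin (k + 2))]
    {f g : Matrix.SpecialLinearGroup (Fin (k + 2)) F →* M}
    (h : ∀ (a b : Fin (k + 2)) (hab : a ≠ b) (t : F),
      f (Matrix.SpecialLinearGroup.transvection hab t) = g (Matrix.SpecialLinearGroup.transvection hab t)) :
    f = g := by
  have hT := CfsgLib.Classical.closure_transvection_eq_top (f.eqLocus g) h
  refine MonoidHom.ext fun x => ?_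
  have : x ∈ f.eqLocus g := hT ▸ Subgroup.mem_top x
  exact this

include fr in
theorem lMat_diag [Nontrivial (Fin (k + 2))] (c : Fˣ) (d : S ⊕ Idx m → Fˣ)
    (hd : ∀ j, d (swapJ j) = (d j)⁻¹)
    (hd' : ∀ a, d (Sum.inr (Sum.inl (e (Sum.inl a)))) = if a = 0 then c else 1)
    (x : Matrix.SpecialLinearGroup (Fin (k + 2)) F) :
    Matrix.diagonal (fun r => (d r : F)) * lMat e x =
      lMat e (conjDiag c x) * Matrix.diagonal fun r => (d r : F) := by
  have hDD : Matrix.diagonal (fun r => ((d r)⁻¹ : Fˣ).1) * Matrix.diagonal (fun r => (d r : F)) =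
      (1 : Matrix (S ⊕ Idx m) (S ⊕ Idx m) F) := by
    rw [Matrix.diagonal_mul_diagonal, ← Matrix.diagonal_one]
    exact congrArg _ (funext fun r => Units.inv_mul (d r))
  have hDD' : Matrix.diagonal (fun r => (d r : F)) * Matrix.diagonal (fun r => ((d r)⁻¹ : Fˣ).1) =
      (1 : Matrix (S ⊕ Idx m) (S ⊕ Idx m) F) := mul_eq_one_comm.1 hDD
  let g1 : Matrix.SpecialLinearGroup (Fin (k + 2)) F →* Matrix (S ⊕ Idx m) (S ⊕ Idx m) F :=
    { toFun := fun x => Matrix.diagonal (fun r => (d r : F)) * lMat e x *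
        Matrix.diagonal (fun r => ((d r)⁻¹ : Fˣ).1)
      map_one' := by rw [map_one, mul_one, hDD']
      map_mul' := fun x y => by
        rw [map_mul]
        simp only [mul_assoc]
        rw [← mul_assoc (Matrix.diagonal fun r => ((d r)⁻¹ : Fˣ).1) (Matrix.diagonal fun r => (d r : F)), hDD,
          one_mul] }
  let g2 : Matrix.SpecialLinearGroup (Fin (k + 2)) F →* Matrix (S ⊕ Idx m) (S ⊕ Idx m) F :=
    (lMat e).comp (MonoidHom.mk' (conjDiag c) (conjDiag_mul c))
  have key : g1 = g2 := by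
    refine hom_ext fun a b hab t => ?_
    show Matrix.diagonal (fun r => (d r : F)) * lMat e _ * _ = lMat e (conjDiag c _)
    rw [conjDiag_transvection, lMat_transvection fr, lMat_transvection fr]
    ext r s
    rw [Matrix.mul_diagonal, Matrix.diagonal_mul]
    have hne : e (Sum.inl a) ≠ e (Sum.inl b) := fun he => hab (Sum.inl_injective (e.injective he))
    have hA := hd' a
    have hB := hd' b
    have hA' : d (Sum.inr (Sum.inr (e (Sum.inl a)))) = (d (Sum.inr (Sum.inl (e (Sum.inl a)))))⁻¹ :=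
      hd (Sum.inr (Sum.inl (e (Sum.inl a))))
    have hB' : d (Sum.inr (Sum.inr (e (Sum.inl b)))) = (d (Sum.inr (Sum.inl (e (Sum.inl b)))))⁻¹ :=
      hd (Sum.inr (Sum.inl (e (Sum.inl b))))
    rw [mat_rt, mat_rt]
    simp only [bRoot, lr, swapJ, Sum.map_inr, Sum.swap_inr, Sum.swap_inl, fr.sing, ite_self, mul_zero, sub_zero,
      nu, Sum.elim_inr, Matrix.one_apply]
    by_cases h1 : s = Sum.inr (Sum.inl (e (Sum.inl b))) ∧ r = Sum.inr (Sum.inl (e (Sum.inl a)))
    · obtain ⟨rfl, rfl⟩ := h1
      simp [hA, hB, hne]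
      by_cases ha : a = 0 <;> by_cases hb : b = 0
      · exact absurd (ha.trans hb.symm) hab
      all_goals (simp [ha, hb] <;> ring)
    · by_cases h2 : s = Sum.inr (Sum.inr (e (Sum.inl a))) ∧ r = Sum.inr (Sum.inr (e (Sum.inl b)))
      · obtain ⟨rfl, rfl⟩ := h2
        simp [hA, hB, hA', hB', hne.symm]
        by_cases ha : a = 0 <;> by_cases hb : b = 0
        · exact absurd (ha.trans hb.symm) hab
        all_goals (simp [ha, hb] <;> ring)
      · by_cases h3 : r = s
        · subst h3; simp [h1, h2]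
        · simp [h1, h2, h3]
  have := DFunLike.congr_fun key x
  change Matrix.diagonal (fun r => (d r : F)) * lMat e x * _ = lMat e (conjDiag c x) at this
  rw [← this, mul_assoc _ _ (Matrix.diagonal fun r => (d r : F)), hDD, mul_one]

theorem regM_conj {n : ℕ} {x : Matrix (Fin n) (Fin n) F} (u : (Matrix (Fin n) (Fin n) F)ˣ) (h : RegM x) :
    RegM ((u : Matrix (Fin n) (Fin n) F) * x * (↑u⁻¹ : Matrix (Fin n) (Fin n) F)) := by
  have e1 : (u : Matrix (Fin n) (Fin n) F) * x * (↑u⁻¹ : Matrix (Fin n) (Fin n) F) - 1 =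
      (u : Matrix (Fin n) (Fin n) F) * (x - 1) * (↑u⁻¹ : Matrix (Fin n) (Fin n) F) := by
    rw [mul_sub, sub_mul, mul_one, Units.mul_inv]
  refine ⟨by rw [e1, Units.conj_pow, h.1, mul_zero, zero_mul], fun hh => h.2 ?_⟩
  rw [e1, Units.conj_pow] at hh
  have := congrArg (fun M => (↑u⁻¹ : Matrix (Fin n) (Fin n) F) * M * (u : Matrix (Fin n) (Fin n) F)) hh
  simpa [← mul_assoc] using this

theorem regM_transpose {n : ℕ} {x : Matrix (Fin n) (Fin n) F} (h : RegM x) : RegM x.transpose := by
  have e : ∀ j : ℕ, (x.transpose - 1) ^ j = ((x - 1) ^ j).transpose := fun j => by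
    rw [Matrix.transpose_pow, Matrix.transpose_sub, Matrix.transpose_one]
  refine ⟨by rw [e, h.1, Matrix.transpose_zero], fun e' => h.2 ?_⟩
  rw [e] at e'
  exact Matrix.transpose_eq_zero.1 e'

theorem lHom_invert [Nontrivial (Fin (k + 2))] (hflip : ∀ a, ((e (Sum.inl a) : Fin m) : ℕ) < fN fr) :
    ∃ x x' : Matrix.SpecialLinearGroup (Fin (k + 2)) F, RegM x.1 ∧ RegM x'.1 ∧
      pr fr (fW fr) * lHom fr e x * (pr fr (fW fr))⁻¹ = lHom fr e x' := by
  let δ : Fin (k + 2) → F := fun a => fD fr (Sum.inr (Sum.inr (e (Sum.inl a))))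
  have hδ : ∀ a, δ a ≠ 0 := fun a => (fW_spec fr).1.d_ne _
  let D : Matrix (Fin (k + 2)) (Fin (k + 2)) F := Matrix.diagonal δ
  let D' : Matrix (Fin (k + 2)) (Fin (k + 2)) F := Matrix.diagonal fun a => (δ a)⁻¹
  have hDD : D' * D = 1 := by
    simp only [D, D', Matrix.diagonal_mul_diagonal, ← Matrix.diagonal_one]
    exact congrArg _ (funext fun a => inv_mul_cancel₀ (hδ a))
  have hDD' : D * D' = 1 := mul_eq_one_comm.1 hDD
  have hdet : ∀ y : Matrix.SpecialLinearGroup (Fin (k + 2)) F, (D * (y⁻¹).1.transpose * D').det = 1 := fun y => by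
    rw [Matrix.det_mul_right_comm, hDD', one_mul, Matrix.det_transpose, (y⁻¹).2]
  let φ : Matrix.SpecialLinearGroup (Fin (k + 2)) F →* Matrix.SpecialLinearGroup (Fin (k + 2)) F :=
    MonoidHom.mk' (fun y => ⟨D * (y⁻¹).1.transpose * D', hdet y⟩) fun y z => Subtype.ext (by
      show D * ((y * z)⁻¹).1.transpose * D' = D * (y⁻¹).1.transpose * D' * (D * (z⁻¹).1.transpose * D')
      rw [_root_.mul_inv_rev, Matrix.SpecialLinearGroup.coe_mul, Matrix.transpose_mul]
      simp only [mul_assoc]
      rw [← mul_assoc D' D, hDD, one_mul])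
  have key : ((MulAut.conj (pr fr (fW fr))).toMonoidHom.comp (lHom fr e)) = (lHom fr e).comp φ := by
    refine hom_ext fun a b hab t => ?_
    show pr fr (fW fr) * lHom fr e _ * (pr fr (fW fr))⁻¹ = lHom fr e (φ _)
    have hne : δ a ≠ 0 := hδ a
    have hφ : φ (Matrix.SpecialLinearGroup.transvection hab t) =
        Matrix.SpecialLinearGroup.transvection hab.symm (-(δ b / δ a * t)) := by
      refine Subtype.ext ?_
      show D * ((Matrix.SpecialLinearGroup.transvection hab t)⁻¹).1.transpose * D' =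
        Matrix.transvection b a (-(δ b / δ a * t))
      rw [Matrix.SpecialLinearGroup.transvection_inv]
      show D * (Matrix.transvection a b (-t)).transpose * D' = _
      ext i j
      simp only [D, D', Matrix.mul_diagonal, Matrix.diagonal_mul]
      by_cases h1 : i = b ∧ j = a
      · obtain ⟨rfl, rfl⟩ := h1
        simp [Matrix.transvection, hab, hab.symm]
        field_simp
      · have h1' : ¬ (b = i ∧ a = j) := fun h => h1 ⟨h.1.symm, h.2.symm⟩
        have h1'' : ¬ (a = j ∧ b = i) := fun h => h1' ⟨h.2, h.1⟩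
        by_cases h2 : i = j
        · subst h2; simp [Matrix.transvection, Matrix.single_apply, h1', h1'', hδ]
        · simp [Matrix.transvection, Matrix.single_apply, h1', h1'', h2, Ne.symm h2]
    rw [hφ, lHom_transvection, lHom_transvection, ← map_inv, ← map_mul, ← map_mul, (fW_spec fr).1.conj_rt]
    refine congrArg (pr fr) ?_
    have hA : (flipTo m (fN fr)) (Sum.inl (e (Sum.inl a))) = Sum.inr (e (Sum.inl a)) := by
      rw [flipTo_apply]; exact if_pos (hflip a)
    have hB : (flipTo m (fN fr)) (Sum.inr (e (Sum.inl b))) = Sum.inl (e (Sum.inl b)) := by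
      rw [flipTo_apply]; exact if_pos (hflip b)
    have hmove : (bRoot (S := S) e a b hab).move (flipTo m (fN fr)) (flipTo_swap _) =
        (bRoot (S := S) e b a hab.symm).flipPair (Sum.inr (e (Sum.inl a))) rfl := by
      refine Subtype.ext (Prod.ext hA ?_)
      show Sum.inr ((flipTo m (fN fr)) (Sum.inr (e (Sum.inl b)))) = _
      rw [hB]; rfl
    rw [hmove]
    refine (rt_flipPair fr _ _ _ _).trans ?_
    congr 1
    have hm := (fW_spec fr).1.d_mul (Sum.inr (Sum.inr (e (Sum.inl a))))
    show -(fD fr (Sum.inr (Sum.inl (e (Sum.inl a)))) * fD fr (Sum.inr (Sum.inr (e (Sum.inl b)))) * t) = -(δ b / δ a * t)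
    have : fD fr (Sum.inr (Sum.inl (e (Sum.inl a)))) = (δ a)⁻¹ := eq_inv_of_mul_eq_one_right hm
    rw [this, div_eq_inv_mul]
  obtain ⟨x, hx⟩ := exists_regM (F := F) k
  refine ⟨x, φ x, hx, ?_, DFunLike.congr_fun key x⟩
  exact regM_conj ⟨D, D', hDD', hDD⟩ (regM_transpose hx.inv)

theorem small_one (f : Fin m → ℤ)
    (hbig : ∀ r c : S ⊕ Idx m, 8 ≤ |ext' f r - ext' f c| → c = swapJ r ∧ ∃ x, r = Sum.inr x) (g : Om fr)
    (hg : ∀ r, mat fr g r r = 1)
    (hs : ∀ r c, -8 < ext' f r - ext' f c → ext' f r - ext' f c < 8 →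
      mat fr g r c = (1 : Matrix (S ⊕ Idx m) (S ⊕ Idx m) F) r c) : g = 1 := by
  refine mat_injective fr ?_
  rw [map_one]
  ext r c
  by_cases hsm : -8 < ext' f r - ext' f c ∧ ext' f r - ext' f c < 8
  · exact hs r c hsm.1 hsm.2
  obtain ⟨hc, x, rfl⟩ := hbig r c (by rw [le_abs]; omega)
  have hrc : (Sum.inr x : S ⊕ Idx m) ≠ c := fun e' => hsm (by rw [e']; omega)
  rw [Matrix.one_apply_ne hrc]
  obtain ⟨h', rfl⟩ := MonoidHom.rangeRestrict_surjective (toO fr) g
  obtain ⟨v, hv⟩ : ∃ v, v = mat fr (pr fr h') (Sum.inr x) c := ⟨_, rfl⟩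
  have hcol : ap fr h' (fr.e c) = fr.e c + v • fr.e (Sum.inr x) := by
    refine fr.e.ext_elem fun l => ?_
    rw [← mat_pr, map_add, map_smul, Finsupp.add_apply, Finsupp.smul_apply, Module.Basis.repr_self,
      Module.Basis.repr_self, smul_eq_mul, Finsupp.single_apply, Finsupp.single_apply]
    by_cases h1 : l = c
    · subst h1; rw [if_pos rfl, if_neg hrc, mul_zero, add_zero]; exact hg l
    rw [if_neg (Ne.symm h1), zero_add]
    by_cases h2 : l = Sum.inr x
    · subst h2; rw [if_pos rfl, mul_one, hv]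
    rw [if_neg (Ne.symm h2), mul_zero]
    by_cases hl : -8 < ext' f l - ext' f c ∧ ext' f l - ext' f c < 8
    · exact (hs l c hl.1 hl.2).trans (Matrix.one_apply_ne h1)
    · obtain ⟨hc', -⟩ := hbig l c (by rw [le_abs]; omega)
      exact absurd (by rw [← swapJ_swapJ l, ← hc', hc, swapJ_swapJ]) h2
  have hQ : Q (ap fr h' (fr.e c)) = Q (fr.e c) := OQ.map_apply (toO fr h') (fr.e c)
  rw [hcol, apply_add, apply_smul, fr.sing, hc] at hQ
  have hp : polar Q (fr.e (swapJ (Sum.inr x : S ⊕ Idx m))) (v • fr.e (Sum.inr x)) = v := by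
    rw [polar_smul_right', polar_e, if_pos (swapJ_swapJ _).symm]
    exact mul_one v
  rw [hp, mul_zero, add_zero] at hQ
  show mat fr (pr fr h') (Sum.inr x) c = 0
  rw [← hv]
  exact add_eq_left.1 hQ

end

end CfsgLib.Known.ClassSquare.Orth
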