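import Cfsg.Agent.Lib.Known.ClassSquare.OrthRoots
import Cfsg.Agent.Lib.Known.SpinMult.Forms

/-!
# The matrix model of the split orthogonal groups
-/

set_option autoImplicit false
set_option linter.unusedSectionVars false

namespace CfsgLib.Known.ClassSquare.Orth

noncomputable section

open QuadraticMap CfsgLib.Classical.Quad CfsgLib.Known.SpinMult

universe u v

variable {F : Type u} [Field F] {V : Type v} [AddCommGroup V] [Module F V] {Q : QuadraticForm F V} {m : ℕ}
  {S : Type} [Fintype S] [DecidableEq S] (fr : Frame Q m S) (hm : 2 ≤ m)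

/-- the orthogonal image of the spin group -/
abbrev Om : Subgroup (OQ Q) := (toO fr).range

/-- the projection -/
abbrev pr : Spin fr →* Om fr := (toO fr).rangeRestrict

/-- the matrix of an orthogonal map -/
def mat : Om fr →* Matrix (S ⊕ Idx m) (S ⊕ Idx m) F where
  toFun g := LinearMap.toMatrix fr.e fr.e (((g : OQ Q) : V ≃ₗ[F] V) : V →ₗ[F] V)
  map_one' := LinearMap.toMatrix_id fr.e
  map_mul' g h := LinearMap.toMatrix_mul fr.e _ _

theorem mat_injective : Function.Injective (mat fr) := fun g h e =>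
  Subtype.ext (Subtype.ext (LinearEquiv.toLinearMap_injective ((LinearMap.toMatrix fr.e fr.e).injective e)))

theorem mat_pr (g : Spin fr) (r c : S ⊕ Idx m) : mat fr (pr fr g) r c = fr.e.repr (ap fr g (fr.e c)) r :=
  LinearMap.toMatrix_apply fr.e fr.e _ r c

theorem mat_rt (q : Root S m) (t : F) (r c : S ⊕ Idx m) :
    mat fr (pr fr (rt fr q t)) r c = (1 : Matrix (S ⊕ Idx m) (S ⊕ Idx m) F) r c +
      t * ((if c = swapJ q.1.2 ∧ r = Sum.inr q.1.1 then nu S m q.1.2 else 0) -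
        (if c = Sum.inr q.1.1.swap ∧ r = q.1.2 then 1 else 0)) -
      t * t * (if c = Sum.inr q.1.1.swap ∧ r = Sum.inr q.1.1 then Q (fr.e q.1.2) else 0) := by
  rw [mat_pr, ap_rt, polar_e, polar_e]
  simp only [map_add, map_sub, map_smul, Finsupp.add_apply, Finsupp.sub_apply, Finsupp.smul_apply,
    Module.Basis.repr_self, Finsupp.single_apply, smul_eq_mul, Matrix.one_apply, swapJ, Sum.map_inr]
  have hnu : ∀ x : Idx m, (nu S m (Sum.inr x) : F) = 1 := fun x => rfl
  simp only [eq_comm (a := r), hnu]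
  by_cases h1 : c = Sum.map id Sum.swap q.1.2 <;> by_cases h2 : c = Sum.inr q.1.1.swap <;>
    by_cases h3 : Sum.inr q.1.1 = r <;> by_cases h4 : q.1.2 = r <;>
    simp only [h1, h2, h3, h4, if_true, if_false, and_self, and_false, false_and, true_and, and_true] <;>
    first | ring1 | (split_ifs <;> ring1) | (simp_all <;> ring1)

/-- root elements are triangular for antisymmetric weights -/
theorem mat_rt_tri (f : S ⊕ Idx m → ℤ) (hf : ∀ j, f (swapJ j) = -f j) (q : Root S m) (t : F) (r c : S ⊕ Idx m)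
    (h : (0 < f (Sum.inr q.1.1) + f q.1.2 ∧ f r ≤ f c) ∨ (f (Sum.inr q.1.1) + f q.1.2 < 0 ∧ f c ≤ f r)) :
    mat fr (pr fr (rt fr q t)) r c = (1 : Matrix (S ⊕ Idx m) (S ⊕ Idx m) F) r c := by
  have ha : f (Sum.inr q.1.1.swap) = -f (Sum.inr q.1.1) := by
    rw [← hf]; rfl
  have hj := hf q.1.2
  rw [mat_rt, if_neg, if_neg]
  · have hz : (if c = Sum.inr q.1.1.swap ∧ r = Sum.inr q.1.1 then Q (fr.e q.1.2) else 0) = 0 := by
      rcases hb : q.1.2 with s | b
      · rw [if_neg]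
        rintro ⟨rfl, rfl⟩
        have h0 : f (Sum.inl s) = 0 := by have := hf (Sum.inl s); simp [swapJ] at this; omega
        rw [hb, h0] at h
        omega
      · rw [fr.sing, ite_self]
    rw [hz]
    ring
  · rintro ⟨rfl, rfl⟩; omega
  · rintro ⟨rfl, rfl⟩; omega

/-- weights of a coroot -/
def cw (q : Root S m) (r : S ⊕ Idx m) : ℤ :=
  ((if r = Sum.inr q.1.1 then 1 else 0) - (if r = Sum.inr q.1.1.swap then 1 else 0)) +
    match q.1.2 with
    | .inl _ => (if r = Sum.inr q.1.1 then 1 else 0) - (if r = Sum.inr q.1.1.swap then 1 else 0)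
    | .inr b => (if r = Sum.inr b then 1 else 0) - (if r = Sum.inr b.swap then 1 else 0)

theorem cw_swapJ (q : Root S m) (r : S ⊕ Idx m) : cw q (swapJ r) = -cw q r := by
  have hs : ∀ a b : Idx m, a.swap = b ↔ a = b.swap := fun a b =>
    ⟨fun h => by rw [← h, Sum.swap_swap], fun h => by rw [h, Sum.swap_swap]⟩
  rcases r with s | x
  · obtain ⟨⟨a, y⟩, q1, q2⟩ := q
    rcases y with t | b <;> simp [cw, swapJ]
  · obtain ⟨⟨a, y⟩, q1, q2⟩ := q
    rcases y with t | b <;> simp [cw, swapJ, hs] <;> ring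

theorem hD_zpow (q : Root S m) (c : F) (r : S ⊕ Idx m) : hD q c r = c ^ cw q r := by
  have na := idx_swap_ne q.1.1
  obtain ⟨⟨a, y⟩, q1, q2⟩ := q
  rcases y with s | b <;> rcases r with t | x <;> simp only [hD, cw, Sum.elim_inl, Sum.elim_inr, Sum.inr.injEq,
    reduceCtorEq, if_false, sub_zero, add_zero, _root_.zpow_zero]
  · by_cases h1 : x = a
    · subst h1; simp [na.symm, zpow_ofNat]
    · by_cases h2 : x = a.swap
      · subst h2; simp [na, zpow_ofNat, _root_.zpow_neg]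
      · simp [h1, h2]
  · have hab : b ≠ a := fun e => q1 (by rw [e])
    have hab' : b ≠ a.swap := fun e => q2 (by rw [e])
    have hb'a : b.swap ≠ a := fun e => hab' (by rw [← e, Sum.swap_swap])
    have hb'a' : b.swap ≠ a.swap := fun e => hab (Sum.swap_leftInverse.injective e)
    have nb := idx_swap_ne b
    by_cases h1 : x = a
    · subst h1; simp [na.symm, hab.symm, hb'a.symm]
    by_cases h2 : x = b
    · subst h2; simp [nb.symm, hab, hab']
    by_cases h3 : x = a.swap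
    · subst h3; simp [na, hab'.symm, hb'a'.symm, _root_.zpow_neg]
    by_cases h4 : x = b.swap
    · subst h4; simp [nb, hb'a, hb'a', _root_.zpow_neg]
    simp [h1, h2, h3, h4]

/-- Cartan integers -/
def cart (i j : Fin m) : ℤ :=
  cw (sim fr hm i) (Sum.inr (sim fr hm j).1.1) + cw (sim fr hm i) (sim fr hm j).1.2

theorem cart_self (i : Fin m) : cart fr hm i i = 2 := by
  obtain ⟨q, hq⟩ : ∃ q, q = sim fr hm i := ⟨_, rfl⟩
  show cw (sim fr hm i) _ + cw (sim fr hm i) _ = 2
  rw [← hq]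
  obtain ⟨⟨a, y⟩, q1, q2⟩ := q
  have na := idx_swap_ne a
  rcases y with s | b
  · simp [cw, na.symm]
  · have hab : b ≠ a := fun e => q1 (by rw [e])
    have hab' : b ≠ a.swap := fun e => q2 (by rw [e])
    have hb'a : b.swap ≠ a := fun e => hab' (by rw [← e, Sum.swap_swap])
    simp [cw, na.symm, hab, hab.symm, hab', hb'a.symm, (idx_swap_ne b).symm]

theorem cart_natAbs (i k : Fin m) (h : k ≠ i) :
    (cart fr hm i k).natAbs ≤ (if (k : ℕ) + 1 = i then 1 + Fintype.card S else 0) +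
      (if (k : ℕ) = i + 1 then 1 else 0) +
      if Fintype.card S = 0 ∧ ((k : ℕ) = i + 2 ∧ (k : ℕ) + 1 = m ∨ (i : ℕ) = k + 2 ∧ (i : ℕ) + 1 = m) then 1 else 0 := by
  classical
  have hc := card_S_le fr
  have hne : Nonempty S → Fintype.card S = 1 := fun h => by have := Fintype.card_pos_iff.2 h; omega
  have h' : (k : ℕ) ≠ i := fun e => h (Fin.ext e)
  have := i.2
  have := k.2
  rcases sim_cases fr hm i with ⟨hi, ei⟩ | ⟨hi, si', ei⟩ | ⟨hi, hSi, _, ei⟩ <;>
    rcases sim_cases fr hm k with ⟨hk, ek⟩ | ⟨hk, sk', ek⟩ | ⟨hk, hSk, _, ek⟩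
  all_goals
    simp only [cart, cw, ei, ek, Sum.inr.injEq, Sum.inl.injEq, Sum.swap_inl, Sum.swap_inr, reduceCtorEq, if_false,
      Fin.ext_iff]
    first
      | (have := hne ⟨si'⟩; split_ifs <;> simp <;> omega)
      | (have := hne ⟨sk'⟩; split_ifs <;> simp <;> omega)
      | (have : Fintype.card S = 0 := Fintype.card_eq_zero_iff.2 (by assumption)
         split_ifs <;> first | omega | (simp <;> omega) | norm_num)
      | (split_ifs <;> first | omega | (simp <;> omega) | norm_num)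

/-- the predecessor in the diagram -/
theorem cart_adj (k : Fin m) (hm3 : 3 ≤ m) (hk : 0 < (k : ℕ)) :
    ∃ p : Fin m, (p : ℕ) < k ∧ cart fr hm k p ≠ 0 ∧ cart fr hm p k ≠ 0 := by
  classical
  have := k.2
  by_cases hfork : IsEmpty S ∧ (k : ℕ) + 1 = m
  · obtain ⟨hS, hk1⟩ := hfork
    obtain ⟨p, hp⟩ : ∃ p : Fin m, (p : ℕ) + 3 = m := ⟨⟨m - 3, by omega⟩, by simp; omega⟩
    refine ⟨p, by omega, ?_, ?_⟩ <;>
      simp only [cart, cw, sim_fork fr hm hk1, sim_long fr hm (show p.1 + 1 < m by omega), Sum.inr.injEq,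
        Sum.inl.injEq, Sum.swap_inl, Sum.swap_inr, reduceCtorEq, if_false, Fin.ext_iff] <;>
      split_ifs <;> first | omega | norm_num
  · obtain ⟨p, hp⟩ : ∃ p : Fin m, (p : ℕ) + 1 = k := ⟨⟨(k : ℕ) - 1, by omega⟩, by simp; omega⟩
    refine ⟨p, by omega, ?_, ?_⟩ <;>
      rcases sim_cases fr hm k with ⟨hk1, ek⟩ | ⟨hk1, s, ek⟩ | ⟨hk1, hS, _, ek⟩ <;>
      first
        | exact absurd ⟨(by assumption : IsEmpty S), hk1⟩ hfork
        | (simp only [cart, cw, ek, sim_long fr hm (show p.1 + 1 < m by omega), Sum.inr.injEq, Sum.inl.injEq,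
            Sum.swap_inl, Sum.swap_inr, reduceCtorEq, if_false, Fin.ext_iff]
           split_ifs <;> first | omega | norm_num)

theorem connected (hm3 : 3 ≤ m) (T : Finset (Fin m)) (hT : T.Nonempty)
    (h : ∀ p ∈ T, ∀ k : Fin m, cart fr hm p k ≠ 0 → k ∈ T) : T = Finset.univ := by
  have down : ∀ n : ℕ, ∀ k : Fin m, (k : ℕ) = n → ((k ∈ T → ⟨0, by omega⟩ ∈ T) ∧ (⟨0, by omega⟩ ∈ T → k ∈ T)) := by
    intro n
    induction n using Nat.strong_induction_on with
    | _ n ih =>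
    intro k hk
    rcases Nat.eq_zero_or_pos n with rfl | hn
    · rw [show k = ⟨0, by omega⟩ from Fin.ext hk]; exact ⟨id, id⟩
    · obtain ⟨p, hp, h1, h2⟩ := cart_adj fr hm k hm3 (by omega)
      obtain ⟨i1, i2⟩ := ih p (by omega) p rfl
      exact ⟨fun hkT => i1 (h k hkT p h1), fun h0 => h p (i2 h0) k h2⟩
  obtain ⟨p, hp⟩ := hT
  exact Finset.eq_univ_of_forall fun k => (down k k rfl).2 ((down p p rfl).1 hp)

theorem weyl_eq (q : Root S m) (c : F) :
    rt fr q (-c) * nt fr q c⁻¹ * rt fr q (-c) = rt fr q (-c) * nt fr q (-(-c)⁻¹) * rt fr q (-c) := by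
  rw [inv_neg, neg_neg]

theorem sxp_weyl (k : Fin m) (c : F) :
    wEl (sxp fr hm) (sxn fr hm) k c =
      rt fr (sim fr hm k) (-c) * nt fr (sim fr hm k) (-(-c)⁻¹) * rt fr (sim fr hm k) (-c) := by
  simp only [wEl, sxp, sxn, inv_neg, neg_neg]

theorem isMon_sxp_weyl (k : Fin m) {c : F} (hc : c ≠ 0) :
    IsMon fr (wEl (sxp fr hm) (sxn fr hm) k c) (rSwap (sim fr hm k)) (rD (sim fr hm k) (-c)) := by
  rw [sxp_weyl]
  exact isMon_weyl fr _ (neg_ne_zero.2 hc)

theorem sxp_tEl (k : Fin m) {c : F} (hc : c ≠ 0) : tEl (sxp fr hm) (sxn fr hm) k c = cor fr (sim fr hm k) c := by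
  obtain ⟨W, hW⟩ : ∃ W : F → Spin fr,
      W = fun x => rt fr (sim fr hm k) x * nt fr (sim fr hm k) (-x⁻¹) * rt fr (sim fr hm k) x := ⟨_, rfl⟩
  have hcor : ∀ x, cor fr (sim fr hm k) x = W x * W (-1) := fun x => by
    rw [hW]; simp only [cor, inv_neg, inv_one, neg_neg]
  have hinv : W 1 = (W (-1))⁻¹ := by
    rw [hW]; simp only; rw [weyl_inv, neg_neg]
  have e : tEl (sxp fr hm) (sxn fr hm) k c = W (-c) * W 1 := by
    rw [tEl, sxp_weyl, sxp_weyl, hW]; simp only [neg_neg]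
  have h := cor_mul fr (sim fr hm k) hc (neg_ne_zero.2 (one_ne_zero (α := F)))
  rw [mul_neg_one, hcor (-1), hcor (-c)] at h
  rw [e, hinv, ← mul_inv_eq_iff_eq_mul.2 h.symm, _root_.mul_inv_rev]
  group

/-- flipping the first coordinates -/
def flipTo (m : ℕ) (N : ℕ) : Equiv.Perm (Idx m) :=
  Function.Involutive.toPerm (fun x => if (Sum.elim id id x : Fin m).val < N then x.swap else x) fun x => by
    rcases x with a | a <;> by_cases h : a.val < N <;> simp [h]

theorem flipTo_apply (N : ℕ) (x : Idx m) :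
    flipTo m N x = if (Sum.elim id id x : Fin m).val < N then x.swap else x := rfl

theorem flipTo_swap (N : ℕ) (x : Idx m) : flipTo m N x.swap = (flipTo m N x).swap := by
  rw [flipTo_apply, flipTo_apply, show (Sum.elim id id x.swap : Fin m) = Sum.elim id id x by cases x <;> rfl]
  split_ifs <;> simp

theorem exists_flipTo (N : ℕ) (hN : N ≤ m) (h : Nonempty S ∨ Even N) :
    ∃ w d, IsMon fr w (flipTo m N) d := by
  induction N using Nat.strong_induction_on with
  | _ N ih =>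
  rcases Nat.eq_zero_or_pos N with rfl | hN0
  · exact ⟨1, fun _ => 1, by
      rw [show flipTo m 0 = 1 from Equiv.ext fun x => by simp [flipTo_apply]]; exact isMon_one (fr := fr)⟩
  rcases h with ⟨⟨s⟩⟩ | hev
  · obtain ⟨n, rfl⟩ : ∃ n, N = n + 1 := ⟨N - 1, by omega⟩
    obtain ⟨w, d, hw⟩ := ih n (by omega) (by omega) (Or.inl ⟨s⟩)
    have h2 := isMon_weyl fr (sr (Sum.inl ⟨n, by omega⟩) s) (one_ne_zero (α := F))
    suffices e : flipTo m (n + 1) = flipTo m n * rSwap (sr (S := S) (Sum.inl ⟨n, by omega⟩) s) by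
      have h3 := hw.mul h2
      rw [← e] at h3
      exact ⟨_, _, h3⟩
    refine Equiv.ext fun x => ?_
    have hsw : rSwap (sr (S := S) (Sum.inl ⟨n, by omega⟩) s) = Equiv.swap (Sum.inl (⟨n, by omega⟩ : Fin m)) (Sum.inr ⟨n, by omega⟩) := rfl
    rw [Equiv.Perm.mul_apply, hsw]
    rcases x with a | a <;>
    · by_cases h1 : a.val = n
      · rw [show a = ⟨n, by omega⟩ from Fin.ext h1]
        simp [flipTo_apply]
      · simp only [Equiv.swap_apply_def, Sum.inl.injEq, Sum.inr.injEq, reduceCtorEq, if_false, Fin.ext_iff, h1]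
        rw [flipTo_apply, flipTo_apply]
        show (if a.val < n + 1 then _ else _) = if a.val < n then _ else _
        split_ifs <;> first | rfl | omega
  · obtain ⟨n, rfl⟩ : ∃ n, N = n + 2 := ⟨N - 2, by obtain ⟨r, hr⟩ := hev; omega⟩
    obtain ⟨w, d, hw⟩ := ih n (by omega) (by omega) (Or.inr (by
      obtain ⟨r, hr⟩ := hev; exact ⟨r - 1, by omega⟩))
    let q : Root S m := lr (Sum.inl ⟨n, by omega⟩) (Sum.inl ⟨n + 1, by omega⟩) (by simp) (by simp)
    let r : Root S m := lr (Sum.inl ⟨n, by omega⟩) (Sum.inr ⟨n + 1, by omega⟩) (by simp) (by simp [Fin.ext_iff])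
    suffices e : flipTo m (n + 2) = flipTo m n * (rSwap r * rSwap q) by
      have h3 := hw.mul ((isMon_weyl fr r (one_ne_zero (α := F))).mul (isMon_weyl fr q one_ne_zero))
      rw [← e] at h3
      exact ⟨_, _, h3⟩
    refine Equiv.ext fun x => ?_
    have hr : rSwap r = Equiv.swap (Sum.inl ⟨n, by omega⟩) (Sum.inl ⟨n + 1, by omega⟩) *
        Equiv.swap (Sum.inr ⟨n + 1, by omega⟩) (Sum.inr ⟨n, by omega⟩) := rfl
    have hq : rSwap q = Equiv.swap (Sum.inl ⟨n, by omega⟩) (Sum.inr ⟨n + 1, by omega⟩) *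
        Equiv.swap (Sum.inl ⟨n + 1, by omega⟩) (Sum.inr ⟨n, by omega⟩) := rfl
    simp only [Equiv.Perm.mul_apply, hr, hq]
    rcases x with a | a <;>
    · by_cases h1 : a.val = n
      · rw [show a = ⟨n, by omega⟩ from Fin.ext h1]
        simp [flipTo_apply, Equiv.swap_apply_def, Fin.ext_iff]
      by_cases h2 : a.val = n + 1
      · rw [show a = ⟨n + 1, by omega⟩ from Fin.ext h2]
        simp [flipTo_apply, Equiv.swap_apply_def, Fin.ext_iff]
      simp only [Equiv.swap_apply_def, Sum.inl.injEq, Sum.inr.injEq, reduceCtorEq, if_false, Fin.ext_iff, h1, h2]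
      rw [flipTo_apply, flipTo_apply]
      show (if a.val < n + 2 then _ else _) = if a.val < n then _ else _
      split_ifs <;> first | rfl | omega

theorem exists_n0 : ∃ N w d, IsMon fr w (flipTo m N) d ∧ N ≤ m ∧ m ≤ N + 1 ∧ (Nonempty S → N = m) := by
  classical
  by_cases hS : Nonempty S
  · obtain ⟨w, d, h⟩ := exists_flipTo fr m le_rfl (Or.inl hS)
    exact ⟨m, w, d, h, le_rfl, by omega, fun _ => rfl⟩
  by_cases he : Even m
  · obtain ⟨w, d, h⟩ := exists_flipTo fr m le_rfl (Or.inr he)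
    exact ⟨m, w, d, h, le_rfl, by omega, fun _ => rfl⟩
  · obtain ⟨r, hr⟩ := Nat.not_even_iff_odd.1 he
    obtain ⟨w, d, h⟩ := exists_flipTo fr (2 * r) (by omega) (Or.inr ⟨r, by omega⟩)
    exact ⟨2 * r, w, d, h, by omega, by omega, fun e => absurd e hS⟩

/-- number of flipped coordinates -/
def fN : ℕ := (exists_n0 fr).choose

/-- element reversing the heights -/
def fW : Spin fr := (exists_n0 fr).choose_spec.choose

/-- its coefficients -/
def fD : S ⊕ Idx m → F := (exists_n0 fr).choose_spec.choose_spec.choose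

theorem fW_spec : IsMon fr (fW fr) (flipTo m (fN fr)) (fD fr) ∧ fN fr ≤ m ∧ m ≤ fN fr + 1 ∧
    (Nonempty S → fN fr = m) :=
  (exists_n0 fr).choose_spec.choose_spec.choose_spec

theorem flip_weight (f : S ⊕ Idx m → ℤ) (hf : ∀ j, f (swapJ j) = -f j)
    (h0 : IsEmpty S → ∀ a : Fin m, (a : ℕ) + 1 = m → f (Sum.inr (Sum.inl a)) = 0) (j : S ⊕ Idx m) :
    f (Sum.map id (flipTo m (fN fr)) j) = -f j := by
  rcases j with s | x
  · have := hf (Sum.inl s)
    simp [swapJ] at this ⊢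
    omega
  simp only [Sum.map_inr, flipTo_apply]
  by_cases hx : (Sum.elim id id x : Fin m).val < fN fr
  · rw [if_pos hx, ← hf]; rfl
  rw [if_neg hx]
  have hl : (Sum.elim id id x : Fin m).val + 1 = m := by
    have := (Sum.elim id id x : Fin m).2
    have := (fW_spec fr).2.2.1
    omega
  have hS : IsEmpty S := by
    by_contra hS
    rw [not_isEmpty_iff] at hS
    have := (fW_spec fr).2.2.2 hS
    have := (Sum.elim id id x : Fin m).2
    omega
  rcases x with a | a
  · rw [h0 hS a hl]; rfl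
  · have h1 := hf (Sum.inr (Sum.inl a))
    rw [h0 hS a hl] at h1
    rw [show f (Sum.inr (Sum.inr a)) = 0 from h1.trans neg_zero]
    rfl

theorem hgtJ_last (hS : IsEmpty S) (a : Fin m) (ha : (a : ℕ) + 1 = m) : hgtJ (S := S) (Sum.inr (Sum.inl a)) = 0 := by
  simp [hgtJ, hgt]
  omega

theorem deg_move_flip (q : Root S m) :
    deg (q.move (flipTo m (fN fr)) (flipTo_swap _)) = -deg q := by
  have h1 := flip_weight fr hgtJ hgtJ_swap hgtJ_last (Sum.inr q.1.1)
  have h2 := flip_weight fr hgtJ hgtJ_swap hgtJ_last q.1.2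
  show hgtJ (S := S) (Sum.inr (flipTo m (fN fr) q.1.1)) + hgtJ (Sum.map id (flipTo m (fN fr)) q.1.2) = _
  rw [Sum.map_inr] at h1
  rw [h1, h2]
  show _ = -(hgtJ (Sum.inr q.1.1 : S ⊕ Idx m) + hgtJ q.1.2)
  ring

theorem fW_sxp (k : Fin m) (t : F) : fW fr * sxp fr hm k t * (fW fr)⁻¹ ∈ genOf (sxn fr hm) := by
  rw [sxp, (fW_spec fr).1.conj_rt]
  exact neg_simple fr hm (by rw [deg_move_flip, deg_sim]) _

theorem fW_sxn (k : Fin m) (t : F) : fW fr * sxn fr hm k t * (fW fr)⁻¹ ∈ genOf (sxp fr hm) := by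
  rw [sxn, nt, (fW_spec fr).1.conj_rt]
  exact pos_mem fr hm (by unfold Pos; rw [deg_move_flip, deg_neg, deg_sim]; norm_num) _

/-- negative root elements are generated by the opposite simple ones -/
theorem neg_mem {q : Root S m} (hq : deg q < 0) (t : F) : rt fr q t ∈ genOf (sxn fr hm) := by
  obtain ⟨q', hq'⟩ : ∃ q', q' = q.move (flipTo m (fN fr)) (flipTo_swap _) := ⟨_, rfl⟩
  have h := (fW_spec fr).1
  have hinv : ∀ x, flipTo m (fN fr) (flipTo m (fN fr) x) = x := fun x =>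
    Function.Involutive.toPerm_involutive _ x
  have e : q'.move (flipTo m (fN fr)) h.1 = q := by
    subst hq'
    refine Subtype.ext (Prod.ext (hinv _) ?_)
    show Sum.map id (flipTo m (fN fr)) (Sum.map id (flipTo m (fN fr)) q.1.2) = q.1.2
    rcases q.1.2 with s | b
    · rfl
    · exact congrArg Sum.inr (hinv b)
  have hne : fD fr (Sum.inr q'.1.1) * fD fr q'.1.2 ≠ 0 := mul_ne_zero (h.d_ne _) (h.d_ne _)
  have hc := h.conj_rt q' (t / (fD fr (Sum.inr q'.1.1) * fD fr q'.1.2))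
  rw [e, mul_div_cancel₀ _ hne] at hc
  rw [← hc]
  exact conj_genOf_mem (fW_sxp fr hm) (pos_mem fr hm (by unfold Pos; rw [hq', deg_move_flip]; omega) _)

/-- simple root elements -/
def xP (k : Fin m) (t : F) : Om fr := pr fr (sxp fr hm k t)

/-- opposite simple root elements -/
def xN (k : Fin m) (t : F) : Om fr := pr fr (sxn fr hm k t)

theorem map_genOf {G H : Type*} [Group G] [Group H] {I : Type} (f : G →* H) (X : I → F → G) {g : G}
    (hg : g ∈ genOf X) : f g ∈ genOf (fun i t => f (X i t)) := by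
  induction hg using Subgroup.closure_induction with
  | mem z hz => obtain ⟨⟨i, t⟩, rfl⟩ := hz; exact genOf_mem (fun i t => f (X i t)) i t
  | one => rw [map_one]; exact one_mem _
  | mul a b _ _ ha hb => rw [map_mul]; exact mul_mem ha hb
  | inv a _ ha => rw [map_inv]; exact inv_mem ha

theorem pr_wEl (k : Fin m) (c : F) : wEl (xP fr hm) (xN fr hm) k c = pr fr (wEl (sxp fr hm) (sxn fr hm) k c) := by
  simp only [wEl, xP, xN, map_mul]

theorem pr_tEl (k : Fin m) {c : F} (hc : c ≠ 0) :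
    tEl (xP fr hm) (xN fr hm) k c = pr fr (cor fr (sim fr hm k) c) := by
  rw [← sxp_tEl fr hm k hc, tEl, tEl, map_mul, pr_wEl, pr_wEl]

theorem cor_conj (i j : Fin m) {c : F} (hc : c ≠ 0) (t : F) :
    cor fr (sim fr hm i) c * rt fr (sim fr hm j) t * (cor fr (sim fr hm i) c)⁻¹ =
      rt fr (sim fr hm j) (c ^ cart fr hm i j * t) := by
  rw [mon_conj (isMon_cor fr _ hc), SpinMult.lam, hD_zpow, hD_zpow, ← zpow_add₀ hc]
  rfl

theorem cor_conj_nt (i j : Fin m) {c : F} (hc : c ≠ 0) (t : F) :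
    cor fr (sim fr hm i) c * nt fr (sim fr hm j) t * (cor fr (sim fr hm i) c)⁻¹ =
      nt fr (sim fr hm j) (c ^ (-cart fr hm i j) * t) := by
  rw [(isMon_cor fr _ hc).conj_nt, move_one, hD_zpow, hD_zpow, ← zpow_add₀ hc, _root_.zpow_neg,
    div_eq_inv_mul]
  rfl

theorem gen : Subgroup.closure (Set.range (fun x : Fin m × F => xP fr hm x.1 x.2) ∪
    Set.range fun x : Fin m × F => xN fr hm x.1 x.2) = ⊤ := by
  obtain ⟨K, hK⟩ : ∃ K, K = Subgroup.closure (Set.range (fun x : Fin m × F => xP fr hm x.1 x.2) ∪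
      Set.range fun x : Fin m × F => xN fr hm x.1 x.2) := ⟨_, rfl⟩
  rw [← hK, eq_top_iff]
  obtain ⟨T, hT⟩ : ∃ T, T = K.comap (pr fr) := ⟨_, rfl⟩
  have hP : genOf (sxp fr hm) ≤ T := (Subgroup.closure_le _).2 (by
    rintro _ ⟨⟨k, t⟩, rfl⟩
    rw [SetLike.mem_coe, hT, Subgroup.mem_comap, hK]
    exact Subgroup.subset_closure (Or.inl ⟨(k, t), rfl⟩))
  have hN : genOf (sxn fr hm) ≤ T := (Subgroup.closure_le _).2 (by
    rintro _ ⟨⟨k, t⟩, rfl⟩
    rw [SetLike.mem_coe, hT, Subgroup.mem_comap, hK]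
    exact Subgroup.subset_closure (Or.inr ⟨(k, t), rfl⟩))
  have hall : ∀ g : Spin fr, g ∈ T := by
    rintro ⟨g, hg⟩
    refine Subgroup.closure_induction (p := fun a ha => (⟨a, ha⟩ : Spin fr) ∈ T) ?_ ?_ ?_ ?_ hg
    · rintro _ ⟨q, t, rfl⟩
      exact (lt_or_gt_of_ne (deg_ne q)).elim (fun h => hN (neg_mem fr hm h t)) fun h => hP (pos_mem fr hm h t)
    · exact T.one_mem
    · exact fun a b _ _ iha ihb => T.mul_mem iha ihb
    · exact fun a _ iha => T.inv_mem iha
  intro y _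
  obtain ⟨g, rfl⟩ := MonoidHom.rangeRestrict_surjective (toO fr) y
  have := hall g
  rw [hT] at this
  exact this

theorem entP (i j : Fin m) (t : F) :
    mat fr (xP fr hm j t) (sim fr hm i).1.2 (Sum.inr (sim fr hm i).1.1.swap) = if i = j then t else 0 := by
  rw [xP, sxp, mat_rt]
  have hne : (Sum.inr (sim fr hm i).1.1.swap : S ⊕ Idx m) ≠ swapJ (sim fr hm i).1.2 := fun e =>
    (sim fr hm i).2.1 (by rw [← swapJ_swapJ (sim fr hm i).1.2, ← e]; simp [swapJ])
  have hoff : (sim fr hm i).1.2 ≠ Sum.inr (sim fr hm i).1.1.swap := (sim fr hm i).2.2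
  rw [Matrix.one_apply_ne hoff, zero_add]
  by_cases hij : i = j
  · subst hij
    rw [if_neg (fun e => hne e.1), if_pos ⟨rfl, rfl⟩, if_neg (fun e => (sim fr hm i).2.1 e.2), if_pos rfl]
    ring
  · obtain ⟨h1, h2, -⟩ := sim_sep fr hm hij
    rw [if_neg (fun e => h1 e.2.symm), if_neg (fun e => h2 e.2), if_neg (fun e => h1 e.2.symm), if_neg hij]
    ring

theorem entN (i j : Fin m) (t : F) :
    mat fr (xN fr hm j t) (Sum.inr (sim fr hm i).1.1.swap) (sim fr hm i).1.2 =
      if i = j then nu S m (sim fr hm i).1.2 * t else 0 := by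
  rw [xN, sxn, nt, neg_neg, mat_rt]
  have hne : (Sum.inr (sim fr hm i).1.1.swap : S ⊕ Idx m) ≠ swapJ (sim fr hm i).1.2 := fun e =>
    (sim fr hm i).2.1 (by rw [← swapJ_swapJ (sim fr hm i).1.2, ← e]; simp [swapJ])
  have hoff : Sum.inr (sim fr hm i).1.1.swap ≠ (sim fr hm i).1.2 := (sim fr hm i).2.2.symm
  simp only [Root.neg, swapJ_swapJ, Sum.swap_swap]
  rw [Matrix.one_apply_ne hoff, zero_add, show (nu S m (swapJ (sim fr hm j).1.2) : F) = nu S m (sim fr hm j).1.2 by
    cases (sim fr hm j).1.2 <;> rfl]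
  by_cases hij : i = j
  · subst hij
    rw [if_pos ⟨rfl, rfl⟩, if_neg (fun e => (sim fr hm i).2.1 e.1), if_neg (fun e => (sim fr hm i).2.1 e.1),
      if_pos rfl]
    ring
  · obtain ⟨h1, h2, -⟩ := sim_sep fr hm hij
    rw [if_neg (fun e => h2 e.1), if_neg (fun e => h1 e.1.symm), if_neg (fun e => h1 e.1.symm), if_neg hij]
    ring

theorem cart_sum (i : Fin m) : ∑ k ∈ Finset.univ.erase i, (cart fr hm i k).natAbs ≤ 3 := by
  classical
  have hc := card_S_le fr
  have hcard : ∀ (p : Fin m → Prop) [DecidablePred p], (∀ a b, p a → p b → a = b) → ∀ v : ℕ,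
      ∑ k ∈ Finset.univ.erase i, (if p k then v else 0) ≤ v := by
    intro p _ hp v
    rw [← Finset.sum_filter, Finset.sum_const, smul_eq_mul]
    refine le_of_le_of_eq (Nat.mul_le_mul_right _ (Finset.card_le_one.2 fun x hx y hy => ?_)) (one_mul _)
    exact hp x y (Finset.mem_filter.1 hx).2 (Finset.mem_filter.1 hy).2
  refine (Finset.sum_le_sum fun k hk => cart_natAbs fr hm i k (Finset.ne_of_mem_erase hk)).trans ?_
  rw [Finset.sum_add_distrib, Finset.sum_add_distrib]
  have e1 := hcard (fun k : Fin m => (k : ℕ) + 1 = i) (fun a b ha hb => Fin.ext (by omega)) (1 + Fintype.card S)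
  have e2 := hcard (fun k : Fin m => (k : ℕ) = i + 1) (fun a b ha hb => Fin.ext (by omega)) 1
  have e3 := hcard (fun k : Fin m => Fintype.card S = 0 ∧ ((k : ℕ) = i + 2 ∧ (k : ℕ) + 1 = m ∨ (i : ℕ) = k + 2 ∧ (i : ℕ) + 1 = m))
    (fun a b ha hb => Fin.ext (by rcases ha.2 with h | h <;> rcases hb.2 with h' | h' <;> omega)) 1
  by_cases hS : Fintype.card S = 0
  · omega
  · have e4 : ∑ k ∈ Finset.univ.erase i, (if Fintype.card S = 0 ∧
        ((k : ℕ) = i + 2 ∧ (k : ℕ) + 1 = m ∨ (i : ℕ) = k + 2 ∧ (i : ℕ) + 1 = m) then 1 else 0) = (0 : ℕ) :=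
      Finset.sum_eq_zero fun k _ => if_neg fun e => hS e.1
    omega

variable [Finite F]

/-- the matrix model -/
noncomputable abbrev pre (hm3 : 3 ≤ m) : Pre F (Om fr) where
  I := Fin m
  ι := S ⊕ Idx m
  ρ := mat fr
  ρ_inj := mat_injective fr
  A := cart fr (by omega)
  xP := xP fr (by omega)
  xN := xN fr (by omega)
  w i := cw (sim fr (by omega) i)
  hgt := hgtJ
  ea i := (sim fr (by omega) i).1.2
  eb i := Sum.inr (sim fr (by omega) i).1.1.swap
  ν i := nu S m (sim fr (by omega) i).1.2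
  n0 := pr fr (fW fr)
  A_diag := cart_self fr (by omega)
  A_sum := cart_sum fr (by omega)
  connected := connected fr (by omega) hm3
  xP_add i s t := by
    show pr fr _ * pr fr _ = pr fr _
    rw [← map_mul, sxp, sxp, sxp, rt_add]
    congr 2
    ring
  xN_add i s t := by
    show pr fr _ * pr fr _ = pr fr _
    rw [← map_mul, sxn, sxn, sxn, nt, nt, nt, rt_add]
    congr 2
    ring
  nP i c hc t := by
    rw [pr_wEl, sxp_weyl]
    show pr fr _ * pr fr _ * (pr fr _)⁻¹ = pr fr _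
    rw [← map_inv, ← map_mul, ← map_mul, sxp, weyl_conj_self fr _ (neg_ne_zero.2 hc), sxn]
    congr 2
    ring
  h_diag i c hc := by
    ext r s
    rw [pr_tEl fr _ i hc, mat_pr, (isMon_cor fr _ hc).2, map_smul, Finsupp.smul_apply, Module.Basis.repr_self,
      show Sum.map id (⇑(1 : Equiv.Perm (Idx m))) s = s by cases s <;> rfl, Finsupp.single_apply, hD_zpow,
      Matrix.diagonal_apply]
    by_cases h : r = s
    · subst h; simp
    · simp [h, Ne.symm h]
  torP i j c t hc := by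
    rw [pr_tEl fr _ i hc]
    show pr fr _ * pr fr _ = pr fr _ * pr fr _
    rw [← map_mul, ← map_mul, sxp, sxp, mul_inv_eq_iff_eq_mul.1 (cor_conj fr _ i j hc (-t)), mul_neg]
  torN i j c t hc := by
    rw [pr_tEl fr _ i hc]
    show pr fr _ * pr fr _ = pr fr _ * pr fr _
    rw [← map_mul, ← map_mul, sxn, sxn, mul_inv_eq_iff_eq_mul.1 (cor_conj_nt fr _ i j hc (-t)), mul_neg]
  comm i j hij s t := by
    exact (sim_commute fr _ hij (-s) (-(-t))).map (pr fr)
  nconjP i j hji c t hc := by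
    rw [pr_wEl]
    show pr fr _ * pr fr _ * (pr fr _)⁻¹ ∈ _
    rw [← map_inv, ← map_mul, ← map_mul, sxp, (isMon_sxp_weyl fr _ i hc).conj_rt]
    exact map_genOf (pr fr) _ (pos_mem fr _ (sim_move_pos fr _ hji) _)
  nconjN i j hji c t hc := by
    rw [pr_wEl]
    show pr fr _ * pr fr _ * (pr fr _)⁻¹ ∈ _
    rw [← map_inv, ← map_mul, ← map_mul, sxn, (isMon_sxp_weyl fr _ i hc).conj_nt, nt]
    refine map_genOf (pr fr) _ (neg_mem fr _ ?_ _)
    have h : Pos (sperm fr (by omega) i (sim fr (by omega) j)) := sim_move_pos fr _ hji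
    unfold Pos at h
    rw [deg_neg]
    show -deg (sperm fr (by omega) i (sim fr (by omega) j)) < 0
    omega
  gen := gen fr (by omega)
  upP i t r c h := mat_rt_tri fr hgtJ hgtJ_swap _ _ r c (Or.inl ⟨by
    have := deg_sim fr (show 2 ≤ m by omega) i
    show 0 < hgt S _ + hgtJ _
    rw [show hgt S _ + hgtJ _ = deg (sim fr (show 2 ≤ m by omega) i) from rfl]
    omega, h⟩)
  loN i t r c h := mat_rt_tri fr hgtJ hgtJ_swap _ _ r c (Or.inr ⟨by
    show deg (sim fr (show 2 ≤ m by omega) i).neg < 0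
    rw [deg_neg, deg_sim]
    norm_num, h⟩)
  entP := entP fr (by omega)
  entN := entN fr (by omega)
  ν_ne i := nu_ne fr _
  e_lt i := by
    have := deg_sim fr (show 2 ≤ m by omega) i
    show hgt S (sim fr _ i).1.1.swap < hgtJ _
    rw [hgt_swap]
    unfold deg at this
    omega
  gap i l := by
    have := deg_sim fr (show 2 ≤ m by omega) i
    show ¬ (hgt S (sim fr _ i).1.1.swap < _ ∧ _)
    rw [hgt_swap]
    unfold deg at this
    omega
  n0_xP i t := by
    show pr fr _ * pr fr _ * (pr fr _)⁻¹ ∈ _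
    rw [← map_inv, ← map_mul, ← map_mul]
    exact map_genOf (pr fr) _ (fW_sxp fr _ i t)
  n0_xN i t := by
    show (pr fr _)⁻¹ * pr fr _ * pr fr _ ∈ _
    rw [← map_inv, ← map_mul, ← map_mul]
    refine map_genOf (pr fr) _ (conj_inv_mem (fun x hx => conj_genOf_mem (fW_sxp fr _) hx)
      (fun x hx => conj_genOf_mem (fW_sxn fr _) hx) (genOf_mem _ i t))

end

end CfsgLib.Known.ClassSquare.Orth
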