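import Cfsg.Agent.Lib.Known.ClassSquare.Common
import Cfsg.Agent.Lib.Known.SpinMult.Lifts

/-!
# Simple roots of split orthogonal frames
-/

set_option autoImplicit false
set_option linter.unusedSectionVars false

namespace CfsgLib.Known.ClassSquare.Orth

noncomputable section

open QuadraticMap CfsgLib.Classical.Quad CfsgLib.Known.SpinMult
open scoped commutatorElement

variable {F : Type*} [Field F] {V : Type*} [AddCommGroup V] [Module F V] {Q : QuadraticForm F V} {m : ℕ}
  {S : Type} [Fintype S] [DecidableEq S] (fr : Frame Q m S) (hm : 2 ≤ m)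

/-- a long root -/
def lr (a b : Idx m) (h1 : b ≠ a) (h2 : b ≠ a.swap) : Root S m :=
  ⟨(a, Sum.inr b), fun e => h1 (Sum.inr_injective e), fun e => h2 (Sum.inr_injective e)⟩

/-- a short root -/
def sr (a : Idx m) (s : S) : Root S m := ⟨(a, Sum.inl s), by simp, by simp⟩

theorem sim_long {k : Fin m} (h : k.1 + 1 < m) :
    (sim fr hm k).1 = (Sum.inl k, Sum.inr (Sum.inr ⟨k.1 + 1, h⟩)) := by rw [sim, dif_pos h]

theorem sim_short {k : Fin m} (h : k.1 + 1 = m) (s : S) : (sim fr hm k).1 = (Sum.inl k, Sum.inl s) := by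
  rw [sim, dif_neg (by omega), dif_pos (Fintype.card_pos_iff.2 ⟨s⟩)]
  exact Prod.ext rfl (congrArg Sum.inl (fr.sub _ s))

theorem sim_fork [IsEmpty S] {k : Fin m} (h : k.1 + 1 = m) :
    (sim fr hm k).1 = (Sum.inl ⟨m - 2, by omega⟩, Sum.inr (Sum.inl k)) := by
  rw [sim, dif_neg (by omega), dif_neg (by simp [Fintype.card_eq_zero])]

/-- the three shapes of simple roots -/
theorem sim_cases (k : Fin m) :
    (∃ h : k.1 + 1 < m, (sim fr hm k).1 = (Sum.inl k, Sum.inr (Sum.inr ⟨k.1 + 1, h⟩))) ∨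
    (k.1 + 1 = m ∧ ∃ s : S, (sim fr hm k).1 = (Sum.inl k, Sum.inl s)) ∨
    (k.1 + 1 = m ∧ IsEmpty S ∧ ∃ h : m - 2 < m, (sim fr hm k).1 = (Sum.inl ⟨m - 2, h⟩, Sum.inr (Sum.inl k))) := by
  by_cases h : k.1 + 1 < m
  · exact Or.inl ⟨h, sim_long fr hm h⟩
  have hk : k.1 + 1 = m := by have := k.2; omega
  rcases isEmpty_or_nonempty S with hS | ⟨⟨s⟩⟩
  · exact Or.inr (Or.inr ⟨hk, hS, by omega, sim_fork fr hm hk⟩)
  · exact Or.inr (Or.inl ⟨hk, s, sim_short fr hm hk s⟩)

/-- roots of degree one are simple -/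
theorem deg_one {q : Root S m} (hq : deg q = 1) :
    ∃ k, q = sim fr hm k ∨ ∃ b, ∃ h : (sim fr hm k).1.2 = Sum.inr b, q = (sim fr hm k).flipPair b h := by
  have hc := card_S_le fr
  have hS0 : IsEmpty S → Fintype.card S = 0 := fun h => Fintype.card_eq_zero
  obtain ⟨⟨x, y⟩, q1, q2⟩ := q
  rcases y with s | y
  · have h1 : Fintype.card S = 1 := by have := Fintype.card_pos_iff.2 ⟨s⟩; omega
    rcases x with a | a <;> simp [deg, hgtJ, hgt] at hq
    · exact ⟨a, Or.inl (Subtype.ext (sim_short fr hm (by omega) s).symm)⟩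
    · have := a.2; omega
  rcases x with a | a <;> rcases y with b | b <;> simp [deg, hgtJ, hgt] at hq
  · have hab : a.1 ≠ b.1 := fun e => q1 (by rw [Fin.ext e])
    have := a.2
    have := b.2
    have hS : IsEmpty S := Fintype.card_eq_zero_iff.1 (by omega)
    have hS' := hS0 hS
    by_cases ha : a.1 + 1 = m
    · have hb : b = ⟨m - 2, by omega⟩ := Fin.ext (by show b.1 = m - 2; omega)
      refine ⟨a, Or.inr ⟨Sum.inl a, (congrArg Prod.snd (sim_fork fr hm ha)), Subtype.ext ?_⟩⟩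
      simp [Root.flipPair, sim_fork fr hm ha, hb]
    · have ha' : a = ⟨m - 2, by omega⟩ := Fin.ext (by show a.1 = m - 2; omega)
      refine ⟨b, Or.inl (Subtype.ext ?_)⟩
      show ((Sum.inl a, Sum.inr (Sum.inl b)) : Idx m × (S ⊕ Idx m)) = _
      rw [sim_fork fr hm (show b.1 + 1 = m by omega)]
      exact congrArg (fun x => ((Sum.inl x, Sum.inr (Sum.inl b)) : Idx m × (S ⊕ Idx m))) ha'
  · have h : a.1 + 1 < m := by have := b.2; omega
    refine ⟨a, Or.inl (Subtype.ext ?_)⟩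
    show ((Sum.inl a, Sum.inr (Sum.inr b)) : Idx m × (S ⊕ Idx m)) = _
    rw [sim_long fr hm h, show b = ⟨a.1 + 1, h⟩ from Fin.ext (by show b.1 = a.1 + 1; omega)]
  · have h : b.1 + 1 < m := by have := a.2; omega
    refine ⟨b, Or.inr ⟨Sum.inr ⟨b.1 + 1, h⟩, congrArg Prod.snd (sim_long fr hm h), Subtype.ext ?_⟩⟩
    simp [Root.flipPair, sim_long fr hm h]
    exact Fin.ext (by show a.1 = b.1 + 1; omega)
  · have := a.2; have := b.2; omega

/-- simple root elements -/
def sxp (k : Fin m) (t : F) : Spin fr := rt fr (sim fr hm k) (-t)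

/-- opposite simple root elements -/
def sxn (k : Fin m) (t : F) : Spin fr := nt fr (sim fr hm k) (-t)

theorem sim_mem {q : Root S m} {k : Fin m} (h : q.1 = (sim fr hm k).1) (t : F) :
    rt fr q t ∈ genOf (sxp fr hm) := by
  rw [show q = sim fr hm k from Subtype.ext h, ← neg_neg t]
  exact genOf_mem (sxp fr hm) k (-t)

theorem comm_mem {G : Type*} [Group G] {H : Subgroup G} {x y : G} (hx : x ∈ H) (hy : y ∈ H) : ⁅x, y⁆ ∈ H := by
  rw [commutatorElement_def]
  exact mul_mem (mul_mem (mul_mem hx hy) (inv_mem hx)) (inv_mem hy)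

theorem flip_mem {a b : Idx m} {q r : Root S m} (hq : q.1 = (a, Sum.inr b)) (hr : r.1 = (b, Sum.inr a))
    {H : Subgroup (Spin fr)} (h : ∀ t, rt fr q t ∈ H) (t : F) : rt fr r t ∈ H := by
  rw [show r = q.flipPair b (by rw [hq]) from Subtype.ext (by rw [hr]; simp [Root.flipPair, hq]), rt_flipPair]
  exact h _

theorem diff_mem (a b : Fin m) (hab : a < b) (q : Root S m) (hq : q.1 = (Sum.inl a, Sum.inr (Sum.inr b))) (t : F) :
    rt fr q t ∈ genOf (sxp fr hm) := by
  suffices H : ∀ g : ℕ, ∀ a b : Fin m, (b : ℕ) = a + (g + 1) → ∀ (q : Root S m),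
      q.1 = (Sum.inl a, Sum.inr (Sum.inr b)) → ∀ t : F, rt fr q t ∈ genOf (sxp fr hm) from
    H ((b : ℕ) - a - 1) a b (by have : (a : ℕ) < b := hab; omega) q hq t
  intro g
  induction g with
  | zero =>
    intro a b e q hq t
    have h : a.1 + 1 < m := by have := b.2; omega
    refine sim_mem fr hm (k := a) ?_ t
    rw [hq, sim_long fr hm h, show b = ⟨a.1 + 1, h⟩ from Fin.ext (by show b.1 = a.1 + 1; omega)]
  | succ g ih =>
    intro a b e q hq t
    have h : a.1 + 1 < m := by have := b.2; omega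
    have e1 := bracket_long fr
      (lr (S := S) (Sum.inl a) (Sum.inr ⟨a.1 + 1, h⟩) (by simp) (by simp [Fin.ext_iff]))
      (lr (S := S) (Sum.inl ⟨a.1 + 1, h⟩) (Sum.inr b) (by simp) (by simp [Fin.ext_iff]; omega))
      q (w := Sum.inl ⟨a.1 + 1, h⟩) rfl rfl hq t 1
    rw [mul_one] at e1
    rw [← e1]
    exact comm_mem (sim_mem fr hm (k := a) (sim_long fr hm h).symm t) (ih ⟨a.1 + 1, h⟩ b (by simp; omega) _ rfl 1)

theorem short_mem (s : S) (a : Fin m) (q : Root S m) (hq : q.1 = (Sum.inl a, Sum.inl s)) (t : F) :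
    rt fr q t ∈ genOf (sxp fr hm) := by
  by_cases h : a.1 + 1 = m
  · exact sim_mem fr hm (k := a) (by rw [hq, sim_short fr hm h s]) t
  obtain ⟨l, hl⟩ : ∃ l : Fin m, l.1 + 1 = m := ⟨⟨m - 1, by omega⟩, by simp; omega⟩
  have hal : a.1 ≠ l.1 := fun e => h (e ▸ hl)
  have key : ∀ u : F, ⁅rt fr (lr (S := S) (Sum.inl a) (Sum.inr l) (by simp) (by simp [Fin.ext_iff]; omega)) (t / 2),
      rt fr (sr (Sum.inl l) s) u⁆ ∈ genOf (sxp fr hm) := fun u =>
    comm_mem (diff_mem fr hm a l (by show a.1 < l.1; have := a.2; omega) _ rfl _)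
      (sim_mem fr hm (k := l) (sim_short fr hm hl s).symm u)
  have e1 := fun u => bracket_mixed fr
    (lr (S := S) (Sum.inl a) (Sum.inr l) (by simp) (by simp [Fin.ext_iff]; omega)) (sr (Sum.inl l) s) q
    (lr (S := S) (Sum.inl a) (Sum.inl l) (by simp [Fin.ext_iff]; omega) (by simp)) (w := Sum.inl l)
    rfl rfl hq rfl (t / 2) u
  have k1 := key 1
  have k2 := key (-1)
  rw [e1] at k1 k2
  rw [one_pow] at k1
  rw [neg_one_sq, mul_neg_one] at k2
  have := mul_mem (inv_mem k2) k1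
  rw [_root_.mul_inv_rev, mul_assoc, inv_mul_cancel_left, rt_neg, inv_inv, rt_add, mul_one] at this
  rwa [show t / 2 + t / 2 = t by have := fr.two s; field_simp; ring] at this

theorem sum_mem (a b : Fin m) (hab : a ≠ b) (q : Root S m) (hq : q.1 = (Sum.inl a, Sum.inr (Sum.inl b))) (t : F) :
    rt fr q t ∈ genOf (sxp fr hm) := by
  rcases isEmpty_or_nonempty S with hS | ⟨⟨s⟩⟩
  swap
  · have e1 := bracket_short fr (sr (Sum.inl b) s) (sr (Sum.inl a) s) q rfl rfl hq (t / 2) 1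
    rw [show 2 * (t / 2) * 1 = t by have := fr.two s; field_simp] at e1
    rw [← e1]
    exact comm_mem (short_mem fr hm s b _ rfl _) (short_mem fr hm s a _ rfl _)
  obtain ⟨l, hl⟩ : ∃ l : Fin m, l.1 + 1 = m := ⟨⟨m - 1, by omega⟩, by simp; omega⟩
  have hlast : ∀ a : Fin m, a.1 + 1 < m → ∀ (q : Root S m), q.1 = (Sum.inl a, Sum.inr (Sum.inl l)) → ∀ t : F,
      rt fr q t ∈ genOf (sxp fr hm) := by
    intro a ha q hq t
    by_cases h : a.1 + 2 = m
    · refine sim_mem fr hm (k := l) ?_ t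
      rw [hq, sim_fork fr hm hl, show a = ⟨m - 2, by omega⟩ from Fin.ext (by show a.1 = m - 2; omega)]
    have e1 := bracket_long fr
      (lr (S := S) (Sum.inl a) (Sum.inr ⟨m - 2, by omega⟩) (by simp) (by simp [Fin.ext_iff]; omega))
      (lr (S := S) (Sum.inl ⟨m - 2, by omega⟩) (Sum.inl l) (by simp [Fin.ext_iff]; omega) (by simp))
      q (w := Sum.inl ⟨m - 2, by omega⟩) rfl rfl hq t 1
    rw [mul_one] at e1
    rw [← e1]
    exact comm_mem (diff_mem fr hm a _ (by show a.1 < m - 2; omega) _ rfl t)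
      (sim_mem fr hm (k := l) (sim_fork fr hm hl).symm 1)
  have ha' := a.2
  have hb' := b.2
  have hab' : a.1 ≠ b.1 := fun e => hab (Fin.ext e)
  by_cases hb : b.1 + 1 = m
  · exact hlast a (by omega) q (by rw [hq, show b = l from Fin.ext (by omega)]) t
  by_cases ha : a.1 + 1 = m
  · refine flip_mem fr (q := lr (S := S) (Sum.inl b) (Sum.inl a) (by simp [hab]) (by simp)) rfl hq
      (fun t => hlast b (by omega) _ ?_ t) t
    show (Sum.inl b, Sum.inr (Sum.inl a)) = _
    rw [show a = l from Fin.ext (by omega)]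
  have e1 := bracket_long fr
    (lr (S := S) (Sum.inl a) (Sum.inr l) (by simp) (by simp [Fin.ext_iff]; omega))
    (lr (S := S) (Sum.inl l) (Sum.inl b) (by simp [Fin.ext_iff]; omega) (by simp))
    q (w := Sum.inl l) rfl rfl hq t 1
  rw [mul_one] at e1
  rw [← e1]
  exact comm_mem (diff_mem fr hm a l (by show a.1 < l.1; omega) _ rfl t)
    (flip_mem fr (q := lr (S := S) (Sum.inl b) (Sum.inl l) (by simp [Fin.ext_iff]; omega) (by simp)) rfl rfl
      (fun t => hlast b (by omega) _ rfl t) 1)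

/-- positive root elements are generated by the simple ones -/
theorem pos_mem {q : Root S m} (hq : Pos q) (t : F) : rt fr q t ∈ genOf (sxp fr hm) := by
  unfold Pos at hq
  obtain ⟨⟨x, y⟩, q1, q2⟩ := q
  rcases y with s | y
  · rcases x with a | a
    · exact short_mem fr hm s a _ rfl t
    · exfalso
      have := Fintype.card_pos_iff.2 ⟨s⟩
      simp [deg, hgtJ, hgt] at hq
      have := a.2
      omega
  rcases x with a | a <;> rcases y with b | b <;> simp [deg, hgtJ, hgt] at hq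
  · exact sum_mem fr hm a b (fun e => q1 (by rw [e])) _ rfl t
  · exact diff_mem fr hm a b (by show a.1 < b.1; omega) _ rfl t
  · exact flip_mem fr (q := lr (S := S) (Sum.inl b) (Sum.inr a) (by simp)
      (by simp [Fin.ext_iff]; omega)) rfl rfl (fun t => diff_mem fr hm b a (by show b.1 < a.1; omega) _ rfl t) t
  · have := a.2; have := b.2; omega

theorem neg_simple {q : Root S m} (hq : deg q = -1) (t : F) : rt fr q t ∈ genOf (sxn fr hm) := by
  obtain ⟨k, hk⟩ := deg_one fr hm (q := q.neg) (by rw [deg_neg, hq]; rfl)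
  have hsimp : ∀ u, rt fr (sim fr hm k).neg u ∈ genOf (sxn fr hm) := fun u => by
    have := genOf_mem (sxn fr hm) k u
    rwa [sxn, nt, neg_neg] at this
  rcases hk with hk | ⟨b, h, hk⟩
  · rw [← Root.neg_neg q, hk]; exact hsimp t
  · rw [← Root.neg_neg q, hk,
      show ((sim fr hm k).flipPair b h).neg = (sim fr hm k).neg.flipPair b.swap (by simp [Root.neg, h, swapJ]) from
        Subtype.ext (by simp [Root.neg, Root.flipPair, swapJ]), rt_flipPair]
    exact hsimp _

/-- facts separating different simple roots -/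
theorem sim_sep {i j : Fin m} (hij : i ≠ j) :
    Sum.inr (sim fr hm j).1.1 ≠ (sim fr hm i).1.2 ∧ (sim fr hm i).1.2 ≠ (sim fr hm j).1.2 ∧
      ((sim fr hm i).1.1 = (sim fr hm j).1.1 → ∃ a b : Idx m,
        ((sim fr hm i).1 = (a, Sum.inr b) ∧ (sim fr hm j).1 = (a, Sum.inr b.swap))) := by
  have hij' : i.1 ≠ j.1 := fun e => hij (Fin.ext e)
  have := i.2
  have := j.2
  rcases sim_cases fr hm i with ⟨hi, ei⟩ | ⟨hi, si', ei⟩ | ⟨hi, hSi, _, ei⟩ <;>
    rcases sim_cases fr hm j with ⟨hj, ej⟩ | ⟨hj, sj', ej⟩ | ⟨hj, hSj, _, ej⟩ <;> rw [ei, ej] <;>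
    refine ⟨by simp [Fin.ext_iff] <;> omega, by simp [Fin.ext_iff] <;> omega, fun h => ?_⟩ <;>
    simp [Fin.ext_iff] at h <;> try omega
  · refine ⟨Sum.inl i, Sum.inr ⟨i.1 + 1, hi⟩, rfl, ?_⟩
    rw [Prod.mk.injEq, Sum.inr.injEq]
    exact ⟨congrArg Sum.inl (Fin.ext h.symm), congrArg Sum.inl (Fin.ext (by show j.1 = i.1 + 1; omega))⟩
  · refine ⟨Sum.inl ⟨m - 2, by omega⟩, Sum.inl i, rfl, ?_⟩
    rw [Prod.mk.injEq, Sum.inr.injEq]
    exact ⟨congrArg Sum.inl (Fin.ext h.symm), congrArg Sum.inr (Fin.ext (by show j.1 + 1 = i.1; omega))⟩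

theorem sim_commute {i j : Fin m} (hij : i ≠ j) (t u : F) :
    Commute (rt fr (sim fr hm i) t) (rt fr (sim fr hm j).neg u) := by
  obtain ⟨h1, h2, h3⟩ := sim_sep fr hm hij
  obtain ⟨h1', -, -⟩ := sim_sep fr hm hij.symm
  by_cases h : (sim fr hm i).1.1 = (sim fr hm j).1.1
  · obtain ⟨a, b, ei, ej⟩ := h3 h
    have e1 : (sim fr hm i).1.2 = Sum.inr b := by rw [ei]
    have e2 : (sim fr hm j).neg.1.2 = Sum.inr b := by
      simp [Root.neg, ej, swapJ]
    rw [show rt fr (sim fr hm i) t = rt fr ((sim fr hm i).flipPair b e1) (-t) by rw [rt_flipPair, neg_neg],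
      show rt fr (sim fr hm j).neg u = rt fr ((sim fr hm j).neg.flipPair b e2) (-u) by rw [rt_flipPair, neg_neg]]
    exact commute_same fr _ _ (a := b) (b := a) (by simp [Root.flipPair, ei])
      (by simp [Root.flipPair, Root.neg, ej]) _ _
  refine commute_rt fr _ _ ?_ ?_ ?_ ?_ t u
  · exact fun e => h (Sum.swap_leftInverse.injective e).symm
  · intro e
    refine h1 ?_
    have := congrArg swapJ e
    simpa [Root.neg, swapJ] using this
  · intro e
    refine h1' ?_
    have := congrArg swapJ e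
    simp only [Root.neg] at this
    rw [swapJ_swapJ] at this
    rw [this]
    simp [swapJ]
  · intro e
    exact h2 (by simpa [Root.neg, swapJ_swapJ] using (congrArg swapJ e).symm)

theorem sim_move_pos {i j : Fin m} (hij : j ≠ i) : Pos (sperm fr hm i (sim fr hm j)) := by
  by_contra hn
  obtain ⟨h1, h2, -⟩ := sim_sep fr hm hij.symm
  rcases sperm_flip fr hm i _ (pos_sim fr hm j) hn with e | ⟨b, h, e⟩
  · exact h2 (by rw [e])
  · refine h1 ?_
    rw [e, h]
    rfl

end

end CfsgLib.Known.ClassSquare.Orth
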