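import Cfsg.Agent.Lib.Known.ClassSquare.OrthBlock
import Cfsg.Agent.Lib.Known.SpinMult.Cover

/-!
# The split orthogonal groups are squares of a class modulo the centre
-/

set_option autoImplicit false
set_option linter.unusedSectionVars false

namespace CfsgLib.Known.ClassSquare.Orth

noncomputable section

open QuadraticMap CfsgLib.Classical.Quad CfsgLib.Known.SpinMult

universe u v

variable {F : Type u} [Field F] [Finite F] {V : Type v} [AddCommGroup V] [Module F V] {Q : QuadraticForm F V}
  {m k : ℕ} {S : Type} [Fintype S] [DecidableEq S] (fr : Frame Q m S)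

instance finite_om : Finite (Om fr) :=
  Finite.of_surjective (pr fr) (MonoidHom.rangeRestrict_surjective _)

/-- a block from a weight on the coordinates -/
def blockOf (hm : 3 ≤ m) (e : Fin (k + 2) ⊕ Unit ≃ Fin m) (f : Fin m → ℤ) (E Ed : ℕ → ℤ)
    (hE : ∀ a : Fin m,
      ∑ i : Fin m, E i * cw (sim fr (by omega) i) (Sum.inr (Sum.inl a)) = f a)
    (hEd : ∀ a : Fin (k + 2),
      ∑ i : Fin m, Ed i * cw (sim fr (by omega) i) (Sum.inr (Sum.inl (e (Sum.inl a)))) = if a = 0 then 1 else 0)
    (hf : ∀ a b, f (e (Sum.inl a)) = f (e (Sum.inl b)))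
    (hf0 : IsEmpty S → ∀ a : Fin m, (a : ℕ) + 1 = m → f a = 0)
    (hflip : ∀ a, ((e (Sum.inl a) : Fin m) : ℕ) < fN fr)
    (hsplit : ∀ i : Fin m,
      (∃ a : Fin (k + 1), (sim fr (by omega) i).1 =
        (Sum.inl (e (Sum.inl a.castSucc)), Sum.inr (Sum.inr (e (Sum.inl a.succ))))) ∨
      0 < ext' f (Sum.inr (sim fr (by omega) i).1.1 : S ⊕ Idx m) + ext' f (sim fr (by omega) i).1.2)
    (hbig : ∀ r c : S ⊕ Idx m, 8 ≤ |ext' f r - ext' f c| → c = swapJ r ∧ ∃ x, r = Sum.inr x) :
    Block (pre fr (Nat.le_of_succ_le hm) hm) where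
  B := Unit
  nb _ := k
  ι := (lHom fr e).comp (Pi.evalMonoidHom (fun _ : Unit => Matrix.SpecialLinearGroup (Fin (k + 2)) F) ())
  lam := ext' f
  m i := E i.val
  hlam := sum_cw_all fr (by omega) E f hE
  level x r c h := by
    show mat fr (lHom fr e (x ())) r c = 0
    rw [mat_lHom]
    exact lMat_level e f hf (x ()) r c h
  split i := by
    rcases hsplit i with ⟨a, ha⟩ | h
    · left
      intro t
      have hlt : a.castSucc < a.succ := Fin.castSucc_lt_succ
      refine ⟨⟨fun _ => Matrix.SpecialLinearGroup.transvection hlt.ne (-t),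
          fun _ => upperM_transvection hlt (-t), ?_⟩,
        ⟨fun _ => Matrix.SpecialLinearGroup.transvection hlt.ne' (-t),
          fun _ => lowerM_transvection hlt (-t), ?_⟩⟩
      · show xP fr _ i t = lHom fr e (Matrix.SpecialLinearGroup.transvection hlt.ne (-t))
        rw [lHom_transvection, xP, sxp,
          show bRoot (S := S) e a.castSucc a.succ hlt.ne = sim fr (by omega) i from Subtype.ext ha.symm]
      · show xN fr _ i t = lHom fr e (Matrix.SpecialLinearGroup.transvection hlt.ne' (-t))
        rw [lHom_transvection, xN, sxn, nt, neg_neg,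
          show (sim fr (show 2 ≤ m by omega) i).neg =
              (bRoot (S := S) e a.succ a.castSucc hlt.ne').flipPair (Sum.inr (e (Sum.inl a.castSucc))) rfl from
            Subtype.ext (by simp [Root.neg, Root.flipPair, bRoot, lr, ha, swapJ])]
        exact congrArg (pr fr) (rt_flipPair fr _ _ _ _)
    · right
      intro t
      refine ⟨fun r c hrc => mat_rt_tri fr (ext' f) (ext'_swapJ f) _ _ r c (Or.inl ⟨h, hrc⟩), fun r c hrc =>
        mat_rt_tri fr (ext' f) (ext'_swapJ f) _ _ r c (Or.inr ⟨?_, neg_le_neg_iff.1 hrc⟩)⟩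
      show ext' f (Sum.inr (sim fr (show 2 ≤ m by omega) i).1.1.swap) +
        ext' f (swapJ (sim fr (show 2 ≤ m by omega) i).1.2) < 0
      rw [ext'_swapJ, show ext' f (Sum.inr (sim fr (show 2 ≤ m by omega) i).1.1.swap : S ⊕ Idx m) =
        -ext' f (Sum.inr (sim fr (show 2 ≤ m by omega) i).1.1 : S ⊕ Idx m) from
          ext'_swapJ f (Sum.inr (sim fr (show 2 ≤ m by omega) i).1.1)]
      omega
  small g hg h := by
    refine small_one fr f hbig g (fun r => ?_) h
    rcases hg with h' | h'
    · exact (h' r r le_rfl).trans (Matrix.one_apply_eq r)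
    · exact (h' r r le_rfl).trans (Matrix.one_apply_eq r)
  diag c := by
    refine ⟨fun i => c () ^ Ed i.val, fun x => ?_⟩
    rw [mul_inv_eq_iff_eq_mul]
    refine (pre fr (Nat.le_of_succ_le hm) hm).ρ_inj ?_
    rw [map_mul, map_mul, Block.diag_prod]
    let d : S ⊕ Idx m → Fˣ := fun r => c () ^ ∑ i : Fin m, Ed i * cw (sim fr (by omega) i) r
    have hd : (fun r => ((∏ i, (c () ^ Ed (i : Fin m).val) ^ cw (sim fr (show 2 ≤ m by omega) i) r : Fˣ) : F)) =
        fun r => (d r : F) := funext fun r => by
      simp only [d, ← _root_.zpow_mul, prod_zpow_const]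
    show Matrix.diagonal _ * mat fr (lHom fr e (x ())) = mat fr (lHom fr e _) * Matrix.diagonal _
    rw [mat_lHom, mat_lHom, hd]
    refine lMat_diag fr e (c ()) d (fun j => ?_) (fun a => ?_) (x ())
    · simp only [d, ← _root_.zpow_neg]
      congr 1
      rw [← Finset.sum_neg_distrib]
      refine Finset.sum_congr rfl fun i _ => ?_
      rw [cw_swapJ, mul_neg]
    · simp only [d, hEd a]
      split_ifs <;> simp
  invert := by
    obtain ⟨x, x', hx, hx', h⟩ := lHom_invert fr e hflip
    refine ⟨pr fr (fW fr), fun r c hne => ?_, fun _ => x, fun _ => x', fun _ => hx, fun _ => hx', h⟩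
    have hr : r = Sum.map id (flipTo m (fN fr)) c := by
      by_contra hr
      refine hne ?_
      show mat fr (pr fr (fW fr)) r c = 0
      rw [mat_pr, (fW_spec fr).1.2, map_smul, Finsupp.smul_apply, Module.Basis.repr_self,
        Finsupp.single_eq_of_ne hr, smul_zero]
    rw [hr]
    exact flip_weight fr (ext' f) (ext'_swapJ f) hf0 c

section Odd

variable [Nonempty S]

/-- weights of the block in odd dimension -/
def fOdd (m : ℕ) (a : Fin m) : ℤ := if (a : ℕ) = 0 then 4 else 2

/-- coordinates of the block in odd dimension -/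
def eOdd (k : ℕ) : Fin (k + 2) ⊕ Unit ≃ Fin (k + 3) :=
  (finSuccEquiv (k + 2)).symm.trans (Equiv.refl _) |> fun h => (Equiv.optionEquivSumPUnit _).symm.trans h

theorem eOdd_inl (k : ℕ) (a : Fin (k + 2)) : eOdd k (Sum.inl a) = a.succ := rfl

/-- the block in odd dimension -/
def blockOdd {k : ℕ} (fr : Frame Q (k + 3) S) : Block (pre fr (Nat.le_add_left 2 (k + 1)) (Nat.le_add_left 3 k)) :=
  have hc : Fintype.card S = 1 := le_antisymm (card_S_le fr) Fintype.card_pos
  blockOf fr (by omega) (eOdd k) (fOdd (k + 3))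
    (fun a => if a + 1 = k + 3 then (k : ℤ) + 4 else 2 * a + 4) (fun a => if a = 0 then -1 else 0)
    (fun a => by
      refine (sum_cw fr (by omega) (fun n : ℕ => if n + 1 = k + 3 then (k : ℤ) + 4 else 2 * n + 4) a).trans ?_
      simp only [fOdd, hc, one_ne_zero, true_and, false_and, if_false]
      have := a.2
      split_ifs <;> push_cast <;> first | omega | (simp <;> omega))
    (fun a => by
      refine (sum_cw fr (by omega) (fun n : ℕ => if n = 0 then (-1 : ℤ) else 0) (eOdd k (Sum.inl a))).trans ?_
      simp only [eOdd_inl, Fin.val_succ, hc, one_ne_zero, true_and, false_and, if_false]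
      by_cases ha : a = 0
      · subst ha
        simp
        all_goals omega
      · have : (a : ℕ) ≠ 0 := fun e => ha (Fin.ext e)
        rw [if_neg ha]
        simp only [Fin.ext_iff, Fin.val_zero] at *
        split_ifs <;> first | omega | (simp <;> omega))
    (fun a b => by simp [fOdd, eOdd_inl])
    (fun h => absurd h (not_isEmpty_of_nonempty S))
    (fun a => by
      rw [(fW_spec fr).2.2.2 inferInstance]
      exact (eOdd k (Sum.inl a)).2)
    (fun i => by
      rcases sim_cases fr (by omega) i with ⟨hi, ei⟩ | ⟨hi, s, ei⟩ | ⟨hi, hS, _, ei⟩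
      · by_cases h0 : (i : ℕ) = 0
        · right
          rw [ei]
          simp [ext', fOdd, h0]
        · left
          refine ⟨⟨(i : ℕ) - 1, by omega⟩, ?_⟩
          rw [ei, eOdd_inl, eOdd_inl,
            show (Fin.castSucc (⟨(i : ℕ) - 1, by omega⟩ : Fin (k + 1))).succ = i from Fin.ext (by simp; omega),
            show (Fin.succ (⟨(i : ℕ) - 1, by omega⟩ : Fin (k + 1))).succ = ⟨(i : ℕ) + 1, hi⟩ from
              Fin.ext (by simp; omega)]
      · right
        rw [ei]
        simp [ext', fOdd]
        split_ifs <;> norm_num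
      · exact absurd hS (not_isEmpty_of_nonempty S))
    (fun r c h => by
      rcases r with s | (a | a) <;> rcases c with s' | (b | b) <;>
        simp only [ext', fOdd, Sum.elim_inl, Sum.elim_inr] at h
      all_goals (try split_ifs at h) <;> norm_num at h
      · exact ⟨by simp [swapJ]; exact Fin.ext (by omega), _, rfl⟩
      · exact ⟨by simp [swapJ]; exact Fin.ext (by omega), _, rfl⟩)

end Odd

section Plus

variable [IsEmpty S]

/-- weights of the block in even dimension -/
def fPlus (m : ℕ) (a : Fin m) : ℤ := if (a : ℕ) + 1 = m then 0 else 2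

/-- coordinates of the block in even dimension -/
def ePlus (k : ℕ) : Fin (k + 2) ⊕ Unit ≃ Fin (k + 3) :=
  (Equiv.sumCongr (Equiv.refl _) (Equiv.ofUnique Unit (Fin 1))).trans finSumFinEquiv

theorem ePlus_inl (k : ℕ) (a : Fin (k + 2)) : ePlus k (Sum.inl a) = a.castSucc := rfl

/-- the block in even dimension -/
def blockPlus {k : ℕ} (fr : Frame Q (k + 3) S) : Block (pre fr (Nat.le_add_left 2 (k + 1)) (Nat.le_add_left 3 k)) :=
  have hc : Fintype.card S = 0 := Fintype.card_eq_zero
  blockOf fr (by omega) (ePlus k) (fPlus (k + 3))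
    (fun a => if a + 2 < k + 3 then 2 * ((a : ℤ) + 1) else (k : ℤ) + 2) (fun a => if a + 1 = k + 3 then 0 else 1)
    (fun a => by
      refine (sum_cw fr (by omega) (fun n : ℕ => if n + 2 < k + 3 then 2 * ((n : ℤ) + 1) else (k : ℤ) + 2) a).trans ?_
      simp only [fPlus, hc, one_ne_zero, true_and, false_and, if_false]
      have := a.2
      split_ifs <;> push_cast <;> first | omega | (simp <;> omega))
    (fun a => by
      refine (sum_cw fr (by omega) (fun n : ℕ => if n + 1 = k + 3 then (0 : ℤ) else 1) (ePlus k (Sum.inl a))).trans ?_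
      simp only [ePlus_inl, Fin.val_castSucc, hc, one_ne_zero, true_and, false_and, if_false]
      have := a.2
      by_cases ha : a = 0
      · subst ha
        simp
      · have : (a : ℕ) ≠ 0 := fun e => ha (Fin.ext e)
        rw [if_neg ha]
        simp only [Fin.ext_iff, Fin.val_zero] at *
        split_ifs <;> first | omega | (simp <;> omega))
    (fun a b => by
      have := a.2
      have := b.2
      simp only [fPlus, ePlus_inl, Fin.val_castSucc]
      split_ifs <;> omega)
    (fun _ a ha => if_pos ha)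
    (fun a => by
      have := (fW_spec fr).2.2.1
      have := a.2
      show (a.castSucc : ℕ) < _
      rw [Fin.val_castSucc]
      omega)
    (fun i => by
      rcases sim_cases fr (by omega) i with ⟨hi, ei⟩ | ⟨hi, s, ei⟩ | ⟨hi, hS, _, ei⟩
      · by_cases h0 : (i : ℕ) + 2 = k + 3
        · right
          rw [ei]
          simp [ext', fPlus]
          split_ifs <;> omega
        · left
          refine ⟨⟨(i : ℕ), by omega⟩, ?_⟩
          rw [ei, ePlus_inl, ePlus_inl,
            show (Fin.castSucc (⟨(i : ℕ), by omega⟩ : Fin (k + 1))).castSucc = i from Fin.ext rfl,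
            show (Fin.succ (⟨(i : ℕ), by omega⟩ : Fin (k + 1))).castSucc = ⟨(i : ℕ) + 1, hi⟩ from Fin.ext rfl]
      · exact isEmptyElim s
      · right
        rw [ei]
        simp [ext', fPlus]
        split_ifs <;> omega)
    (fun r c h => by
      exfalso
      rcases r with s | (a | a) <;> rcases c with s' | (b | b) <;>
        simp only [ext', fPlus, Sum.elim_inl, Sum.elim_inr] at h
      all_goals (try split_ifs at h) <;> norm_num at h)

end Plus

section Projective

variable {ι : Type} [Fintype ι] [DecidableEq ι] {R : QuadraticForm F (ι → F)}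

theorem square_of_block [Fintype F] (hF : 9 ≤ Fintype.card F) (fr : Frame R m S) (hm : 3 ≤ m)
    (hn : 5 ≤ Module.finrank F (ι → F)) (L : Block (pre fr (Nat.le_of_succ_le hm) hm)) :
    ∃ c : Cfsg.POmega F (⇑R), ∀ g, ∃ x y : Cfsg.POmega F (⇑R), g = (x * c * x⁻¹) * (y * c * y⁻¹) := by
  let σ : Om fr ≃* commutator (OQ R) := MulEquiv.subgroupCongr (range_toO fr hn)
  let π : Om fr →* Cfsg.POmega F (⇑R) :=
    ((pOmegaEquiv R).symm.toMonoidHom.comp (QuotientGroup.mk' (Subgroup.center (commutator (OQ R))))).comp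
      σ.toMonoidHom
  refine L.square hF π ?_ fun z hz => ?_
  · exact ((pOmegaEquiv R).symm.surjective.comp (QuotientGroup.mk'_surjective _)).comp σ.surjective
  · have : σ z ∈ Subgroup.center (commutator (OQ R)) := by
      rw [← map_center_eq σ]
      exact Subgroup.mem_map_of_mem _ hz
    show (pOmegaEquiv R).symm (QuotientGroup.mk' _ (σ z)) = 1
    rw [QuotientGroup.mk'_apply, (QuotientGroup.eq_one_iff _).2 this, map_one]

end Projective

/-- every element of `PΩ` in odd dimension is a product of two members of one class -/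
theorem square_odd {K : Type u} [Field K] [Fintype K] (hF : 9 ≤ Fintype.card K) (hodd : Odd (Fintype.card K))
    (m : ℕ) (hm : 3 ≤ m) :
    ∃ c : Cfsg.POmega K (Cfsg.quadFormOdd m K), ∀ g, ∃ x y : Cfsg.POmega K (Cfsg.quadFormOdd m K),
      g = (x * c * x⁻¹) * (y * c * y⁻¹) := by
  obtain ⟨k, rfl⟩ : ∃ k, m = k + 3 := ⟨m - 3, by omega⟩
  have h2 := two_ne_zero_of_odd (F := K) rfl hodd
  have hn : 5 ≤ Module.finrank K (Unit ⊕ (Fin (k + 3) ⊕ Fin (k + 3)) → K) := by
    rw [Module.finrank_pi]; simp; omega
  rw [← coe_qOdd]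
  exact square_of_block hF (frameOdd K (k + 3) h2) hm hn (blockOdd (frameOdd K (k + 3) h2))

/-- every element of `PΩ⁺` is a product of two members of one class -/
theorem square_plus {K : Type u} [Field K] [Fintype K] (hF : 9 ≤ Fintype.card K) (m : ℕ) (hm : 4 ≤ m) :
    ∃ c : Cfsg.POmega K (Cfsg.quadFormPlus m K), ∀ g, ∃ x y : Cfsg.POmega K (Cfsg.quadFormPlus m K),
      g = (x * c * x⁻¹) * (y * c * y⁻¹) := by
  obtain ⟨k, rfl⟩ : ∃ k, m = k + 3 := ⟨m - 3, by omega⟩
  have hn : 5 ≤ Module.finrank K ((Fin (k + 3) ⊕ Fin (k + 3)) → K) := by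
    rw [Module.finrank_pi]; simp; omega
  rw [← coe_qPlus]
  exact square_of_block hF (framePlus K (k + 3)) (by omega) hn (blockPlus (framePlus K (k + 3)))

end

end CfsgLib.Known.ClassSquare.Orth
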