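import Cfsg.Agent.Lib.Known.ClassSquare.Class

/-!
# Systems of simple root elements from a matrix model

The simple root elements are given with their images in matrices which are triangular for a height on the
coordinates; the Weyl elements only have to send simple root elements into the unipotent groups.
-/

set_option autoImplicit false

namespace CfsgLib.Known.ClassSquare

open Matrix

universe u v

section Abstract

variable {F : Type u} [Field F] {G : Type v} [Group G] {I : Type}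

/-- the subgroup generated by a family -/
def genOf (X : I → F → G) : Subgroup G := Subgroup.closure (Set.range fun x : I × F => X x.1 x.2)

theorem genOf_mem (X : I → F → G) (i : I) (t : F) : X i t ∈ genOf X := Subgroup.subset_closure ⟨(i, t), rfl⟩

/-- the kernel of a coefficient stays in the group under the opposite root element -/
theorem conj_genOf [DecidableEq I] (X Y : I → F → G) (i : I) (φ : G → F)
    (add : ∀ j s t, X j s * X j t = X j (s + t))
    (addY : ∀ s t, Y i s * Y i t = Y i (s + t))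
    (φ_add : ∀ a b, a ∈ genOf X → b ∈ genOf X → φ (a * b) = φ a + φ b)
    (φ_X : ∀ j t, φ (X j t) = if i = j then t else 0)
    (comm : ∀ j, j ≠ i → ∀ s t, Commute (Y i s) (X j t))
    (rk : ∀ b s, 1 + b * s ≠ 0 → ∃ (a r : F) (h : G), Y i s * X i b = X i a * h * Y i r ∧
      ∀ j t, h * X j t * h⁻¹ ∈ genOf X)
    (hn : ∀ j, j ≠ i → ∀ c t, c ≠ 0 →
      (X i c * Y i (-c⁻¹) * X i c) * X j t * (X i c * Y i (-c⁻¹) * X i c)⁻¹ ∈ genOf X)
    (s : F) (k : G) (hk : k ∈ genOf X) (h0 : φ k = 0) : Y i s * k * (Y i s)⁻¹ ∈ genOf X := by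
  have X0 : ∀ j, X j 0 = 1 := fun j => mul_eq_left.1 (by rw [add, add_zero] : X j 0 * X j 0 = X j 0)
  have Xneg : ∀ j t, X j (-t) = (X j t)⁻¹ := fun j t => by
    rw [eq_inv_iff_mul_eq_one, add, neg_add_cancel, X0]
  have Y0 : Y i 0 = 1 := mul_eq_left.1 (by rw [addY, add_zero] : Y i 0 * Y i 0 = Y i 0)
  let N := Subgroup.closure {g | ∃ (u : F) (j : I) (t : F), j ≠ i ∧ g = X i u * X j t * (X i u)⁻¹}
  have hN : N ≤ genOf X := (Subgroup.closure_le _).2 (by
    rintro _ ⟨u, j, t, -, rfl⟩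
    exact mul_mem (mul_mem (genOf_mem X i u) (genOf_mem X j t)) (inv_mem (genOf_mem X i u)))
  have φ1 : φ 1 = 0 := by
    have := φ_add 1 1 (one_mem _) (one_mem _)
    rwa [mul_one, left_eq_add] at this
  have φinv : ∀ a ∈ genOf X, φ a⁻¹ = -φ a := fun a ha => by
    have := φ_add a a⁻¹ ha (inv_mem ha)
    rw [mul_inv_cancel, φ1] at this
    exact eq_neg_of_add_eq_zero_right this.symm
  have hφN : ∀ a ∈ N, φ a = 0 := by
    intro a ha
    induction ha using Subgroup.closure_induction with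
    | one => exact φ1
    | mem x hx =>
      obtain ⟨u, j, t, hj, rfl⟩ := hx
      rw [φ_add _ _ (mul_mem (genOf_mem X i u) (genOf_mem X j t)) (inv_mem (genOf_mem X i u)),
        φ_add _ _ (genOf_mem X i u) (genOf_mem X j t), φinv _ (genOf_mem X i u), φ_X, φ_X, if_pos rfl,
        if_neg (Ne.symm hj)]
      ring
    | mul x y hx hy ihx ihy => rw [φ_add x y (hN hx) (hN hy), ihx, ihy, add_zero]
    | inv x hx ihx => rw [φinv x (hN hx), ihx, neg_zero]
  have hnorm : ∀ v, ∀ a ∈ N, X i v * a * (X i v)⁻¹ ∈ N := by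
    intro v a ha
    induction ha using Subgroup.closure_induction with
    | one => simp
    | mem x hx =>
      obtain ⟨u, j, t, hj, rfl⟩ := hx
      refine Subgroup.subset_closure ⟨v + u, j, t, hj, ?_⟩
      rw [← add]; group
    | mul x y _ _ ihx ihy => have := mul_mem ihx ihy; simpa [mul_assoc] using this
    | inv x _ ihx => have := inv_mem ihx; simpa [mul_assoc] using this
  have hdec : ∀ a ∈ genOf X, ∃ m ∈ N, ∃ u, a = m * X i u := by
    intro a ha
    induction ha using Subgroup.closure_induction_left with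
    | one => exact ⟨1, one_mem _, 0, by rw [X0, one_mul]⟩
    | mul_left x hx y _ ih =>
      obtain ⟨⟨j, t⟩, rfl⟩ := hx
      obtain ⟨m, hm, u, rfl⟩ := ih
      by_cases hj : j = i
      · subst hj
        exact ⟨X j t * m * (X j t)⁻¹, hnorm t m hm, t + u, by rw [← add]; group⟩
      · refine ⟨X j t * m, mul_mem (Subgroup.subset_closure ⟨0, j, t, hj, ?_⟩) hm, u, (mul_assoc _ _ _).symm⟩
        rw [X0, one_mul, inv_one, mul_one]
    | inv_mul_cancel x hx y _ ih =>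
      obtain ⟨⟨j, t⟩, rfl⟩ := hx
      obtain ⟨m, hm, u, rfl⟩ := ih
      show ∃ m' ∈ N, ∃ u', (X j t)⁻¹ * (m * X i u) = m' * X i u'
      rw [← Xneg]
      by_cases hj : j = i
      · subst hj
        exact ⟨X j (-t) * m * (X j (-t))⁻¹, hnorm _ m hm, -t + u, by rw [← add]; group⟩
      · refine ⟨X j (-t) * m, mul_mem (Subgroup.subset_closure ⟨0, j, -t, hj, ?_⟩) hm, u, (mul_assoc _ _ _).symm⟩
        rw [X0, one_mul, inv_one, mul_one]
  obtain ⟨m, hm, u, rfl⟩ := hdec k hk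
  rw [φ_add m _ (hN hm) (genOf_mem X i u), hφN m hm, φ_X, if_pos rfl, zero_add] at h0
  rw [h0, X0, mul_one]
  clear hk
  induction hm using Subgroup.closure_induction with
  | one => simp
  | mul x y _ _ ihx ihy => have := mul_mem ihx ihy; simpa [mul_assoc] using this
  | inv x _ ihx => have := inv_mem ihx; simpa [mul_assoc] using this
  | mem x hx =>
    obtain ⟨b, j, t, hj, rfl⟩ := hx
    rw [show Y i s * (X i b * X j t * (X i b)⁻¹) * (Y i s)⁻¹ = Y i s * X i b * X j t * (Y i s * X i b)⁻¹ by group]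
    by_cases h1 : 1 + b * s ≠ 0
    · obtain ⟨a, r, h, e, hh⟩ := rk b s h1
      rw [e, show X i a * h * Y i r * X j t * (X i a * h * Y i r)⁻¹ =
        X i a * (h * (Y i r * X j t * (Y i r)⁻¹) * h⁻¹) * (X i a)⁻¹ by group,
        (comm j hj r t).eq, mul_inv_cancel_right]
      exact mul_mem (mul_mem (genOf_mem X i a) (hh j t)) (inv_mem (genOf_mem X i a))
    · push Not at h1
      have hb : b ≠ 0 := fun e => by rw [e, zero_mul, add_zero] at h1; exact one_ne_zero h1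
      have hs : s = -b⁻¹ := by field_simp; linear_combination h1
      have e : Y i s * X i b = X i (-b) * (X i b * Y i (-b⁻¹) * X i b) := by
        rw [hs, ← mul_assoc, ← mul_assoc, add, neg_add_cancel, X0, one_mul]
      rw [e, show X i (-b) * (X i b * Y i (-b⁻¹) * X i b) * X j t * (X i (-b) * (X i b * Y i (-b⁻¹) * X i b))⁻¹ =
        X i (-b) * ((X i b * Y i (-b⁻¹) * X i b) * X j t * (X i b * Y i (-b⁻¹) * X i b)⁻¹) * (X i (-b))⁻¹ by group]
      exact mul_mem (mul_mem (genOf_mem X i _) (hn j hj b t hb)) (inv_mem (genOf_mem X i _))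

end Abstract

/-- the Weyl element of a rank one subgroup -/
def wEl {F : Type u} [Field F] {G : Type v} [Group G] {I : Type} (X Y : I → F → G) (i : I) (c : F) : G :=
  X i c * Y i (-c⁻¹) * X i c

/-- the torus element of a rank one subgroup -/
def tEl {F : Type u} [Field F] {G : Type v} [Group G] {I : Type} (X Y : I → F → G) (i : I) (c : F) : G :=
  wEl X Y i c * wEl X Y i (-1)

/-- simple root elements with a matrix model -/
structure Pre (F : Type u) [Field F] (G : Type v) [Group G] where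
  I : Type
  [fin : Fintype I]
  [dec : DecidableEq I]
  ι : Type
  [finι : Fintype ι]
  [decι : DecidableEq ι]
  ρ : G →* Matrix ι ι F
  ρ_inj : Function.Injective ρ
  A : I → I → ℤ
  xP : I → F → G
  xN : I → F → G
  w : I → ι → ℤ
  hgt : ι → ℤ
  ea : I → ι
  eb : I → ι
  ν : I → F
  n0 : G
  A_diag : ∀ i, A i i = 2
  A_sum : ∀ i, ∑ k ∈ Finset.univ.erase i, (A i k).natAbs ≤ 3
  connected : ∀ S : Finset I, S.Nonempty → (∀ p ∈ S, ∀ k, A p k ≠ 0 → k ∈ S) → S = Finset.univ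
  xP_add : ∀ i s t, xP i s * xP i t = xP i (s + t)
  xN_add : ∀ i s t, xN i s * xN i t = xN i (s + t)
  nP : ∀ i c, c ≠ 0 → ∀ t, wEl xP xN i c * xP i t * (wEl xP xN i c)⁻¹ = xN i (-t / c ^ 2)
  h_diag : ∀ i c, c ≠ 0 → ρ (tEl xP xN i c) = diagonal fun r => c ^ w i r
  torP : ∀ i j c t, c ≠ 0 → tEl xP xN i c * xP j t = xP j (c ^ A i j * t) * tEl xP xN i c
  torN : ∀ i j c t, c ≠ 0 → tEl xP xN i c * xN j t = xN j (c ^ (-A i j) * t) * tEl xP xN i c
  comm : ∀ i j, i ≠ j → ∀ s t, Commute (xP i s) (xN j t)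
  nconjP : ∀ i j, j ≠ i → ∀ c t, c ≠ 0 → wEl xP xN i c * xP j t * (wEl xP xN i c)⁻¹ ∈ genOf xP
  nconjN : ∀ i j, j ≠ i → ∀ c t, c ≠ 0 → wEl xP xN i c * xN j t * (wEl xP xN i c)⁻¹ ∈ genOf xN
  gen : Subgroup.closure (Set.range (fun x : I × F => xP x.1 x.2) ∪ Set.range fun x : I × F => xN x.1 x.2) = ⊤
  upP : ∀ i t r c, hgt r ≤ hgt c → ρ (xP i t) r c = (1 : Matrix ι ι F) r c
  loN : ∀ i t r c, hgt c ≤ hgt r → ρ (xN i t) r c = (1 : Matrix ι ι F) r c
  entP : ∀ i j t, ρ (xP j t) (ea i) (eb i) = if i = j then t else 0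
  entN : ∀ i j t, ρ (xN j t) (eb i) (ea i) = if i = j then ν i * t else 0
  ν_ne : ∀ i, ν i ≠ 0
  e_lt : ∀ i, hgt (eb i) < hgt (ea i)
  gap : ∀ i l, ¬ (hgt (eb i) < hgt l ∧ hgt l < hgt (ea i))
  n0_xP : ∀ i t, n0 * xP i t * n0⁻¹ ∈ genOf xN
  n0_xN : ∀ i t, n0⁻¹ * xN i t * n0 ∈ genOf xP

attribute [instance] Pre.fin Pre.dec Pre.finι Pre.decι

namespace Pre

variable {F : Type u} [Field F] {G : Type v} [Group G] (P : Pre F G)

/-- triangular for the height -/
def Up (h : P.ι → ℤ) (M : Matrix P.ι P.ι F) : Prop := ∀ r c, h r ≤ h c → M r c = (1 : Matrix P.ι P.ι F) r c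

theorem Up.mul {h : P.ι → ℤ} {M N : Matrix P.ι P.ι F} (hM : P.Up h M) (hN : P.Up h N) : P.Up h (M * N) := by
  intro r c hrc
  rw [Matrix.mul_apply, Finset.sum_eq_single r]
  · rw [hM r r le_rfl, Matrix.one_apply_eq, one_mul]; exact hN r c hrc
  · intro l _ hl
    by_cases h1 : h r ≤ h l
    · rw [hM r l h1, Matrix.one_apply_ne hl.symm, zero_mul]
    · rw [hN l c (le_trans (le_of_not_ge h1) hrc),
        Matrix.one_apply_ne (fun e => h1 (by rw [e]; exact hrc)), mul_zero]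
  · simp

/-- the matrices triangular for a height, as a submonoid -/
def upMonoid (h : P.ι → ℤ) : Submonoid G where
  carrier := {g | P.Up h (P.ρ g)}
  one_mem' := fun r c _ => by rw [map_one]
  mul_mem' {a b} ha hb := by
    show P.Up h (P.ρ (a * b))
    rw [map_mul]
    exact Up.mul P ha hb

theorem xN_zero (i : P.I) : P.xN i 0 = 1 :=
  mul_eq_left.1 (by rw [P.xN_add, add_zero] : P.xN i 0 * P.xN i 0 = P.xN i 0)

theorem xP_zero (i : P.I) : P.xP i 0 = 1 :=
  mul_eq_left.1 (by rw [P.xP_add, add_zero] : P.xP i 0 * P.xP i 0 = P.xP i 0)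

theorem xP_neg (i : P.I) (t : F) : P.xP i (-t) = (P.xP i t)⁻¹ := by
  rw [eq_inv_iff_mul_eq_one, P.xP_add, neg_add_cancel, P.xP_zero]

theorem xN_neg (i : P.I) (t : F) : P.xN i (-t) = (P.xN i t)⁻¹ := by
  rw [eq_inv_iff_mul_eq_one, P.xN_add, neg_add_cancel, P.xN_zero]

theorem genP_up {g : G} (hg : g ∈ genOf P.xP) : P.Up P.hgt (P.ρ g) := by
  refine Subgroup.closure_induction_left (p := fun g _ => P.Up P.hgt (P.ρ g)) (P.upMonoid P.hgt).one_mem ?_ ?_ hg
  · rintro _ ⟨⟨j, t⟩, rfl⟩ y _ hy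
    exact (P.upMonoid P.hgt).mul_mem (P.upP j t) hy
  · rintro _ ⟨⟨j, t⟩, rfl⟩ y _ hy
    show (P.xP j t)⁻¹ * y ∈ P.upMonoid P.hgt
    rw [← P.xP_neg]
    exact (P.upMonoid P.hgt).mul_mem (P.upP j _) hy

theorem genN_lo {g : G} (hg : g ∈ genOf P.xN) : P.Up (fun r => -P.hgt r) (P.ρ g) := by
  have hx : ∀ j t, P.xN j t ∈ P.upMonoid (fun r => -P.hgt r) := fun j t r c h => P.loN j t r c (neg_le_neg_iff.1 h)
  refine Subgroup.closure_induction_left (p := fun g _ => P.Up (fun r => -P.hgt r) (P.ρ g))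
    (P.upMonoid _).one_mem ?_ ?_ hg
  · rintro _ ⟨⟨j, t⟩, rfl⟩ y _ hy
    exact (P.upMonoid _).mul_mem (hx j t) hy
  · rintro _ ⟨⟨j, t⟩, rfl⟩ y _ hy
    show (P.xN j t)⁻¹ * y ∈ P.upMonoid fun r => -P.hgt r
    rw [← P.xN_neg]
    exact (P.upMonoid _).mul_mem (hx j _) hy

theorem entry_add (h : P.ι → ℤ) {a b : P.ι} (hab : h b < h a) (gap : ∀ l, ¬ (h b < h l ∧ h l < h a))
    {M N : Matrix P.ι P.ι F} (hM : P.Up h M) (hN : P.Up h N) : (M * N) a b = M a b + N a b := by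
  have hne : a ≠ b := fun e => by rw [e] at hab; exact lt_irrefl _ hab
  rw [Matrix.mul_apply, Finset.sum_eq_add_of_mem a b (Finset.mem_univ _) (Finset.mem_univ _) hne,
    hM a a le_rfl, hN b b le_rfl, Matrix.one_apply_eq, Matrix.one_apply_eq, one_mul, mul_one, add_comm]
  intro l _ hl
  by_cases h1 : h a ≤ h l
  · rw [hM a l h1, Matrix.one_apply_ne hl.1.symm, zero_mul]
  · by_cases h2 : h l ≤ h b
    · rw [hN l b h2, Matrix.one_apply_ne hl.2, mul_zero]
    · exact absurd ⟨not_le.1 h2, not_le.1 h1⟩ (gap l)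

/-- upper coefficient -/
def phi (i : P.I) (g : G) : F := P.ρ g (P.ea i) (P.eb i)

/-- lower coefficient -/
def psi (i : P.I) (g : G) : F := P.ρ g (P.eb i) (P.ea i) / P.ν i

theorem phi_add (i : P.I) (a b : G) (ha : a ∈ genOf P.xP) (hb : b ∈ genOf P.xP) :
    P.phi i (a * b) = P.phi i a + P.phi i b := by
  unfold phi
  rw [map_mul]
  exact P.entry_add P.hgt (P.e_lt i) (P.gap i) (P.genP_up ha) (P.genP_up hb)

theorem psi_add (i : P.I) (a b : G) (ha : a ∈ genOf P.xN) (hb : b ∈ genOf P.xN) :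
    P.psi i (a * b) = P.psi i a + P.psi i b := by
  unfold psi
  rw [map_mul, ← add_div, P.entry_add (fun r => -P.hgt r) (neg_lt_neg (P.e_lt i))
    (fun l h => P.gap i l ⟨neg_lt_neg_iff.1 h.2, neg_lt_neg_iff.1 h.1⟩) (P.genN_lo ha) (P.genN_lo hb)]

theorem phi_xP (i j : P.I) (t : F) : P.phi i (P.xP j t) = if i = j then t else 0 := P.entP i j t

theorem psi_xN (i j : P.I) (t : F) : P.psi i (P.xN j t) = if i = j then t else 0 := by
  unfold psi
  rw [P.entN]
  split_ifs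
  · rw [mul_div_cancel_left₀ _ (P.ν_ne i)]
  · rw [zero_div]

/-- the Weyl element -/
abbrev n (i : P.I) (c : F) : G := wEl P.xP P.xN i c

/-- the torus element -/
abbrev h (i : P.I) (c : F) : G := tEl P.xP P.xN i c

theorem n_neg (i : P.I) (c : F) : P.n i (-c) = (P.n i c)⁻¹ := by
  simp only [n, wEl, inv_neg, neg_neg, P.xP_neg, P.xN_neg, _root_.mul_inv_rev]
  group

theorem nN (i : P.I) {c : F} (hc : c ≠ 0) (t : F) :
    P.n i c * P.xN i t * (P.n i c)⁻¹ = P.xP i (-(c ^ 2) * t) := by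
  have h := P.nP i (-c) (neg_ne_zero.2 hc) (-(c ^ 2) * t)
  change P.n i (-c) * _ * (P.n i (-c))⁻¹ = _ at h
  rw [show -(-(c ^ 2) * t) / (-c) ^ 2 = t by field_simp, P.n_neg, inv_inv] at h
  rw [← h]
  group

theorem n_alt (i : P.I) {c : F} (hc : c ≠ 0) :
    P.n i c = P.xN i (-c⁻¹) * P.xP i c * P.xN i (-c⁻¹) := by
  have h := P.nP i c hc c
  rw [show -c / c ^ 2 = -c⁻¹ by field_simp] at h
  obtain ⟨X, hX⟩ : ∃ X, X = P.xP i c := ⟨_, rfl⟩
  obtain ⟨Y, hY⟩ : ∃ Y, Y = P.xN i (-c⁻¹) := ⟨_, rfl⟩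
  simp only [n, wEl, ← hX, ← hY] at h ⊢
  have h1 : X * Y * X * X = Y * (X * Y * X) := mul_inv_eq_iff_eq_mul.1 h
  exact mul_right_cancel (b := X) (by rw [h1]; group)

theorem h_mul (i : P.I) (a b : F) (ha : a ≠ 0) (hb : b ≠ 0) : P.h i a * P.h i b = P.h i (a * b) := by
  refine P.ρ_inj ?_
  simp only [h, map_mul, P.h_diag i _ ha, P.h_diag i _ hb, P.h_diag i _ (mul_ne_zero ha hb),
    Matrix.diagonal_mul_diagonal, mul_zpow]

theorem h_comm (i j : P.I) (a b : F) (ha : a ≠ 0) (hb : b ≠ 0) : Commute (P.h i a) (P.h j b) := by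
  refine P.ρ_inj ?_
  simp only [h, map_mul, P.h_diag i _ ha, P.h_diag j _ hb, Matrix.diagonal_mul_diagonal]
  congr 1
  funext r
  ring

theorem h_one (i : P.I) : P.h i 1 = 1 := by
  show P.n i 1 * P.n i (-1) = 1
  rw [P.n_neg, mul_inv_cancel]

theorem n_eq (i : P.I) (c : F) : P.n i c = P.h i c * P.n i 1 := by
  show _ = P.n i c * P.n i (-1) * P.n i 1
  rw [P.n_neg, inv_mul_cancel_right]

theorem h_conj_n (i : P.I) {x : F} (hx : x ≠ 0) (c : F) :
    P.h i x * P.n i c * (P.h i x)⁻¹ = P.n i (x ^ 2 * c) := by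
  have eP : ∀ t, P.h i x * P.xP i t * (P.h i x)⁻¹ = P.xP i (x ^ 2 * t) := fun t => by
    rw [mul_inv_eq_iff_eq_mul]
    refine (P.torP i i x t hx).trans ?_
    rw [P.A_diag, zpow_ofNat]
  have eN : ∀ t, P.h i x * P.xN i t * (P.h i x)⁻¹ = P.xN i (t / x ^ 2) := fun t => by
    rw [mul_inv_eq_iff_eq_mul]
    refine (P.torN i i x t hx).trans ?_
    rw [P.A_diag, _root_.zpow_neg, zpow_ofNat]
    congr 2
    ring
  simp only [n, wEl]
  rw [show P.h i x * (P.xP i c * P.xN i (-c⁻¹) * P.xP i c) * (P.h i x)⁻¹ =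
    (P.h i x * P.xP i c * (P.h i x)⁻¹) * (P.h i x * P.xN i (-c⁻¹) * (P.h i x)⁻¹) *
      (P.h i x * P.xP i c * (P.h i x)⁻¹) by group, eP, eN,
    show -c⁻¹ / x ^ 2 = -(x ^ 2 * c)⁻¹ by rw [mul_inv, div_eq_mul_inv]; ring]

theorem rk1 (i : P.I) (b s : F) (hu : 1 + b * s ≠ 0) :
    P.xP i b * P.xN i s = P.xN i (s / (1 + b * s)) * P.h i (1 + b * s) * P.xP i (b / (1 + b * s)) := by
  obtain ⟨u, hu'⟩ : ∃ u, u = 1 + b * s := ⟨_, rfl⟩
  rw [← hu'] at hu ⊢
  by_cases hs : s = 0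
  · subst hs
    rw [mul_zero, add_zero] at hu'
    subst hu'
    simp [P.xN_zero, P.h_one]
  have hY : ∀ z : F, z ≠ 0 → P.xN i z = P.xP i z⁻¹ * P.n i (-z⁻¹) * P.xP i z⁻¹ := fun z hz => by
    simp only [n, wEl, inv_neg, neg_neg, inv_inv]
    rw [show P.xP i z⁻¹ * (P.xP i (-z⁻¹) * P.xN i z * P.xP i (-z⁻¹)) * P.xP i z⁻¹ =
      (P.xP i z⁻¹ * P.xP i (-z⁻¹)) * P.xN i z * (P.xP i (-z⁻¹) * P.xP i z⁻¹) by group,
      P.xP_add, P.xP_add, add_neg_cancel, neg_add_cancel, P.xP_zero, one_mul, mul_one]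
  have hus : s / u ≠ 0 := div_ne_zero hs hu
  rw [hY s hs, hY (s / u) hus]
  have hn : P.n i (-(s / u)⁻¹) * P.h i u = P.n i (-s⁻¹) := by
    have e1 : P.n i 1 * P.h i u = (P.h i u)⁻¹ * P.n i 1 := by
      have e := P.h_conj_n i hu 1
      rw [mul_one, mul_inv_eq_iff_eq_mul, P.n_eq i (u ^ 2), show u ^ 2 = u * u by ring, ← P.h_mul i u u hu hu,
        mul_assoc (P.h i u) (P.h i u), mul_assoc (P.h i u), mul_right_inj] at e
      rw [eq_inv_mul_iff_mul_eq, ← mul_assoc]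
      exact e.symm
    have hinv : (P.h i u)⁻¹ = P.h i u⁻¹ := by
      rw [inv_eq_iff_mul_eq_one, P.h_mul i _ _ hu (inv_ne_zero hu), mul_inv_cancel₀ hu, P.h_one]
    rw [P.n_eq i (-(s / u)⁻¹), mul_assoc, e1, hinv, ← mul_assoc,
      P.h_mul i _ _ (neg_ne_zero.2 (inv_ne_zero hus)) (inv_ne_zero hu), P.n_eq i (-s⁻¹)]
    congr 2
    field_simp
  have e2 : P.xP i (s / u)⁻¹ * P.h i u = P.h i u * P.xP i ((s / u)⁻¹ / u ^ 2) := by
    rw [P.torP i i u _ hu, P.A_diag, zpow_ofNat]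
    congr 2
    field_simp
  rw [mul_assoc (P.xP i (s / u)⁻¹ * P.n i _) (P.xP i _) (P.h i u), e2]
  simp only [mul_assoc]
  rw [← mul_assoc (P.n i (-(s / u)⁻¹)) (P.h i u), hn, ← mul_assoc (P.xP i b), P.xP_add, P.xP_add]
  congr 3
  · field_simp
    linear_combination -hu'
  · field_simp
    linear_combination hu'

/-- the system of simple root elements -/
noncomputable abbrev sys : Sys F G where
  I := P.I
  A := P.A
  xP := P.xP
  xN := P.xN
  hh := P.h
  φ := P.phi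
  ψ := P.psi
  n0 := P.n0
  A_diag := P.A_diag
  A_sum := P.A_sum
  connected := P.connected
  xP_add := P.xP_add
  xN_add := P.xN_add
  hh_mul := P.h_mul
  hh_comm := P.h_comm
  torP := P.torP
  torN := P.torN
  rk1 := P.rk1
  comm := P.comm
  gen := P.gen
  φ_add := P.phi_add
  φ_xP := P.phi_xP
  ψ_add := P.psi_add
  ψ_xN := P.psi_xN
  φ_inv i s k hk h0 := by
    refine conj_genOf P.xP P.xN i (P.phi i) P.xP_add (P.xN_add i) (P.phi_add i) (P.phi_xP i)
      (fun j hj s t => (P.comm j i hj t s).symm) ?_ (fun j hj c t hc => P.nconjP i j hj c t hc) s k hk h0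
    intro b s hbs
    have hbs' : 1 + (-b) * (-s) ≠ 0 := by rwa [neg_mul_neg]
    have e := congrArg (·⁻¹) (P.rk1 i (-b) (-s) hbs')
    simp only [_root_.mul_inv_rev, ← P.xP_neg, ← P.xN_neg, neg_neg, neg_div] at e
    refine ⟨_, _, (P.h i (1 + -b * -s))⁻¹, e.trans (mul_assoc _ _ _).symm, fun j t => ?_⟩
    have e3 := P.torP i j _ (((1 + -b * -s) ^ P.A i j)⁻¹ * t) hbs'
    rw [mul_inv_cancel_left₀ (zpow_ne_zero _ hbs')] at e3
    rw [inv_inv, mul_assoc, ← e3, inv_mul_cancel_left]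
    exact genOf_mem _ _ _
  ψ_inv i s k hk h0 := by
    refine conj_genOf P.xN P.xP i (P.psi i) P.xN_add (P.xP_add i) (P.psi_add i) (P.psi_xN i)
      (fun j hj s t => P.comm i j hj.symm s t) ?_ (fun j hj c t hc => ?_) s k hk h0
    · intro b s hbs
      refine ⟨_, _, P.h i (1 + s * b), P.rk1 i s b (by rwa [mul_comm]), fun j t => ?_⟩
      rw [P.torN i j _ _ (by rwa [mul_comm]), mul_inv_cancel_right]
      exact genOf_mem _ _ _
    · have e := P.n_alt i (neg_ne_zero.2 (inv_ne_zero hc))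
      rw [inv_neg, inv_inv, neg_neg] at e
      rw [← e]
      exact P.nconjN i j hj _ t (neg_ne_zero.2 (inv_ne_zero hc))
  disj g hg hg' := by
    refine P.ρ_inj ?_
    rw [map_one]
    ext r c
    by_cases h : P.hgt r ≤ P.hgt c
    · exact P.genP_up hg r c h
    · exact P.genN_lo hg' r c (neg_le_neg (le_of_not_ge h))
  n0_xP := P.n0_xP
  n0_xN := P.n0_xN

end Pre

end CfsgLib.Known.ClassSquare
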