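import Mathlib

/-!
# Products of two regular unipotent elements

Over a finite field with at least nine elements every determinant one endomorphism which is not a
nontrivial scalar is a product of two regular unipotent endomorphisms (a special case of Lev's theorem
on products of cyclic similarity classes).
-/

set_option autoImplicit false

namespace CfsgLib.Known.ClassSquare

open Module Submodule

universe u v

variable {F : Type u} [Field F] [Fintype F]

section avoid

variable {V : Type v} [AddCommGroup V] [Module F V]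

omit [Fintype F] in
/-- a property closed under lines through two of its points -/
def LineClosed (F : Type u) [Field F] {V : Type v} [AddCommGroup V] [Module F V] (P : V → Prop) : Prop :=
  ∀ p d : V, ∀ s t : F, s ≠ t → P (p + s • d) → P (p + t • d) → ∀ r : F, P (p + r • d)

omit [Fintype F] in
theorem lineClosed_submodule (S : Submodule F V) (p0 : V) : LineClosed F fun x => x - p0 ∈ S := by
  intro p d s t hst hs ht r
  have hd : d ∈ S := by
    have := S.smul_mem (s - t)⁻¹ (S.sub_mem hs ht)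
    rwa [show p + s • d - p0 - (p + t • d - p0) = (s - t) • d by module,
      inv_smul_smul₀ (sub_ne_zero.2 hst)] at this
  have := S.add_mem hs (S.smul_mem (r - s) hd)
  rwa [show p + s • d - p0 + (r - s) • d = p + r • d - p0 by module] at this

omit [Fintype F] in
theorem lineClosed_mem (S : Submodule F V) : LineClosed F fun x => x ∈ S := by
  simpa using lineClosed_submodule S 0

omit [Fintype F] in
theorem bad_unique {P : V → Prop} (hP : LineClosed F P) {p d : V} {r : F} (hr : ¬ P (p + r • d))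
    {s t : F} (hs : P (p + s • d)) (ht : P (p + t • d)) : s = t := by
  by_contra h
  exact hr (hP p d s t h hs ht r)

/-- fewer properties than field elements leave a point free -/
theorem exists_avoid {ι : Type*} (s : Finset ι) (P : ι → V → Prop) (hl : ∀ i ∈ s, LineClosed F (P i))
    (hne : ∀ i ∈ s, ∃ x, ¬ P i x) (hcard : s.card < Fintype.card F) : ∃ x, ∀ i ∈ s, ¬ P i x := by
  classical
  induction s using Finset.induction_on with
  | empty => exact ⟨0, fun i hi => absurd hi (Finset.notMem_empty i)⟩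
  | @insert a s ha ih =>
    rw [Finset.card_insert_of_notMem ha] at hcard
    obtain ⟨p, hp⟩ := ih (fun i hi => hl i (Finset.mem_insert_of_mem hi))
      (fun i hi => hne i (Finset.mem_insert_of_mem hi)) (by omega)
    obtain ⟨r, hr⟩ := hne a (Finset.mem_insert_self a s)
    have free : ∀ i ∈ insert a s, ∃ c : F, ¬ P i (p + c • (r - p)) := by
      intro i hi
      rcases Finset.mem_insert.1 hi with rfl | hi
      · exact ⟨1, by rwa [one_smul, add_sub_cancel]⟩
      · exact ⟨0, by rw [zero_smul, add_zero]; exact hp i hi⟩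
    have hsub : ∀ i ∈ insert a s, (Finset.univ.filter fun c : F => P i (p + c • (r - p))).card ≤ 1 := by
      intro i hi
      obtain ⟨c, hc⟩ := free i hi
      exact Finset.card_le_one.2 fun x hx y hy =>
        bad_unique (hl i hi) hc (Finset.mem_filter.1 hx).2 (Finset.mem_filter.1 hy).2
    obtain ⟨c, -, hc⟩ : ∃ c ∈ (Finset.univ : Finset F),
        c ∉ (insert a s).biUnion fun i => Finset.univ.filter fun c : F => P i (p + c • (r - p)) := by
      refine Finset.exists_mem_notMem_of_card_lt_card ?_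
      refine lt_of_le_of_lt (Finset.card_biUnion_le.trans (Finset.sum_le_card_nsmul _ _ 1 hsub)) ?_
      simp only [smul_eq_mul, mul_one, Finset.card_univ, Finset.card_insert_of_notMem ha]
      omega
    refine ⟨p + c • (r - p), fun i hi hP => hc ?_⟩
    exact Finset.mem_biUnion.2 ⟨i, hi, Finset.mem_filter.2 ⟨Finset.mem_univ _, hP⟩⟩

/-- as before, also avoiding eigenvectors -/
theorem exists_avoid_noneigen {ι : Type*} (s : Finset ι) (P : ι → V → Prop) (hl : ∀ i ∈ s, LineClosed F (P i))
    (hne : ∀ i ∈ s, ∃ x, ¬ P i x) (hcard : s.card + 2 < Fintype.card F) (K : V →ₗ[F] V)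
    (hK : ∃ x, ∀ l : F, K x ≠ l • x) : ∃ x, (∀ i ∈ s, ¬ P i x) ∧ ∀ l : F, K x ≠ l • x := by
  classical
  obtain ⟨p, hp⟩ := exists_avoid s P hl hne (by omega)
  by_cases hp' : ∀ l : F, K p ≠ l • p
  · exact ⟨p, hp, hp'⟩
  obtain ⟨l₀, hl₀⟩ := not_forall_not.1 hp'
  obtain ⟨e, he⟩ := hK
  let E : F → Prop := fun t => ∃ l : F, K (p + t • e) = l • (p + t • e)
  have hindep : ∀ a b : F, a • p + b • e = 0 → p ≠ 0 → a = 0 ∧ b = 0 := by
    intro a b hab hp0
    by_cases hb : b = 0
    · subst hb
      rw [zero_smul, add_zero] at hab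
      exact ⟨(smul_eq_zero.1 hab).resolve_right hp0, rfl⟩
    · refine absurd ?_ (he l₀)
      have hep : e = (-(b⁻¹ * a)) • p := by
        calc e = b⁻¹ • (b • e) := (inv_smul_smul₀ hb e).symm
          _ = b⁻¹ • (-(a • p)) := by rw [eq_neg_of_add_eq_zero_right hab]
          _ = _ := by module
      rw [hep, map_smul, hl₀]; module
  have hE : ((Finset.univ.erase (0 : F)).filter E).card ≤ 1 := by
    refine Finset.card_le_one.2 fun t ht t' ht' => ?_
    simp only [Finset.mem_filter, Finset.mem_erase] at ht ht'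
    obtain ⟨⟨ht0, -⟩, l, hl⟩ := ht
    obtain ⟨⟨ht0', -⟩, l', hl'⟩ := ht'
    rw [map_add, map_smul, hl₀] at hl hl'
    by_cases hp0 : p = 0
    · subst hp0
      simp only [smul_zero, zero_add] at hl
      rw [smul_comm] at hl
      exact absurd (smul_right_injective V ht0 hl) (he l)
    have e1 : ((l - l₀) * t') • p + (-((l' - l₀) * t)) • p + (t * t' * (l - l')) • e = 0 := by
      have a1 : t • K e = (l - l₀) • p + (l * t) • e := by
        rw [eq_sub_of_add_eq' hl]; module
      have a2 : t' • K e = (l' - l₀) • p + (l' * t') • e := by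
        rw [eq_sub_of_add_eq' hl']; module
      have a3 : t' • (t • K e) = t • (t' • K e) := smul_comm _ _ _
      rw [a1, a2, ← sub_eq_zero] at a3
      rw [← a3]; module
    rw [← add_smul] at e1
    obtain ⟨h1, h2⟩ := hindep _ _ e1 hp0
    have hll : l = l' := by
      rcases mul_eq_zero.1 h2 with h | h
      · exact absurd h (mul_ne_zero ht0 ht0')
      · exact sub_eq_zero.1 h
    subst hll
    have hne' : l - l₀ ≠ 0 := fun h0 => by
      refine he l₀ ?_
      rw [sub_eq_zero.1 h0] at hl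
      have : t • K e = t • (l₀ • e) := by rw [eq_sub_of_add_eq' hl]; module
      exact smul_right_injective V ht0 this
    have h3 : (l - l₀) * (t' - t) = 0 := by linear_combination h1
    exact (sub_eq_zero.1 ((mul_eq_zero.1 h3).resolve_left hne')).symm
  have hsub : ∀ i ∈ s, (Finset.univ.filter fun c : F => P i (p + c • e)).card ≤ 1 := fun i hi =>
    Finset.card_le_one.2 fun x hx y hy => bad_unique (hl i hi) (r := 0) (by simpa using hp i hi)
      (Finset.mem_filter.1 hx).2 (Finset.mem_filter.1 hy).2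
  obtain ⟨c, -, hc⟩ : ∃ c ∈ (Finset.univ : Finset F),
      c ∉ insert 0 ((s.biUnion fun i => Finset.univ.filter fun c : F => P i (p + c • e)) ∪
        (Finset.univ.erase (0 : F)).filter E) := by
    refine Finset.exists_mem_notMem_of_card_lt_card (lt_of_le_of_lt (Finset.card_insert_le _ _) ?_)
    have h1 := Finset.card_union_le (s.biUnion fun i => Finset.univ.filter fun c : F => P i (p + c • e))
      ((Finset.univ.erase (0 : F)).filter E)
    have h2 := Finset.card_biUnion_le.trans (Finset.sum_le_card_nsmul _ _ 1 hsub)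
    simp only [smul_eq_mul, mul_one] at h2
    rw [Finset.card_univ]
    omega
  simp only [Finset.mem_insert, Finset.mem_union, Finset.mem_biUnion, Finset.mem_filter, Finset.mem_erase,
    Finset.mem_univ, and_true, true_and, not_or, not_exists, not_and] at hc
  exact ⟨p + c • e, fun i hi => hc.2.1 i hi, fun l hl => hc.2.2 hc.1 ⟨l, hl⟩⟩

end avoid

section induction

variable {V : Type v} [AddCommGroup V] [Module F V]

omit [Fintype F] in
/-- not a scalar, and not the identity up to rank one -/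
structure Inv (K : V →ₗ[F] V) : Prop where
  noneigen : ∃ x, ∀ l : F, K x ≠ l • x
  rank : ∀ a, ∃ x, K x - x ∉ span F {a}

omit [Fintype F] in
/-- the induced endomorphism of the kernel of a covector -/
def red (K : V →ₗ[F] V) (θ : V →ₗ[F] F) (v : V) (h : θ (K v) = 1) : LinearMap.ker θ →ₗ[F] LinearMap.ker θ :=
  LinearMap.codRestrict _ ((K - (θ.comp K).smulRight (K v)).comp (LinearMap.ker θ).subtype) fun x => by
    simp [h]

omit [Fintype F] in
theorem red_apply (K : V →ₗ[F] V) (θ : V →ₗ[F] F) (v : V) (h : θ (K v) = 1) (x : LinearMap.ker θ) :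
    ((red K θ v h x : LinearMap.ker θ) : V) = K x - θ (K x) • K v := rfl

omit [Fintype F] in
theorem det_red [FiniteDimensional F V] (K : V →ₗ[F] V) (θ : V →ₗ[F] F) (v : V) (hv : θ v = 1)
    (h : θ (K v) = 1) : (red K θ v h).det = K.det := by
  set w : V := K v - v
  have hw : θ w = 0 := by simp [w, h, hv]
  have hwv : K v = v + w := by simp [w]
  let Y : V →ₗ[F] V := LinearMap.transvection θ (-w)
  have hY : Y.det = 1 := by simp [Y, hw]
  set e : V →ₗ[F] V := Y * K
  have he : e.det = K.det := by rw [map_mul, hY, one_mul]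
  have hev : e v = v := by simp [e, Y, LinearMap.transvection.apply, hwv, hw, hv]
  let L : Submodule F V := span F {v}
  have hL : L ≤ L.comap e := by
    rw [span_le, Set.singleton_subset_iff]
    show e v ∈ L
    rw [hev]; exact mem_span_singleton_self v
  rw [← he, LinearMap.det_eq_det_mul_det L e hL]
  have h1 : (e.restrict hL) = LinearMap.id := by
    refine LinearMap.ext fun x => Subtype.ext ?_
    obtain ⟨x, hx⟩ := x
    obtain ⟨a, rfl⟩ := mem_span_singleton.1 hx
    simp [LinearMap.restrict_apply, hev]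
  rw [h1, LinearMap.det_id, one_mul]
  have hc : IsCompl L (LinearMap.ker θ) := by
    constructor
    · rw [disjoint_def]
      intro x hx hx'
      obtain ⟨a, rfl⟩ := mem_span_singleton.1 hx
      have h0 : θ (a • v) = 0 := hx'
      rw [map_smul, hv, smul_eq_mul, mul_one] at h0
      rw [h0, zero_smul]
    · rw [codisjoint_iff, eq_top_iff]
      intro x _
      exact mem_sup.2 ⟨θ x • v, smul_mem _ _ (mem_span_singleton_self v), x - θ x • v, by simp [hv], by abel⟩
  let q := Submodule.quotientEquivOfIsCompl L (LinearMap.ker θ) hc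
  rw [← LinearMap.det_conj (L.mapQ L e hL) q]
  congr 1
  refine LinearMap.ext fun x => ?_
  simp only [LinearMap.comp_apply, LinearEquiv.coe_coe]
  rw [show q.symm x = Submodule.Quotient.mk (x : V) from Submodule.quotientEquivOfIsCompl_symm_apply _ _ hc x]
  rw [Submodule.mapQ_apply]
  symm
  rw [show (Submodule.Quotient.mk (e x) : V ⧸ L) = Submodule.Quotient.mk ((red K θ v h x : V)) from ?_]
  · exact Submodule.quotientEquivOfIsCompl_apply_mk_right hc _
  rw [Submodule.Quotient.eq]
  refine mem_span_singleton.2 ⟨θ (K x), ?_⟩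
  simp [e, Y, LinearMap.transvection.apply, red_apply, hwv]

omit [Fintype F] in
theorem exists_noneigen {W : Type*} [AddCommGroup W] [Module F W] (f : W →ₗ[F] W)
    (h : ¬ ∃ l : F, ∀ x, f x = l • x) : ∃ x, ∀ l : F, f x ≠ l • x := by
  by_contra hc
  push Not at hc
  obtain ⟨a, ha⟩ := LinearMap.exists_eq_smul_id_of_forall_notLinearIndependent (f := f) fun x hx => by
    obtain ⟨l, hl⟩ := hc x
    have := (LinearIndependent.pair_iff.1 hx) l (-1) (by rw [hl]; simp)
    simp at this
  exact h ⟨a, fun x => by rw [ha]; rfl⟩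

omit [Fintype F] in
theorem exists_functional {S : Submodule F V} {x : V} (hx : x ∉ S) :
    ∃ f : V →ₗ[F] F, f x = 1 ∧ ∀ y ∈ S, f y = 0 := by
  obtain ⟨f, hf, hf'⟩ := S.exists_dual_map_eq_bot_of_notMem hx inferInstance
  refine ⟨(f x)⁻¹ • f, by simp [hf], fun y hy => ?_⟩
  have : f y = 0 := by rw [← Submodule.mem_bot F, ← hf']; exact Submodule.mem_map_of_mem hy
  simp [this]

/-- choice of the first vector -/
theorem exists_vector [FiniteDimensional F V] (hF : 9 ≤ Fintype.card F) (K : V →ₗ[F] V) (hK : Inv K)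
    (b : V) (c : V →ₗ[F] F) (hc : c ≠ 0) :
    ∃ v, c v ≠ 0 ∧ (∀ l : F, K v ≠ l • v) ∧ K v - v ∉ span F {b} ∧
      (3 ≤ finrank F V → ∃ x, K x - x ∉ span F {v, K v - v}) := by
  classical
  let N : V →ₗ[F] V := K - LinearMap.id
  let I : Submodule F V := LinearMap.range N
  let P : Fin 3 → V → Prop := ![fun x => x ∈ LinearMap.ker c, fun x => x ∈ (span F {b}).comap N,
    fun x => x ∈ I ∧ I ≠ ⊤]
  have hl : ∀ i ∈ (Finset.univ : Finset (Fin 3)), LineClosed F (P i) := by
    intro i _
    fin_cases i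
    · exact lineClosed_mem _
    · exact lineClosed_mem _
    · intro p d s t hst hs ht r
      exact ⟨lineClosed_mem I p d s t hst hs.1 ht.1 r, hs.2⟩
  have hne : ∀ i ∈ (Finset.univ : Finset (Fin 3)), ∃ x, ¬ P i x := by
    intro i _
    fin_cases i
    · exact not_forall.1 fun h => hc (LinearMap.ext h)
    · obtain ⟨x, hx⟩ := hK.rank b
      exact ⟨x, hx⟩
    · show ∃ x, ¬ (x ∈ I ∧ I ≠ ⊤)
      by_cases hI : I = ⊤
      · exact ⟨0, fun h => h.2 hI⟩
      · obtain ⟨x, -, hx⟩ := SetLike.exists_of_lt (lt_top_iff_ne_top.2 hI)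
        exact ⟨x, fun h => hx h.1⟩
  obtain ⟨v, hv, hv'⟩ := exists_avoid_noneigen Finset.univ P hl hne (by simp; omega) K hK.noneigen
  have h0 : c v ≠ 0 := fun h => hv 0 (Finset.mem_univ _) h
  have h1 : K v - v ∉ span F {b} := fun h => hv 1 (Finset.mem_univ _) h
  have h2 : ¬ (v ∈ I ∧ I ≠ ⊤) := hv 2 (Finset.mem_univ _)
  refine ⟨v, h0, hv', h1, fun h3 => ?_⟩
  by_contra hall
  push Not at hall
  have hIP : I ≤ span F {v, K v - v} := by rintro _ ⟨x, rfl⟩; exact hall x
  obtain ⟨x, hx⟩ := hK.rank (K v - v)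
  obtain ⟨α, β, hab⟩ := mem_span_pair.1 (hall x)
  have hα : α ≠ 0 := fun h => hx (mem_span_singleton.2 ⟨β, by rw [← hab, h, zero_smul, zero_add]⟩)
  have hvI : v ∈ I := by
    have : α • v ∈ I := by
      rw [show α • v = (K x - x) - β • (K v - v) by rw [← hab]; abel]
      exact I.sub_mem ⟨x, rfl⟩ (I.smul_mem _ ⟨v, rfl⟩)
    simpa [inv_smul_smul₀ hα] using I.smul_mem α⁻¹ this
  have hI : I = ⊤ := by_contra fun h => h2 ⟨hvI, h⟩
  have hle := Submodule.finrank_mono hIP
  rw [hI, finrank_top] at hle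
  have := finrank_span_le_card (R := F) ({v, K v - v} : Set V)
  have hcard : ({v, K v - v} : Set V).toFinset.card ≤ 2 := by
    rw [Set.toFinset_insert, Set.toFinset_singleton]; exact Finset.card_le_two
  omega

/-- choice of the covector, and the properties of the reduced map -/
theorem exists_covector [FiniteDimensional F V] (hF : 9 ≤ Fintype.card F) (K : V →ₗ[F] V) (hK : Inv K)
    (hdet : K.det = 1) (b : V) (hb : b ≠ 0) (v : V) (hv : ∀ l : F, K v ≠ l • v)
    (hvb : K v - v ∉ span F {b}) (hv3 : 3 ≤ finrank F V → ∃ x, K x - x ∉ span F {v, K v - v}) :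
    ∃ (θ : V →ₗ[F] F) (h : θ (K v) = 1), θ v = 1 ∧ θ b ≠ 0 ∧ (∃ x, θ (K x - x) ≠ 0) ∧
      (3 ≤ finrank F V → Inv (red K θ v h)) := by
  classical
  set w := K v - v with hwdef
  have hv0 : v ≠ 0 := fun h => hv 0 (by simp [h])
  have hw0 : w ≠ 0 := fun h => hvb (by rw [h]; exact zero_mem _)
  have hvw : v ∉ span F {w} := fun h => by
    obtain ⟨a, ha⟩ := mem_span_singleton.1 h
    have ha0 : a ≠ 0 := fun e => hv0 (by rw [← ha, e, zero_smul])
    refine hv (1 + a⁻¹) ?_
    have : w = a⁻¹ • v := by rw [← ha, inv_smul_smul₀ ha0]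
    rw [hwdef] at this
    rw [add_smul, one_smul, ← this]; abel
  have hbw : b ∉ span F {w} := fun h => by
    obtain ⟨a, ha⟩ := mem_span_singleton.1 h
    have ha0 : a ≠ 0 := fun e => hb (by rw [← ha, e, zero_smul])
    exact hvb (mem_span_singleton.2 ⟨a⁻¹, by rw [← ha, inv_smul_smul₀ ha0]⟩)
  obtain ⟨θ₀, hθv, hθw⟩ := exists_functional hvw
  replace hθw : θ₀ w = 0 := hθw w (mem_span_singleton_self w)
  let N : Submodule F (V →ₗ[F] F) := (span F {v, w}).dualAnnihilator
  have hN : ∀ ξ : N, (ξ : V →ₗ[F] F) v = 0 ∧ (ξ : V →ₗ[F] F) w = 0 := fun ξ =>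
    ⟨(mem_dualAnnihilator _).1 ξ.2 v (subset_span (by simp)),
     (mem_dualAnnihilator _).1 ξ.2 w (subset_span (by simp))⟩
  have hmkN : ∀ f : V →ₗ[F] F, (∀ y ∈ span F {v, w}, f y = 0) → f ∈ N := fun f hf =>
    (mem_dualAnnihilator _).2 hf
  let T : N → (V →ₗ[F] F) := fun ξ => θ₀ + (ξ : V →ₗ[F] F)
  have hTv : ∀ ξ, T ξ v = 1 := fun ξ => by simp [T, hθv, (hN ξ).1]
  have hTw : ∀ ξ, T ξ w = 0 := fun ξ => by simp [T, hθw, (hN ξ).2]
  have hKv : K v = v + w := by simp [hwdef]
  have hTK : ∀ ξ, T ξ (K v) = 1 := fun ξ => by rw [hKv, map_add, hTv, hTw, add_zero]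
  have hTlin : ∀ (p d : N) (r : F) (x : V), T (p + r • d) x = T p x + r * (d : V →ₗ[F] F) x := fun p d r x => by
    simp [T]; ring
  let R : N → V → V := fun ξ x => K x - x - T ξ (K x) • K v + T ξ x • v
  have hRθ : ∀ ξ x, T ξ (R ξ x) = 0 := fun ξ x => by
    simp only [R, map_sub, map_add, map_smul, hTK, hTv, smul_eq_mul]; ring
  let P1 : N → Prop := fun ξ => T ξ b = 0
  let P2 : N → Prop := fun ξ => ∀ x, T ξ (K x - x) = 0
  let P3 : N → Prop := fun ξ => 3 ≤ finrank F V ∧ ∃ l : F, ∀ x, K x - T ξ (K x) • K v = l • (x - T ξ x • v)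
  let P4 : N → Prop := fun ξ => 3 ≤ finrank F V ∧ ∃ a, ∀ x, R ξ x ∈ span F {a}
  have close1 : LineClosed F P1 := by
    intro p d s t hst hs ht r
    simp only [P1, hTlin] at hs ht ⊢
    have hd : (d : V →ₗ[F] F) b = 0 :=
      (mul_eq_zero.1 (show (s - t) * (d : V →ₗ[F] F) b = 0 by linear_combination hs - ht)).resolve_left
        (sub_ne_zero.2 hst)
    rw [hd] at hs ⊢
    linear_combination hs
  have close2 : LineClosed F P2 := by
    intro p d s t hst hs ht r x
    have hs := hs x
    have ht := ht x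
    simp only [hTlin] at hs ht ⊢
    have hd : (d : V →ₗ[F] F) (K x - x) = 0 :=
      (mul_eq_zero.1 (show (s - t) * (d : V →ₗ[F] F) (K x - x) = 0 by linear_combination hs - ht)).resolve_left
        (sub_ne_zero.2 hst)
    rw [hd] at hs ⊢
    linear_combination hs
  have uniq3 : ∀ ξ ξ' : N, ∀ l l' : F, 3 ≤ finrank F V →
      (∀ x, K x - T ξ (K x) • K v = l • (x - T ξ x • v)) →
      (∀ x, K x - T ξ' (K x) • K v = l' • (x - T ξ' x • v)) → l = l' := by
    intro ξ ξ' l l' h3 h h'
    have hlt : span F ({v, w} : Set V) ≠ ⊤ := fun htop => by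
      obtain ⟨x, hx⟩ := hv3 h3
      exact hx (htop ▸ mem_top)
    obtain ⟨x, -, hx⟩ := SetLike.exists_of_lt (lt_top_iff_ne_top.2 hlt)
    by_contra hne
    refine hx (mem_span_pair.2 ⟨(l - l')⁻¹ * (T ξ' (K x) - T ξ (K x) + l * T ξ x - l' * T ξ' x),
      (l - l')⁻¹ * (T ξ' (K x) - T ξ (K x)), ?_⟩)
    refine smul_right_injective V (sub_ne_zero.2 hne) ?_
    simp only [smul_add, smul_smul, mul_inv_cancel_left₀ (sub_ne_zero.2 hne)]
    have e : (K x - T ξ (K x) • K v) - (K x - T ξ' (K x) • K v) =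
        l • (x - T ξ x • v) - l' • (x - T ξ' x • v) := by rw [h x, h' x]
    rw [hKv] at e
    rw [← sub_eq_zero] at e ⊢
    rw [← e]; module
  have close3 : LineClosed F P3 := by
    rintro p d s t hst ⟨h3, l, hs⟩ ⟨-, l', ht⟩ r
    obtain rfl := uniq3 _ _ l l' h3 hs ht
    refine ⟨h3, l, fun x => ?_⟩
    have hs := hs x
    have ht := ht x
    simp only [hTlin] at hs ht ⊢
    have hd : (d : V →ₗ[F] F) (K x) • K v = (l * (d : V →ₗ[F] F) x) • v := by
      refine smul_right_injective V (sub_ne_zero.2 hst) ?_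
      rw [← sub_eq_zero] at hs ht ⊢
      rw [← sub_eq_zero.2 (ht.trans hs.symm)]; module
    rw [← sub_eq_zero] at hs hd ⊢
    have : (r - s) • ((d : V →ₗ[F] F) (K x) • K v - (l * (d : V →ₗ[F] F) x) • v) = (0 : V) := by
      rw [hd, smul_zero]
    rw [← sub_eq_zero.2 (hs.trans this.symm)]; module
  -- the last bad set is an affine subspace, and proper
  have key4 : LineClosed F P4 ∧ ∃ ξ, ¬ P4 ξ := by
    by_cases h3 : 3 ≤ finrank F V
    swap
    · exact ⟨fun p d s t _ hs _ r => absurd hs.1 h3, ⟨0, fun h => h3 h.1⟩⟩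
    by_cases hQ : ∀ a, ∃ x, K x - x ∉ span F {a, v, w}
    · have none : ∀ ξ, ¬ P4 ξ := by
        rintro ξ ⟨-, a, ha⟩
        obtain ⟨x, hx⟩ := hQ a
        refine hx ?_
        have e : K x - x = R ξ x + T ξ (K x) • (v + w) - T ξ x • v := by simp only [R, hKv]; abel
        rw [e]
        refine sub_mem (add_mem (span_mono ?_ (ha x))
          (smul_mem _ _ (add_mem (subset_span ?_) (subset_span ?_)))) (smul_mem _ _ (subset_span ?_)) <;> simp
      exact ⟨fun p d s t _ hs _ r => absurd hs (none _), ⟨0, none 0⟩⟩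
    push Not at hQ
    obtain ⟨u, hu⟩ := hQ
    obtain ⟨x₁, hx₁⟩ := hv3 h3
    have hu' : u ∉ span F {v, w} := fun h => hx₁ (span_le.2 (by
      intro y hy
      rcases hy with rfl | rfl | rfl
      · exact h
      · exact subset_span (by simp)
      · exact subset_span (by simp)) (hu x₁))
    obtain ⟨ψ, hψu, hψ⟩ := exists_functional hu'
    have hw' : w ∉ span F {u, v} := fun h => by
      obtain ⟨p, q, hpq⟩ := mem_span_pair.1 h
      by_cases hp : p = 0
      · rw [hp, zero_smul, zero_add] at hpq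
        by_cases hq : q = 0
        · rw [hq, zero_smul] at hpq; exact hw0 hpq.symm
        · exact hvw (mem_span_singleton.2 ⟨q⁻¹, by rw [← hpq, inv_smul_smul₀ hq]⟩)
      · refine hu' (mem_span_pair.2 ⟨-(p⁻¹ * q), p⁻¹, ?_⟩)
        refine smul_right_injective V hp ?_
        simp only [smul_add, smul_smul, mul_neg, mul_inv_cancel_left₀ hp, mul_inv_cancel₀ hp, one_smul]
        rw [← hpq]; module
    obtain ⟨χ, hχw, hχ⟩ := exists_functional hw'
    have hψv : ψ v = 0 := hψ v (subset_span (by simp))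
    have hψw : ψ w = 0 := hψ w (subset_span (by simp))
    have hχv : χ v = 0 := hχ v (subset_span (by simp))
    have hχu : χ u = 0 := hχ u (subset_span (by simp))
    have hRdec : ∀ ξ x, R ξ x = ψ (K x - x) • (u - T ξ u • v) + (χ (K x - x) - T ξ (K x)) • w := by
      intro ξ x
      obtain ⟨p, q, r', hpqr⟩ : ∃ p q r' : F, K x - x = p • u + q • v + r' • w := by
        obtain ⟨p, z, hz, e⟩ := mem_span_insert.1 (hu x)
        obtain ⟨q, r', rfl⟩ := mem_span_pair.1 hz
        exact ⟨p, q, r', by rw [e]; abel⟩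
      have e1 : ψ (K x - x) = p := by rw [hpqr]; simp [hψu, hψv, hψw]
      have e2 : χ (K x - x) = r' := by rw [hpqr]; simp [hχu, hχv, hχw]
      have e3 : T ξ (K x) - T ξ x = p * T ξ u + q := by
        rw [← map_sub, hpqr]; simp only [map_add, map_smul, hTv, hTw, smul_eq_mul]; ring
      have hq : q = T ξ (K x) - T ξ x - p * T ξ u := by linear_combination -e3
      rw [e1, e2]
      simp only [R, hpqr, hKv, hq]; module
    have hαne : ψ (K x₁ - x₁) ≠ 0 := fun h => by
      obtain ⟨p, z, hz, e⟩ := mem_span_insert.1 (hu x₁)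
      obtain ⟨q, r', rfl⟩ := mem_span_pair.1 hz
      have : p = 0 := by rw [e] at h; simpa [hψu, hψv, hψw] using h
      exact hx₁ (by rw [e, this, zero_smul, zero_add]; exact hz)
    have iff4 : ∀ ξ, P4 ξ ↔ ∃ μ : F, ∀ x, χ (K x - x) - T ξ (K x) = μ * ψ (K x - x) := by
      intro ξ
      constructor
      · rintro ⟨-, a, ha⟩
        have hψT : ∀ x, ψ (R ξ x) = ψ (K x - x) := fun x => by rw [hRdec]; simp [hψu, hψv, hψw]
        have hχT : ∀ x, χ (R ξ x) = χ (K x - x) - T ξ (K x) := fun x => by rw [hRdec]; simp [hχu, hχv, hχw]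
        have hψa : ψ a ≠ 0 := fun h => hαne (by
          obtain ⟨p, hp⟩ := mem_span_singleton.1 (ha x₁)
          rw [← hψT, ← hp, map_smul, h, smul_zero])
        refine ⟨χ a / ψ a, fun x => ?_⟩
        obtain ⟨p, hp⟩ := mem_span_singleton.1 (ha x)
        rw [← hψT, ← hχT, ← hp, map_smul, map_smul, smul_eq_mul, smul_eq_mul]
        field_simp
      · rintro ⟨μ, hμ⟩
        refine ⟨h3, u - T ξ u • v + μ • w, fun x => mem_span_singleton.2 ⟨ψ (K x - x), ?_⟩⟩
        rw [hRdec, hμ]; module
    have close4 : LineClosed F P4 := by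
      intro p d s t hst hs ht r
      obtain ⟨μ, hs⟩ := (iff4 _).1 hs
      obtain ⟨μ', ht⟩ := (iff4 _).1 ht
      refine (iff4 _).2 ⟨μ + (r - s) / (s - t) * (μ - μ'), fun x => ?_⟩
      have hs := hs x
      have ht := ht x
      simp only [hTlin] at hs ht ⊢
      have : s - t ≠ 0 := sub_ne_zero.2 hst
      field_simp
      linear_combination (s - t) * hs + (r - s) * (hs - ht)
    refine ⟨close4, ?_⟩
    by_contra hall
    push Not at hall
    let ξ₁ : N := ⟨ψ, hmkN ψ hψ⟩
    obtain ⟨μ₀, hμ₀⟩ := (iff4 _).1 (hall 0)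
    obtain ⟨μ₁, hμ₁⟩ := (iff4 _).1 (hall ξ₁)
    have hT0 : ∀ x, T 0 x = θ₀ x := fun x => by simp [T]
    have hT1 : ∀ x, T ξ₁ x = θ₀ x + ψ x := fun x => by simp [T, ξ₁]
    have hrel : ∀ x, (1 - (μ₀ - μ₁)) * ψ (K x) = -((μ₀ - μ₁) * ψ x) := fun x => by
      have h0 := hμ₀ x
      have h1 := hμ₁ x
      rw [hT0] at h0; rw [hT1] at h1
      rw [map_sub ψ] at h0 h1
      linear_combination h0 - h1
    -- now the determinant is wrong
    let θ := T 0
    let W := LinearMap.ker θ
    have hθK : θ (K v) = 1 := hTK 0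
    let u' : W := ⟨u - T 0 u • v + μ₀ • w, by simp [W, θ, hTv, hTw]⟩
    let α : W →ₗ[F] F := (ψ.comp (K - LinearMap.id)).comp W.subtype
    have hred : red K θ v hθK = LinearMap.transvection α u' := by
      refine LinearMap.ext fun x => Subtype.ext ?_
      have hx : T 0 (x : V) = 0 := x.2
      have e := hRdec 0 (x : V)
      rw [hμ₀ (x : V)] at e
      simp only [R, hx, zero_smul, add_zero] at e
      rw [red_apply]
      simp only [LinearMap.transvection.apply, Submodule.coe_add, Submodule.coe_smul, α, u', LinearMap.comp_apply,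
        Submodule.subtype_apply, LinearMap.sub_apply, LinearMap.id_apply, θ]
      rw [← sub_eq_zero] at e ⊢
      rw [← e]; module
    have hd := det_red K θ v (hTv 0) hθK
    rw [hred, LinearMap.transvection.det, hdet] at hd
    have hα : α u' = 0 := by linear_combination hd
    have hα' : ψ (K (u' : V)) - ψ (u' : V) = 0 := by
      rw [← map_sub]; exact hα
    have hu1 : ψ (u' : V) = 1 := by simp [u', hψu, hψv, hψw]
    have := hrel (u' : V)
    rw [sub_eq_zero.1 hα', hu1] at this
    exact one_ne_zero (by linear_combination this)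
  have ne1 : ∃ ξ, ¬ P1 ξ := by
    by_cases h : θ₀ b = 0
    · have hbS : b ∉ span F {v, w} := fun hb' => by
        obtain ⟨p, q, hpq⟩ := mem_span_pair.1 hb'
        refine hbw (mem_span_singleton.2 ⟨q, ?_⟩)
        have : p = 0 := by rw [← hpq] at h; simpa [hθv, hθw] using h
        rw [← hpq, this, zero_smul, zero_add]
      obtain ⟨f, hf, hf'⟩ := exists_functional hbS
      exact ⟨⟨f, hmkN f hf'⟩, by simp [P1, T, h, hf]⟩
    · exact ⟨0, by simpa [P1, T] using h⟩
  have ne2 : ∃ ξ, ¬ P2 ξ := by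
    obtain ⟨x, hx⟩ := hK.rank w
    by_cases h : θ₀ (K x - x) = 0
    · have hxS : K x - x ∉ span F {v, w} := fun hx' => by
        obtain ⟨p, q, hpq⟩ := mem_span_pair.1 hx'
        refine hx (mem_span_singleton.2 ⟨q, ?_⟩)
        have : p = 0 := by rw [← hpq] at h; simpa [hθv, hθw] using h
        rw [← hpq, this, zero_smul, zero_add]
      obtain ⟨f, hf, hf'⟩ := exists_functional hxS
      refine ⟨⟨f, hmkN f hf'⟩, fun h2 => ?_⟩
      have e := h2 x
      simp only [T, LinearMap.add_apply] at e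
      rw [h, hf, zero_add] at e
      exact one_ne_zero e
    · refine ⟨0, fun h2 => h ?_⟩
      have e := h2 x
      simpa [T] using e
  have ne3 : ∃ ξ, ¬ P3 ξ := by
    by_cases h3 : 3 ≤ finrank F V
    swap
    · exact ⟨0, fun h => h3 h.1⟩
    obtain ⟨x, hx⟩ := hv3 h3
    obtain ⟨f, hf, hf'⟩ := exists_functional (S := span F ({v, w} : Set V)) (x := K x - x) hx
    by_contra hall
    push Not at hall
    obtain ⟨-, l, hl⟩ := hall 0
    obtain ⟨-, l', hl'⟩ := hall ⟨f, hmkN f hf'⟩
    obtain rfl := uniq3 _ _ l l' h3 hl hl'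
    have key : ∀ y, f (K y) = 0 := fun y => by
      by_contra hy
      have h1 := hl y
      have h2 := hl' y
      simp only [T, LinearMap.add_apply, ZeroMemClass.coe_zero, add_zero] at h1 h2
      refine hv (l * f y / f (K y)) ?_
      refine smul_right_injective V hy ?_
      simp only [smul_smul, mul_div_cancel₀ _ hy]
      rw [← sub_eq_zero] at h1 h2 ⊢
      rw [← sub_eq_zero.2 (h1.trans h2.symm)]; module
    have hsurj : Function.Surjective K := by
      have hu : IsUnit K := by
        rw [LinearMap.isUnit_iff_ker_eq_bot]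
        by_contra hk
        exact one_ne_zero (hdet.symm.trans (LinearMap.det_eq_zero_iff_ker_ne_bot.2 hk))
      exact LinearMap.range_eq_top.1 ((LinearMap.isUnit_iff_range_eq_top _).1 hu)
    have hzero : ∀ y, f y = 0 := fun y => by
      obtain ⟨z, rfl⟩ := hsurj y
      exact key z
    rw [hzero] at hf
    exact zero_ne_one hf
  let P : Fin 4 → N → Prop := ![P1, P2, P3, P4]
  obtain ⟨ξ, hξ⟩ := exists_avoid Finset.univ P
    (by intro i _; fin_cases i <;> [exact close1; exact close2; exact close3; exact key4.1])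
    (by intro i _; fin_cases i <;> [exact ne1; exact ne2; exact ne3; exact key4.2])
    (by simp; omega)
  have h1 : ¬ P1 ξ := hξ 0 (Finset.mem_univ _)
  have h2 : ¬ P2 ξ := hξ 1 (Finset.mem_univ _)
  have h3' : ¬ P3 ξ := hξ 2 (Finset.mem_univ _)
  have h4 : ¬ P4 ξ := hξ 3 (Finset.mem_univ _)
  refine ⟨T ξ, hTK ξ, hTv ξ, h1, not_forall.1 h2, fun h3 => ⟨?_, fun a => ?_⟩⟩
  · refine exists_noneigen _ fun ⟨l, hl⟩ => h3' ⟨h3, l, fun x => ?_⟩
    have e := congrArg Subtype.val (hl ⟨x - T ξ x • v, by simp [hTv]⟩)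
    rw [red_apply] at e
    simp only [map_sub, map_smul, hTK, smul_eq_mul, Submodule.coe_smul] at e
    rw [← sub_eq_zero] at e ⊢
    rw [← e]; module
  · by_contra hc
    push Not at hc
    refine h4 ⟨h3, (a : V), fun x => ?_⟩
    obtain ⟨p, hp⟩ := mem_span_singleton.1 (hc ⟨x - T ξ x • v, by simp [hTv]⟩)
    have e := congrArg Subtype.val hp
    rw [Submodule.coe_smul, AddSubgroupClass.coe_sub, red_apply] at e
    simp only [map_sub, map_smul, hTK, smul_eq_mul] at e
    refine mem_span_singleton.2 ⟨p, ?_⟩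
    rw [e]; simp only [R]; module

omit [Fintype F] in
/-- two unipotent factors adapted to a vector and a covector -/
theorem exists_pair_one [FiniteDimensional F V] (hm : finrank F V = 1) (K : V →ₗ[F] V) (hdet : K.det = 1) :
    K = 1 := by
  obtain ⟨a, ha⟩ := LinearMap.exists_eq_smul_id_of_forall_notLinearIndependent (f := K) fun x hx => by
    have := hx.fintype_card_le_finrank
    simp [hm] at this
  have e : (a • (1 : V →ₗ[F] V)).det = a := by simp [LinearMap.det_smul, hm]
  rw [ha] at hdet ⊢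
  rw [← e, hdet, one_smul]

/-- the recursion -/
theorem exists_pair (hF : 9 ≤ Fintype.card F) : ∀ (m : ℕ) {V : Type v} [AddCommGroup V] [Module F V]
    [FiniteDimensional F V], finrank F V = m + 1 → ∀ (K : V →ₗ[F] V), K.det = 1 → (1 ≤ m → Inv K) →
    ∀ (b : V), b ≠ 0 → ∀ (c : V →ₗ[F] F), c ≠ 0 → ∃ y z : V →ₗ[F] V, K = y * z ∧
      (y - 1) ^ (m + 1) = 0 ∧ (z - 1) ^ (m + 1) = 0 ∧ ((y - 1) ^ m) b ≠ 0 ∧ c.comp ((z - 1) ^ m) ≠ 0 := by
  intro m
  induction m with
  | zero =>
    intro V _ _ _ hm K hdet _ b hb c hc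
    refine ⟨1, 1, by rw [mul_one]; exact exists_pair_one hm K hdet, by simp, by simp, by simpa using hb, ?_⟩
    simpa [LinearMap.comp_id, Module.End.one_eq_id] using hc
  | succ n ih =>
    intro V _ _ _ hm K hdet hInv b hb c hc
    have hK : Inv K := hInv (by omega)
    obtain ⟨v, hcv, hv, hvb, hv3⟩ := exists_vector hF K hK b c hc
    obtain ⟨θ, hθK, hθv, hθb, ⟨x₀, hx₀⟩, hInv'⟩ := exists_covector hF K hK hdet b hb v hv hvb hv3
    set W := LinearMap.ker θ
    have hwW : K v - v ∈ W := by simp [W, hθK, hθv]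
    let w' : W := ⟨K v - v, hwW⟩
    have hw' : w' ≠ 0 := fun h => by
      have : K v - v = 0 := congrArg Subtype.val h
      exact hvb (by rw [this]; exact zero_mem _)
    let c' : W →ₗ[F] F := (θ.comp K).comp W.subtype
    have hmemW : x₀ - θ x₀ • v ∈ W := by simp [W, hθv]
    have hc' : c' ≠ 0 := fun h => hx₀ (by
      have := LinearMap.congr_fun h ⟨x₀ - θ x₀ • v, hmemW⟩
      simp only [c', LinearMap.comp_apply, Submodule.subtype_apply, map_sub, map_smul, hθK, smul_eq_mul, mul_one,
        LinearMap.zero_apply] at this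
      rw [map_sub]; exact this)
    have hrk : finrank F W = n + 1 := by
      have h1 := LinearMap.finrank_range_add_finrank_ker θ
      have h2 : LinearMap.range θ = ⊤ := by
        rw [eq_top_iff]; intro r _; exact ⟨r • v, by simp [hθv]⟩
      rw [h2, finrank_top, finrank_self, hm] at h1
      show finrank F (LinearMap.ker θ) = n + 1
      omega
    obtain ⟨y', z', hyz, hy', hz', hyb, hzc⟩ := ih hrk (red K θ v hθK)
      ((det_red K θ v hθv hθK).trans hdet) (fun (h : 1 ≤ n) => hInv' (by rw [hm]; omega)) w' hw' c' hc'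
    let π : V →ₗ[F] W := LinearMap.codRestrict W (LinearMap.id - θ.smulRight v) fun u => by simp [W, hθv]
    have hπ : ∀ u, ((π u : W) : V) = u - θ u • v := fun u => rfl
    have hπW : ∀ x : W, π x = x := fun x => Subtype.ext (by
      rw [hπ, show θ (x : V) = 0 from x.2, zero_smul, sub_zero])
    have hπv : π v = 0 := Subtype.ext (by rw [hπ, hθv, one_smul, sub_self]; rfl)
    let y : V →ₗ[F] V := θ.smulRight (K v) + W.subtype.comp (y'.comp π)
    let z : V →ₗ[F] V := (θ + (c'.comp π)).smulRight v + W.subtype.comp (z'.comp π)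
    have hNy : ∀ u, (y - 1) u = θ u • (K v - v) + (((y' - 1) (π u) : W) : V) := fun u => by
      simp only [y, LinearMap.sub_apply, Module.End.one_apply, LinearMap.add_apply, LinearMap.smulRight_apply,
        LinearMap.comp_apply, Submodule.subtype_apply, AddSubgroupClass.coe_sub, hπ, smul_sub]
      abel
    have hNz : ∀ u, (z - 1) u = c' (π u) • v + (((z' - 1) (π u) : W) : V) := fun u => by
      simp only [z, LinearMap.sub_apply, Module.End.one_apply, LinearMap.add_apply, LinearMap.smulRight_apply,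
        LinearMap.comp_apply, Submodule.subtype_apply, AddSubgroupClass.coe_sub, hπ, add_smul]
      abel
    have powY : ∀ (k : ℕ) (u : V), ((y - 1) ^ (k + 1) : V →ₗ[F] V) u =
        ((((y' - 1) ^ k : W →ₗ[F] W) (θ u • w' + (y' - 1) (π u))) : W) := by
      intro k
      induction k with
      | zero => intro u; simp [hNy, w']
      | succ k ihk =>
        intro u
        rw [pow_succ' (y - 1), Module.End.mul_apply, ihk, hNy, hπW, show θ ((((y' - 1) ^ k)
          (θ u • w' + (y' - 1) (π u)) : W) : V) = 0 from (((y' - 1) ^ k) (θ u • w' + (y' - 1) (π u))).2,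
          zero_smul, zero_add, pow_succ' (y' - 1) k, Module.End.mul_apply]
    have powZ : ∀ (k : ℕ) (u : V), ((z - 1) ^ (k + 1) : V →ₗ[F] V) u =
        c' (((z' - 1) ^ k : W →ₗ[F] W) (π u)) • v + ((((z' - 1) ^ (k + 1) : W →ₗ[F] W) (π u) : W) : V) := by
      intro k
      induction k with
      | zero => intro u; simp [hNz]
      | succ k ihk =>
        intro u
        rw [pow_succ' (z - 1), Module.End.mul_apply, ihk, map_add, map_smul, hNz, hNz, hπv, map_zero, map_zero,
          hπW, pow_succ' (z' - 1) (k + 1), Module.End.mul_apply]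
        simp
    refine ⟨y, z, LinearMap.ext fun u => ?_, LinearMap.ext fun u => ?_, LinearMap.ext fun u => ?_, ?_, ?_⟩
    · rw [Module.End.mul_apply]
      have e1 : θ (z u) = θ u + c' (π u) := by
        simp only [z, LinearMap.add_apply, LinearMap.smulRight_apply, LinearMap.comp_apply, Submodule.subtype_apply,
          map_add, map_smul, hθv, smul_eq_mul, mul_one]
        rw [show θ ((z' (π u) : W) : V) = 0 from (z' (π u)).2, add_zero]
      have e2 : π (z u) = z' (π u) := by
        simp only [z, LinearMap.add_apply, LinearMap.smulRight_apply, LinearMap.comp_apply, Submodule.subtype_apply,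
          map_add, map_smul, hπv, smul_zero, zero_add, hπW]
      show K u = θ (z u) • K v + ((y' (π (z u)) : W) : V)
      rw [e1, e2, ← Module.End.mul_apply, ← hyz, red_apply, hπ, map_sub, map_smul]
      simp only [c', LinearMap.comp_apply, Submodule.subtype_apply, hπ, map_sub, map_smul, hθK, smul_eq_mul]
      module
    · rw [powY, map_add, map_smul, ← Module.End.mul_apply, ← pow_succ]
      simp [pow_succ' (y' - 1) (n + 1), hy']
    · rw [powZ, hz', pow_succ' (z' - 1) (n + 1), hz', mul_zero]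
      simp
    · rw [powY, map_add, map_smul, ← Module.End.mul_apply, ← pow_succ, hy']
      simp only [LinearMap.zero_apply, add_zero, Submodule.coe_smul]
      exact smul_ne_zero hθb fun h => hyb (Subtype.ext h)
    · obtain ⟨x, hx⟩ : ∃ x : W, c' (((z' - 1) ^ n) x) ≠ 0 := not_forall.1 fun h => hzc (LinearMap.ext h)
      intro h
      have e := LinearMap.congr_fun h (x : V)
      rw [LinearMap.comp_apply, powZ, hπW, hz'] at e
      simp [hx, hcv] at e

end induction

end CfsgLib.Known.ClassSquare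

namespace CfsgLib.Known.ClassSquare

open Module Submodule

universe u v

variable {F : Type u} [Field F] {V : Type v} [AddCommGroup V] [Module F V]

/-- regular unipotent endomorphism of an `n`-dimensional space -/
def IsReg (n : ℕ) (y : V →ₗ[F] V) : Prop := (y - 1) ^ n = 0 ∧ (y - 1) ^ (n - 1) ≠ 0

theorem IsReg.isUnit {n : ℕ} {y : V →ₗ[F] V} (h : IsReg n y) : IsUnit y := by
  have := IsNilpotent.isUnit_one_add (⟨n, h.1⟩ : IsNilpotent (y - 1))
  rwa [add_sub_cancel] at this

/-- the cyclic basis of a regular unipotent -/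
theorem exists_cyclic_basis [FiniteDimensional F V] {n : ℕ} (hn : finrank F V = n) {y : V →ₗ[F] V}
    (h : IsReg n y) : ∃ (v : V) (b : Basis (Fin n) F V), ∀ i : Fin n, b i = ((y - 1) ^ (i : ℕ)) v := by
  obtain ⟨v, hv⟩ : ∃ v, ((y - 1) ^ (n - 1)) v ≠ 0 := not_forall.1 fun hall => h.2 (LinearMap.ext hall)
  rcases Nat.eq_zero_or_pos n with rfl | hnpos
  · have : Subsingleton V := finrank_zero_iff.1 hn
    exact absurd (Subsingleton.elim _ _) hv
  have hind : LinearIndependent F (fun i : Fin n => ((y - 1) ^ (i : ℕ)) v) := by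
    rw [Fintype.linearIndependent_iff]
    intro g hg i
    induction hi : (i : ℕ) using Nat.strong_induction_on generalizing i with
    | _ k ih =>
      subst hi
      have e := congrArg (fun u => ((y - 1) ^ (n - 1 - (i : ℕ)) : V →ₗ[F] V) u) hg
      rw [map_sum, map_zero, Finset.sum_eq_single i] at e
      · rw [map_smul, ← Module.End.mul_apply, ← pow_add,
          show n - 1 - (i : ℕ) + (i : ℕ) = n - 1 by omega] at e
        exact (smul_eq_zero.1 e).resolve_right hv
      · intro j _ hji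
        rcases lt_or_gt_of_ne (fun e : (j : ℕ) = i => hji (Fin.ext e)) with hlt | hlt
        · rw [ih j hlt j rfl, zero_smul, map_zero]
        · rw [map_smul, ← Module.End.mul_apply, ← pow_add, pow_eq_zero_of_le (by omega) h.1]
          simp
      · simp
  have : Nonempty (Fin n) := ⟨⟨0, hnpos⟩⟩
  exact ⟨v, basisOfLinearIndependentOfCardEqFinrank hind (by simp [hn]), fun i => by
    simp⟩

/-- any two regular unipotents are conjugate -/
theorem IsReg.exists_conj [FiniteDimensional F V] {n : ℕ} (hn : finrank F V = n) {y y' : V →ₗ[F] V}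
    (h : IsReg n y) (h' : IsReg n y') : ∃ P : V ≃ₗ[F] V, y' = P.conj y := by
  obtain ⟨v, b, hb⟩ := exists_cyclic_basis hn h
  obtain ⟨v', b', hb'⟩ := exists_cyclic_basis hn h'
  let P := b.equiv b' (Equiv.refl _)
  refine ⟨P, b'.ext fun i => ?_⟩
  have e1 : ∀ (z : V →ₗ[F] V) (w : V), z w = w + (z - 1) w := fun z w => by simp
  have hP : ∀ j : Fin n, P (b j) = b' j := fun j => by simp [P]
  have e2 : P.symm (b' i) = b i := by rw [← hP i, P.symm_apply_apply]
  rw [LinearEquiv.conj_apply_apply, e2, e1 y, map_add, hP, e1 y']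
  congr 1
  by_cases hi : (i : ℕ) + 1 < n
  · rw [hb' i, hb i, ← Module.End.mul_apply, ← Module.End.mul_apply, ← pow_succ', ← pow_succ']
    exact ((hP ⟨(i : ℕ) + 1, hi⟩).symm ▸ (hb' ⟨(i : ℕ) + 1, hi⟩).symm).trans (by rw [hb ⟨(i : ℕ) + 1, hi⟩])
  · rw [hb' i, hb i, ← Module.End.mul_apply, ← Module.End.mul_apply, ← pow_succ', ← pow_succ',
      pow_eq_zero_of_le (by omega) h.1, pow_eq_zero_of_le (by omega) h'.1]
    simp

theorem IsReg.conj {n : ℕ} {y : V →ₗ[F] V} (h : IsReg n y) (P : V ≃ₗ[F] V) : IsReg n (P.conj y) := by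
  have e : ∀ k, (P.conj y - 1) ^ k = P.conjAlgEquiv F ((y - 1) ^ k) := fun k => by
    rw [map_pow, map_sub, map_one]; rfl
  refine ⟨by rw [e, h.1, map_zero], fun h0 => h.2 ?_⟩
  rw [e] at h0
  exact (map_eq_zero_iff _ (P.conjAlgEquiv F).injective).1 h0

theorem IsReg.exists_inv {n : ℕ} {y : V →ₗ[F] V} (h : IsReg n y) :
    ∃ z, IsReg n z ∧ y * z = 1 ∧ z * y = 1 := by
  obtain ⟨u, rfl⟩ := h.isUnit
  have e : ((↑u⁻¹ : V →ₗ[F] V) - 1) = -((↑u⁻¹ : V →ₗ[F] V) * ((u : V →ₗ[F] V) - 1)) := by
    rw [mul_sub, u.inv_mul, mul_one, neg_sub]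
  have hc : Commute (↑u⁻¹ : V →ₗ[F] V) ((u : V →ₗ[F] V) - 1) :=
    (Commute.refl (u : V →ₗ[F] V)).units_inv_left.sub_right (Commute.one_right _)
  refine ⟨↑u⁻¹, ⟨?_, fun h0 => h.2 ?_⟩, u.mul_inv, u.inv_mul⟩
  · rw [e, neg_pow, hc.mul_pow, h.1]; simp
  · rw [e, neg_pow, hc.mul_pow] at h0
    have h1 : ((↑u⁻¹ : V →ₗ[F] V) ^ (n - 1) * ((u : V →ₗ[F] V) - 1) ^ (n - 1)) = 0 := by
      rcases neg_one_pow_eq_or (V →ₗ[F] V) (n - 1) with hp | hp <;> rw [hp] at h0
      · rwa [one_mul] at h0
      · rwa [neg_one_mul, neg_eq_zero] at h0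
    exact (Units.mul_right_eq_zero (u⁻¹ ^ (n - 1))).1 (by rw [Units.val_pow_eq_pow_val]; exact h1)

theorem IsReg.det [FiniteDimensional F V] {n : ℕ} {y : V →ₗ[F] V} (h : IsReg n y) (p : ℕ) [Fact p.Prime]
    [CharP F p] : y.det = 1 := by
  have : Nontrivial (V →ₗ[F] V) := ⟨⟨_, _, h.2⟩⟩
  have : CharP (V →ₗ[F] V) p := charP_of_injective_algebraMap (algebraMap F (V →ₗ[F] V)).injective p
  have e : y ^ p ^ n = 1 := by
    have := add_pow_char_pow_of_commute (p := p) (n := n) (Commute.one_right (y - 1))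
    rw [sub_add_cancel, one_pow, pow_eq_zero_of_le (Nat.lt_pow_self (Fact.out : p.Prime).one_lt).le h.1,
      zero_add] at this
    exact this
  have e' := congrArg LinearMap.det e
  rw [map_pow, map_one] at e'
  exact iterateFrobenius_inj F p n (by rw [iterateFrobenius_def, iterateFrobenius_def, e', one_pow])

theorem exists_reg_mul [Fintype F] [FiniteDimensional F V] (hF : 9 ≤ Fintype.card F) {n : ℕ}
    (hn : finrank F V = n + 2) (K : V →ₗ[F] V) (hdet : K.det = 1) (hK : K = 1 ∨ ∃ x, ∀ l : F, K x ≠ l • x) :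
    ∃ y z : V →ₗ[F] V, K = y * z ∧ IsReg (n + 2) y ∧ IsReg (n + 2) z := by
  classical
  -- some regular unipotent
  let bV := Module.finBasisOfFinrankEq F V hn
  let Nm : V →ₗ[F] V := bV.constr F fun i => if h : (i : ℕ) + 1 < n + 2 then bV ⟨(i : ℕ) + 1, h⟩ else 0
  have hNm : ∀ (k : ℕ) (i : Fin (n + 2)),
      (Nm ^ k : V →ₗ[F] V) (bV i) = if h : (i : ℕ) + k < n + 2 then bV ⟨(i : ℕ) + k, h⟩ else 0 := by
    intro k
    induction k with
    | zero => intro i; simp
    | succ k ih =>
      intro i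
      rw [pow_succ', Module.End.mul_apply, ih]
      by_cases h : (i : ℕ) + k < n + 2
      · rw [dif_pos h]; simp only [Nm, Basis.constr_basis, Nat.add_assoc]
      · rw [dif_neg h, map_zero, dif_neg (by omega)]
  have hJ : IsReg (n + 2) (1 + Nm) := by
    refine ⟨?_, fun h => ?_⟩
    · rw [add_sub_cancel_left]
      exact bV.ext fun i => by rw [hNm, dif_neg (by omega)]; rfl
    · rw [add_sub_cancel_left] at h
      have e := LinearMap.congr_fun h (bV 0)
      rw [hNm, dif_pos (by simp)] at e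
      exact bV.ne_zero _ e
  obtain ⟨z₀, hz₀, hJz, hzJ⟩ := hJ.exists_inv
  rcases hK with rfl | hK
  · exact ⟨1 + Nm, z₀, hJz.symm, hJ, hz₀⟩
  by_cases hr : ∀ a, ∃ x, K x - x ∉ span F {a}
  · obtain ⟨y, z, e, hy, hz, hyb, hzc⟩ := exists_pair hF (n + 1) hn K hdet (fun _ => ⟨hK, hr⟩) (bV 0)
      (bV.ne_zero 0) (bV.coord 0) (fun h => by simpa using LinearMap.congr_fun h (bV 0))
    exact ⟨y, z, e, ⟨hy, fun h => hyb (by rw [show n + 2 - 1 = n + 1 by omega] at h; rw [h]; rfl)⟩,
      ⟨hz, fun h => hzc (by rw [show n + 2 - 1 = n + 1 by omega] at h; rw [h, LinearMap.comp_zero])⟩⟩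
  -- a transvection
  push Not at hr
  obtain ⟨a, ha⟩ := hr
  have hK1 : ∃ x, K x - x ≠ 0 := not_forall.1 fun h => by
    obtain ⟨x, hx⟩ := hK
    exact hx 1 (by rw [one_smul]; exact sub_eq_zero.1 (h x))
  have ha0 : a ≠ 0 := fun h => by
    obtain ⟨x, hx⟩ := hK1
    have := ha x
    rw [h, span_singleton_eq_bot.2 rfl, Submodule.mem_bot] at this
    exact hx this
  obtain ⟨ψ, hψa, -⟩ := exists_functional (S := (⊥ : Submodule F V)) (x := a) (by simpa using ha0)
  set r : V →ₗ[F] F := ψ.comp (K - 1)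
  have hKr : K = LinearMap.transvection r a := by
    refine LinearMap.ext fun x => ?_
    obtain ⟨t, ht⟩ := mem_span_singleton.1 (ha x)
    have : r x = t := by simp [r, ← ht, hψa]
    rw [LinearMap.transvection.apply, this, ht]; abel
  have hra : r a = 0 := by
    have := hdet
    rw [hKr, LinearMap.transvection.det] at this
    linear_combination this
  have hr0 : r ≠ 0 := fun h => by
    obtain ⟨x, hx⟩ := hK1
    exact hx (by rw [hKr, LinearMap.transvection.apply, h]; simp)
  -- the model product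
  set e₀ : V := bV ⟨n + 1, by omega⟩
  have he : e₀ = Nm (bV ⟨n, by omega⟩) := by
    have := hNm 1 ⟨n, by omega⟩
    rw [pow_one, dif_pos (by simp)] at this
    exact this.symm
  have hJe : (1 + Nm) e₀ = e₀ := by
    have := hNm 1 ⟨n + 1, by omega⟩
    rw [pow_one, dif_neg (by simp)] at this
    simp [e₀, this]
  have hze : z₀ e₀ = e₀ := by
    conv_lhs => rw [← hJe]
    rw [← Module.End.mul_apply, hzJ]; rfl
  set ρ : V →ₗ[F] F := bV.coord ⟨n + 1, by omega⟩
  have hρe : ρ e₀ = 1 := by simp [ρ, e₀]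
  set r₀ : V →ₗ[F] F := ρ.comp z₀ - ρ
  have hr₀ : r₀ ≠ 0 := fun h => by
    have e := LinearMap.congr_fun h ((1 + Nm) (bV ⟨n, by omega⟩))
    simp only [r₀, LinearMap.sub_apply, LinearMap.comp_apply, ← Module.End.mul_apply, hzJ] at e
    simp [← he, hρe] at e
  obtain ⟨μ, hμ0, hμ1⟩ : ∃ μ : F, μ ≠ 0 ∧ 1 + μ ≠ 0 := by
    obtain ⟨μ, -, hμ⟩ := Finset.exists_mem_notMem_of_card_lt_card (s := ({0, -1} : Finset F))
      (t := Finset.univ) (lt_of_le_of_lt Finset.card_le_two (by rw [Finset.card_univ]; omega))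
    simp only [Finset.mem_insert, Finset.mem_singleton, not_or] at hμ
    exact ⟨μ, hμ.1, fun h => hμ.2 (by linear_combination h)⟩
  let Pd := LinearMap.transvection (μ • ρ) e₀
  let Pd' := LinearMap.transvection ((-μ / (1 + μ)) • ρ) e₀
  have hPd : ∀ x, Pd (Pd' x) = x := fun x => by
    simp only [Pd, Pd', LinearMap.transvection.apply, LinearMap.smul_apply, map_add, map_smul, hρe, smul_eq_mul,
      mul_one]
    match_scalars
    · rfl
    · field_simp; ring
  have hPd' : ∀ x, Pd' (Pd x) = x := fun x => by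
    simp only [Pd, Pd', LinearMap.transvection.apply, LinearMap.smul_apply, map_add, map_smul, hρe, smul_eq_mul,
      mul_one]
    match_scalars
    · rfl
    · field_simp; ring
  let P : V ≃ₗ[F] V := LinearEquiv.ofLinearMap Pd Pd' (LinearMap.ext hPd) (LinearMap.ext hPd')
  have hprod : (1 + Nm) * P.conj z₀ = LinearMap.transvection (μ • r₀) e₀ := by
    refine LinearMap.ext fun x => ?_
    show (1 + Nm) (Pd (z₀ (Pd' x))) = _
    have hJx : (1 + Nm) (z₀ x) = x := by rw [← Module.End.mul_apply, hJz]; rfl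
    have hNe : Nm e₀ = 0 := by simpa using hJe
    simp only [LinearMap.add_apply, Module.End.one_apply] at hJx
    simp only [Pd, Pd', LinearMap.transvection.apply, LinearMap.smul_apply, map_add, map_smul, hze, hρe, hNe,
      r₀, LinearMap.sub_apply, LinearMap.comp_apply, LinearMap.add_apply, Module.End.one_apply, smul_eq_mul,
      add_zero, mul_one]
    rw [show Nm (z₀ x) = x - z₀ x from eq_sub_of_add_eq' hJx]
    match_scalars <;> field_simp <;> ring
  have hr₀e : (μ • r₀) e₀ = 0 := by simp [r₀, hze]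
  obtain ⟨s, c, i, j, hij, hci, hcj⟩ := exists_basis_of_pairing_eq_zero hr₀e (smul_ne_zero hμ0 hr₀)
    (bV.ne_zero _)
  obtain ⟨s', c', i', j', hij', hci', hcj'⟩ := exists_basis_of_pairing_eq_zero hra hr0 ha0
  let e1 : s ≃ s' := c.indexEquiv c'
  let e2 : s ≃ s' := e1.trans (Equiv.swap (e1 i) i')
  let σ : s ≃ s' := e2.trans (Equiv.swap (e2 j) j')
  have hσi : σ i = i' := by
    have h1 : e2 i = i' := by simp [e2]
    show Equiv.swap (e2 j) j' (e2 i) = i'
    rw [h1]
    exact Equiv.swap_apply_of_ne_of_ne (fun h => hij (e2.injective (h1.trans h))) hij'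
  have hσj : σ j = j' := by simp [σ]
  let E := c.equiv c' σ
  refine ⟨E.conj (1 + Nm), E.conj (P.conj z₀), ?_, hJ.conj E, (hz₀.conj P).conj E⟩
  have hmul : E.conj (1 + Nm) * E.conj (P.conj z₀) = E.conj ((1 + Nm) * P.conj z₀) :=
    (map_mul (E.conjAlgEquiv F) (1 + Nm) (P.conj z₀)).symm
  rw [hmul, hprod, hKr]
  refine c'.ext fun k => ?_
  obtain ⟨l, rfl⟩ := σ.surjective k
  have e : E.symm (c' (σ l)) = c l := by
    rw [LinearEquiv.symm_apply_eq]; simp [E]
  rw [LinearEquiv.conj_apply_apply, e, LinearMap.transvection.apply, LinearMap.transvection.apply, map_add,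
    map_smul, hcj, hcj', hci, hci']
  simp [E, hσi, ← hσj, Finsupp.single_apply, σ.injective.eq_iff]

end CfsgLib.Known.ClassSquare
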