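import Cfsg.Agent.Lib.Known.ClassSquare.Common

/-!
# The special linear groups are squares of a class modulo the centre
-/

set_option autoImplicit false

namespace CfsgLib.Known.ClassSquare.SL

open Matrix
open scoped commutatorElement

universe u

variable {F : Type u} [Field F]

section Index

variable {ι : Type} [Fintype ι] [DecidableEq ι]

local notation "T" => Matrix.SpecialLinearGroup.transvection

theorem tv_add {a b : ι} (h : a ≠ b) (s t : F) : T h s * T h t = T h (s + t) :=
  Subtype.ext (Matrix.transvection_mul_transvection_same a b h s t)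

theorem w_val {a b : ι} (h : a ≠ b) {c : F} (hc : c ≠ 0) :
    (T h c * T h.symm (-c⁻¹) * T h c).1 =
      1 + Matrix.single a b c + Matrix.single b a (-c⁻¹) - Matrix.single a a 1 - Matrix.single b b 1 := by
  show Matrix.transvection a b c * Matrix.transvection b a (-c⁻¹) * Matrix.transvection a b c = _
  simp only [Matrix.transvection, mul_add, add_mul, mul_one, one_mul, Matrix.single_mul_single_same,
    Matrix.single_mul_single_of_ne, ne_eq, h, h.symm, not_false_eq_true, add_zero, zero_add]
  have e1 : c * -c⁻¹ = (-1 : F) := by field_simp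
  have e2 : -c⁻¹ * c = (-1 : F) := by field_simp
  have e3 : c * -c⁻¹ * c = -c := by rw [e1]; ring
  rw [e1, e2]
  ext r s
  simp only [Matrix.add_apply, Matrix.sub_apply, Matrix.single_apply, Matrix.one_apply]
  split_ifs <;> grind

theorem w_val_neg {a b : ι} (h : a ≠ b) :
    (T h (-1 : F) * T h.symm (-(-1 : F)⁻¹) * T h (-1)).1 =
      1 + Matrix.single a b (-1 : F) + Matrix.single b a 1 - Matrix.single a a 1 - Matrix.single b b 1 := by
  rw [w_val h (neg_ne_zero.2 one_ne_zero)]
  simp [inv_neg]

theorem t_val {a b : ι} (h : a ≠ b) {c : F} (hc : c ≠ 0) :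
    (T h c * T h.symm (-c⁻¹) * T h c * (T h (-1 : F) * T h.symm (-(-1 : F)⁻¹) * T h (-1))).1 =
      Matrix.diagonal fun r => if r = a then c else if r = b then c⁻¹ else 1 := by
  rw [Matrix.SpecialLinearGroup.coe_mul, w_val h hc, w_val_neg h]
  simp only [mul_add, add_mul, mul_sub, sub_mul, mul_one, one_mul, Matrix.single_mul_single_same,
    Matrix.single_mul_single_of_ne, ne_eq, h, h.symm, not_false_eq_true, add_zero, sub_zero, zero_add, zero_sub]
  ext r s
  simp only [Matrix.add_apply, Matrix.sub_apply, Matrix.single_apply, Matrix.one_apply, Matrix.diagonal_apply,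
    Matrix.neg_apply]
  split_ifs <;> grind

theorem w_conj_self {a b : ι} (h : a ≠ b) {c : F} (hc : c ≠ 0) (t : F) :
    T h c * T h.symm (-c⁻¹) * T h c * T h t * (T h c * T h.symm (-c⁻¹) * T h c)⁻¹ = T h.symm (-t / c ^ 2) := by
  rw [mul_inv_eq_iff_eq_mul]
  refine Subtype.ext ?_
  rw [Matrix.SpecialLinearGroup.coe_mul, Matrix.SpecialLinearGroup.coe_mul (T h.symm _), w_val h hc]
  show _ * Matrix.transvection a b t = Matrix.transvection b a _ * _
  simp only [Matrix.transvection, mul_add, add_mul, mul_sub, sub_mul, mul_one, one_mul,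
    Matrix.single_mul_single_same, Matrix.single_mul_single_of_ne, ne_eq, h, h.symm, not_false_eq_true,
    add_zero, sub_zero, zero_add, zero_sub]
  ext r s
  simp only [Matrix.add_apply, Matrix.sub_apply, Matrix.single_apply, Matrix.one_apply, Matrix.neg_apply]
  split_ifs <;> grind

theorem w_conj_other {a b : ι} (h : a ≠ b) {c : F} (hc : c ≠ 0) {p q p' q' : ι} (hpq : p ≠ q) (hpq' : p' ≠ q')
    (t t' : F)
    (e : (1 + Matrix.single a b c + Matrix.single b a (-c⁻¹) - Matrix.single a a 1 - Matrix.single b b 1) *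
        Matrix.single p q t = Matrix.single p' q' t' *
      (1 + Matrix.single a b c + Matrix.single b a (-c⁻¹) - Matrix.single a a 1 - Matrix.single b b 1)) :
    T h c * T h.symm (-c⁻¹) * T h c * T hpq t * (T h c * T h.symm (-c⁻¹) * T h c)⁻¹ = T hpq' t' := by
  rw [mul_inv_eq_iff_eq_mul]
  refine Subtype.ext ?_
  rw [Matrix.SpecialLinearGroup.coe_mul, Matrix.SpecialLinearGroup.coe_mul (T hpq' _), w_val h hc]
  show _ * Matrix.transvection p q t = Matrix.transvection p' q' t' * _
  rw [Matrix.transvection, Matrix.transvection, mul_add, add_mul, mul_one, one_mul, e]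

theorem w_conj_1 {a b d : ι} (h : a ≠ b) (had : a ≠ d) (hbd : b ≠ d) {c : F} (hc : c ≠ 0) (t : F) :
    T h c * T h.symm (-c⁻¹) * T h c * T hbd t * (T h c * T h.symm (-c⁻¹) * T h c)⁻¹ = T had (c * t) := by
  refine w_conj_other h hc hbd had t _ ?_
  simp only [mul_add, add_mul, mul_sub, sub_mul, mul_one, one_mul, Matrix.single_mul_single_same,
    Matrix.single_mul_single_of_ne, ne_eq, h, h.symm, had, had.symm, hbd, hbd.symm, not_false_eq_true,
    add_zero, sub_zero]
  abel

theorem w_conj_2 {a b d : ι} (h : a ≠ b) (hda : d ≠ a) (hdb : d ≠ b) {c : F} (hc : c ≠ 0) (t : F) :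
    T h c * T h.symm (-c⁻¹) * T h c * T hda t * (T h c * T h.symm (-c⁻¹) * T h c)⁻¹ = T hdb (-c * t) := by
  refine w_conj_other h hc hda hdb t _ ?_
  simp only [mul_add, add_mul, mul_sub, sub_mul, mul_one, one_mul, Matrix.single_mul_single_same,
    Matrix.single_mul_single_of_ne, ne_eq, h, h.symm, hda, hda.symm, hdb, hdb.symm, not_false_eq_true,
    add_zero, sub_zero]
  rw [show -c * t * -c⁻¹ = t by field_simp]
  abel

theorem w_conj_3 {a b d : ι} (h : a ≠ b) (had : a ≠ d) (hbd : b ≠ d) {c : F} (hc : c ≠ 0) (t : F) :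
    T h c * T h.symm (-c⁻¹) * T h c * T had t * (T h c * T h.symm (-c⁻¹) * T h c)⁻¹ = T hbd (-c⁻¹ * t) := by
  refine w_conj_other h hc had hbd t _ ?_
  simp only [mul_add, add_mul, mul_sub, sub_mul, mul_one, one_mul, Matrix.single_mul_single_same,
    Matrix.single_mul_single_of_ne, ne_eq, h, h.symm, had, had.symm, hbd, hbd.symm, not_false_eq_true,
    add_zero, sub_zero]
  abel

theorem w_conj_4 {a b d : ι} (h : a ≠ b) (hda : d ≠ a) (hdb : d ≠ b) {c : F} (hc : c ≠ 0) (t : F) :
    T h c * T h.symm (-c⁻¹) * T h c * T hdb t * (T h c * T h.symm (-c⁻¹) * T h c)⁻¹ = T hda (c⁻¹ * t) := by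
  refine w_conj_other h hc hdb hda t _ ?_
  simp only [mul_add, add_mul, mul_sub, sub_mul, mul_one, one_mul, Matrix.single_mul_single_same,
    Matrix.single_mul_single_of_ne, ne_eq, h, h.symm, hda, hda.symm, hdb, hdb.symm, not_false_eq_true,
    add_zero, sub_zero]
  rw [show c⁻¹ * t * c = t by field_simp]
  abel

theorem w_conj_far {a b p q : ι} (h : a ≠ b) (hpq : p ≠ q) (h1 : p ≠ a) (h2 : p ≠ b) (h3 : q ≠ a) (h4 : q ≠ b)
    {c : F} (hc : c ≠ 0) (t : F) :
    T h c * T h.symm (-c⁻¹) * T h c * T hpq t * (T h c * T h.symm (-c⁻¹) * T h c)⁻¹ = T hpq t := by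
  refine w_conj_other h hc hpq hpq t _ ?_
  simp only [mul_add, add_mul, mul_sub, sub_mul, mul_one, one_mul,
    Matrix.single_mul_single_of_ne, ne_eq, h1, h2, h3, h4, h1.symm, h2.symm, h3.symm, h4.symm,
    not_false_eq_true, add_zero, sub_zero]

theorem tv_commute {a b p q : ι} (h : a ≠ b) (hpq : p ≠ q) (h1 : b ≠ p) (h2 : q ≠ a) (s t : F) :
    Commute (T h s) (T hpq t) := by
  refine Subtype.ext ?_
  show Matrix.transvection a b s * Matrix.transvection p q t = Matrix.transvection p q t * Matrix.transvection a b s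
  simp only [Matrix.transvection, mul_add, add_mul, mul_one, one_mul, Matrix.single_mul_single_of_ne, ne_eq, h1,
    h2, not_false_eq_true, add_zero]
  abel

end Index

/-- simple root elements -/
def xp (n : ℕ) (i : Fin n) (t : F) : Matrix.SpecialLinearGroup (Fin (n + 1)) F :=
  Matrix.SpecialLinearGroup.transvection (Fin.castSucc_lt_succ (i := i)).ne t

/-- opposite simple root elements -/
def xn (n : ℕ) (i : Fin n) (t : F) : Matrix.SpecialLinearGroup (Fin (n + 1)) F :=
  Matrix.SpecialLinearGroup.transvection (Fin.castSucc_lt_succ (i := i)).ne' t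

theorem upper_mem (n : ℕ) (a b : Fin (n + 1)) (h : a < b) (t : F) :
    Matrix.SpecialLinearGroup.transvection h.ne t ∈ genOf (xp (F := F) n) := by
  suffices H : ∀ g : ℕ, ∀ a b : Fin (n + 1), (b : ℕ) = a + (g + 1) → ∀ (hab : a ≠ b) (t : F),
      Matrix.SpecialLinearGroup.transvection hab t ∈ genOf (xp (F := F) n) from
    H ((b : ℕ) - a - 1) a b (by have : (a : ℕ) < b := h; omega) h.ne t
  intro g
  induction g with
  | zero =>
    intro a b e hab t
    obtain ⟨i, rfl, rfl⟩ : ∃ i : Fin n, a = i.castSucc ∧ b = i.succ :=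
      ⟨⟨a, by have := b.2; omega⟩, Fin.ext rfl, Fin.ext (by simp [e])⟩
    exact genOf_mem (xp n) i t
  | succ g ih =>
    intro a b e hab t
    let m : Fin (n + 1) := ⟨(a : ℕ) + 1, by have := b.2; omega⟩
    have ham : a ≠ m := fun e' => by have := congrArg Fin.val e'; simp [m] at this
    have hmb : m ≠ b := fun e' => by have := congrArg Fin.val e'; simp [m] at this; omega
    obtain ⟨i, hi, hi'⟩ : ∃ i : Fin n, a = i.castSucc ∧ m = i.succ :=
      ⟨⟨a, by have := b.2; omega⟩, Fin.ext rfl, Fin.ext rfl⟩
    have m1 : ∀ s, Matrix.SpecialLinearGroup.transvection ham s ∈ genOf (xp (F := F) n) := fun s => by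
      subst hi; simp only [hi'] at *; exact genOf_mem (xp n) i s
    have m2 := ih m b (by simp [m]; omega) hmb 1
    rw [← CfsgLib.Classical.transvection_eq_commutator hab ham hmb t, commutatorElement_def]
    exact mul_mem (mul_mem (mul_mem (m1 t) m2) (inv_mem (m1 t))) (inv_mem m2)

theorem lower_mem (n : ℕ) (a b : Fin (n + 1)) (h : b < a) (t : F) :
    Matrix.SpecialLinearGroup.transvection h.ne' t ∈ genOf (xn (F := F) n) := by
  suffices H : ∀ g : ℕ, ∀ a b : Fin (n + 1), (a : ℕ) = b + (g + 1) → ∀ (hab : a ≠ b) (t : F),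
      Matrix.SpecialLinearGroup.transvection hab t ∈ genOf (xn (F := F) n) from
    H ((a : ℕ) - b - 1) a b (by have : (b : ℕ) < a := h; omega) h.ne' t
  intro g
  induction g with
  | zero =>
    intro a b e hab t
    obtain ⟨i, rfl, rfl⟩ : ∃ i : Fin n, b = i.castSucc ∧ a = i.succ :=
      ⟨⟨b, by have := a.2; omega⟩, Fin.ext rfl, Fin.ext (by simp [e])⟩
    exact genOf_mem (xn n) i t
  | succ g ih =>
    intro a b e hab t
    let m : Fin (n + 1) := ⟨(b : ℕ) + 1, by have := a.2; omega⟩
    have ham : a ≠ m := fun e' => by have := congrArg Fin.val e'; simp [m] at this; omega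
    have hmb : m ≠ b := fun e' => by have := congrArg Fin.val e'; simp [m] at this
    obtain ⟨i, hi, hi'⟩ : ∃ i : Fin n, b = i.castSucc ∧ m = i.succ :=
      ⟨⟨b, by have := a.2; omega⟩, Fin.ext rfl, Fin.ext rfl⟩
    have m2 : Matrix.SpecialLinearGroup.transvection hmb (1 : F) ∈ genOf (xn (F := F) n) := by
      subst hi; simp only [hi'] at *; exact genOf_mem (xn n) i 1
    have m1 := ih a m (by simp [m]; omega) ham t
    rw [← CfsgLib.Classical.transvection_eq_commutator hab ham hmb t, commutatorElement_def]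
    exact mul_mem (mul_mem (mul_mem m1 m2) (inv_mem m1)) (inv_mem m2)

theorem connected (n : ℕ) (S : Finset (Fin n)) (hS : S.Nonempty)
    (h : ∀ p ∈ S, ∀ k : Fin n, ((if p = k then (2 : ℤ) else 0) - (if (p : ℕ) = k + 1 then 1 else 0) -
      (if (k : ℕ) = p + 1 then 1 else 0)) ≠ 0 → k ∈ S) : S = Finset.univ := by
  obtain ⟨p, hp⟩ := hS
  have up : ∀ g : ℕ, ∀ k : Fin n, (k : ℕ) = p + g → k ∈ S := by
    intro g
    induction g with
    | zero => intro k e; rwa [show k = p from Fin.ext (by omega)]
    | succ g ih =>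
      intro k e
      refine h ⟨p + g, by omega⟩ (ih _ rfl) k ?_
      rw [if_neg (fun e' => by have := congrArg Fin.val e'; simp at this; omega), if_neg (by simp; omega),
        if_pos (by simp; omega)]
      norm_num
  have down : ∀ g : ℕ, ∀ k : Fin n, (k : ℕ) + g = p → k ∈ S := by
    intro g
    induction g with
    | zero => intro k e; rwa [show k = p from Fin.ext (by omega)]
    | succ g ih =>
      intro k e
      refine h ⟨k + 1, by omega⟩ (ih _ (by simp; omega)) k ?_
      rw [if_neg (fun e' => by have := congrArg Fin.val e'; simp at this), if_pos rfl,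
        if_neg (by simp; omega)]
      norm_num
  refine Finset.eq_univ_of_forall fun k => ?_
  rcases le_total (p : ℕ) k with e | e
  · exact up ((k : ℕ) - p) k (by omega)
  · exact down ((p : ℕ) - k) k (by omega)

variable [Finite F]

/-- the matrix model of `SL` -/
noncomputable abbrev pre (n : ℕ) : Pre F (Matrix.SpecialLinearGroup (Fin (n + 1)) F) where
  I := Fin n
  ι := Fin (n + 1)
  ρ := { toFun := fun g => g.1, map_one' := rfl, map_mul' := fun _ _ => rfl }
  ρ_inj := Subtype.val_injective
  A i j := (if i = j then 2 else 0) - (if (i : ℕ) = j + 1 then 1 else 0) - (if (j : ℕ) = i + 1 then 1 else 0)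
  xP := xp n
  xN := xn n
  w i r := (if r = i.castSucc then 1 else 0) - (if r = i.succ then 1 else 0)
  hgt r := -(r : ℤ)
  ea i := i.castSucc
  eb i := i.succ
  ν _ := 1
  n0 := (exists_flip (F := F) (k := n)).choose
  A_diag i := by simp
  A_sum i := by
    calc _ ≤ ∑ k ∈ Finset.univ.erase i, ((if (i : ℕ) = k + 1 then 1 else 0) +
          (if (k : ℕ) = i + 1 then 1 else 0) : ℕ) := by
          refine Finset.sum_le_sum fun k hk => ?_
          rw [if_neg (Finset.ne_of_mem_erase hk).symm]
          split_ifs <;> simp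
      _ ≤ 1 + 1 := by
          rw [Finset.sum_add_distrib]
          refine Nat.add_le_add ?_ ?_ <;>
          · rw [Finset.sum_boole]
            simp only [Nat.cast_id]
            refine Finset.card_le_one.2 fun x hx y hy => ?_
            simp only [Finset.mem_filter] at hx hy
            exact Fin.ext (by omega)
      _ ≤ 3 := by norm_num
  connected := connected n
  xP_add i s t := tv_add _ s t
  xN_add i s t := tv_add _ s t
  nP i c hc t := w_conj_self _ hc t
  h_diag i c hc := by
    show (tEl (xp n) (xn n) i c).1 = _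
    refine (t_val (Fin.castSucc_lt_succ (i := i)).ne hc).trans ?_
    congr 1
    funext r
    have := (Fin.castSucc_lt_succ (i := i)).ne
    by_cases h1 : r = i.castSucc
    · subst h1; simp [this]
    · by_cases h2 : r = i.succ
      · subst h2; simp [h1, _root_.zpow_neg]
      · simp [h1, h2]
  torP i j c t hc := by
    refine Subtype.ext ?_
    rw [Matrix.SpecialLinearGroup.coe_mul, Matrix.SpecialLinearGroup.coe_mul]
    rw [show (tEl (xp n) (xn n) i c).1 = _ from t_val (Fin.castSucc_lt_succ (i := i)).ne hc]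
    refine diagonal_transvection _ _ _ ?_
    simp only [Fin.ext_iff, Fin.val_castSucc, Fin.val_succ]
    split_ifs <;> first | (exfalso; omega) | (norm_num [_root_.zpow_neg, zpow_ofNat] <;> field_simp)
  torN i j c t hc := by
    refine Subtype.ext ?_
    rw [Matrix.SpecialLinearGroup.coe_mul, Matrix.SpecialLinearGroup.coe_mul]
    rw [show (tEl (xp n) (xn n) i c).1 = _ from t_val (Fin.castSucc_lt_succ (i := i)).ne hc]
    refine diagonal_transvection _ _ _ ?_
    simp only [Fin.ext_iff, Fin.val_castSucc, Fin.val_succ]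
    split_ifs <;> first | (exfalso; omega) | (norm_num [_root_.zpow_neg, zpow_ofNat] <;> field_simp)
  comm i j hij s t := by
    have h' : (i : ℕ) ≠ j := fun e => hij (Fin.ext e)
    exact tv_commute _ _ (fun e => by simpa [h'] using congrArg Fin.val e)
      (fun e => by simpa [h'.symm] using congrArg Fin.val e) s t
  nconjP i j hji c t hc := by
    have h' : (j : ℕ) ≠ i := fun e => hji (Fin.ext e)
    show xp n i c * xn n i (-c⁻¹) * xp n i c * xp n j t * (xp n i c * xn n i (-c⁻¹) * xp n i c)⁻¹ ∈ _
    by_cases h1 : (j : ℕ) = i + 1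
    · have e : j.castSucc = i.succ := Fin.ext (by simp [h1])
      have hbd : i.succ ≠ j.succ := fun e' => by simpa [h'.symm] using congrArg Fin.val e'
      have had : i.castSucc < j.succ := by show (i : ℕ) < j + 1; omega
      rw [show xp n j t = Matrix.SpecialLinearGroup.transvection hbd t by simp [xp, e]]
      unfold xp xn
      rw [show _ = _ from w_conj_1 (Fin.castSucc_lt_succ (i := i)).ne had.ne hbd hc t]
      exact upper_mem n _ _ had _
    · by_cases h2 : (i : ℕ) = j + 1
      · have e : j.succ = i.castSucc := Fin.ext (by simp [h2])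
        have hda : j.castSucc ≠ i.castSucc := fun e' => by simpa [h'] using congrArg Fin.val e'
        have hdb : j.castSucc < i.succ := by show (j : ℕ) < i + 1; omega
        rw [show xp n j t = Matrix.SpecialLinearGroup.transvection hda t by simp [xp, e]]
        unfold xp xn
        rw [show _ = _ from w_conj_2 (Fin.castSucc_lt_succ (i := i)).ne hda hdb.ne hc t]
        exact upper_mem n _ _ hdb _
      · unfold xp xn
        rw [show _ = _ from w_conj_far (Fin.castSucc_lt_succ (i := i)).ne (Fin.castSucc_lt_succ (i := j)).ne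
          (fun e => by simpa [h'] using congrArg Fin.val e) (fun e => by simpa [h1] using congrArg Fin.val e)
          (fun e => by have := congrArg Fin.val e; simp at this; omega)
          (fun e => by simpa [h'] using congrArg Fin.val e) hc t]
        exact genOf_mem (xp n) j t
  nconjN i j hji c t hc := by
    have h' : (j : ℕ) ≠ i := fun e => hji (Fin.ext e)
    show xp n i c * xn n i (-c⁻¹) * xp n i c * xn n j t * (xp n i c * xn n i (-c⁻¹) * xp n i c)⁻¹ ∈ _
    by_cases h1 : (j : ℕ) = i + 1
    · have e : j.castSucc = i.succ := Fin.ext (by simp [h1])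
      have hdb : j.succ ≠ i.succ := fun e' => by simpa [h'] using congrArg Fin.val e'
      have hda : i.castSucc < j.succ := by show (i : ℕ) < j + 1; omega
      rw [show xn n j t = Matrix.SpecialLinearGroup.transvection hdb t by simp [xn, e]]
      unfold xp xn
      rw [show _ = _ from w_conj_4 (Fin.castSucc_lt_succ (i := i)).ne hda.ne' hdb hc t]
      exact lower_mem n _ _ hda _
    · by_cases h2 : (i : ℕ) = j + 1
      · have e : j.succ = i.castSucc := Fin.ext (by simp [h2])
        have had : i.castSucc ≠ j.castSucc := fun e' => by simpa [h'.symm] using congrArg Fin.val e'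
        have hbd : j.castSucc < i.succ := by show (j : ℕ) < i + 1; omega
        rw [show xn n j t = Matrix.SpecialLinearGroup.transvection had t by simp [xn, e]]
        unfold xp xn
        rw [show _ = _ from w_conj_3 (Fin.castSucc_lt_succ (i := i)).ne had hbd.ne' hc t]
        exact lower_mem n _ _ hbd _
      · unfold xp xn
        rw [show _ = _ from w_conj_far (Fin.castSucc_lt_succ (i := i)).ne (Fin.castSucc_lt_succ (i := j)).ne'
          (fun e => by have := congrArg Fin.val e; simp at this; omega)
          (fun e => by simpa [h'] using congrArg Fin.val e)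
          (fun e => by simpa [h'] using congrArg Fin.val e)
          (fun e => by simpa [h1] using congrArg Fin.val e) hc t]
        exact genOf_mem (xn n) j t
  gen := by
    rcases n with _ | n
    · refine eq_top_iff.2 fun g _ => ?_
      have e : g = 1 := Subtype.ext (Matrix.ext fun r c => by
        have h := g.2
        rw [Matrix.det_fin_one] at h
        rw [Fin.eq_zero r, Fin.eq_zero c, Matrix.SpecialLinearGroup.coe_one, Matrix.one_apply_eq]
        exact h)
      rw [e]
      exact one_mem _
    refine CfsgLib.Classical.closure_transvection_eq_top _ fun a b hab c => ?_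
    rcases lt_or_gt_of_ne hab with h | h
    · exact Subgroup.closure_mono Set.subset_union_left (upper_mem (n + 1) a b h c)
    · exact Subgroup.closure_mono Set.subset_union_right (lower_mem (n + 1) a b h c)
  upP i t r c h := by
    have hrc : (c : ℕ) ≤ r := by omega
    show Matrix.transvection i.castSucc i.succ t r c = _
    simp only [Matrix.transvection, Matrix.add_apply, Matrix.single_apply]
    rw [if_neg]
    · simp
    · rintro ⟨rfl, rfl⟩; simp at hrc
  loN i t r c h := by
    have hrc : (r : ℕ) ≤ c := by omega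
    show Matrix.transvection i.succ i.castSucc t r c = _
    simp only [Matrix.transvection, Matrix.add_apply, Matrix.single_apply]
    rw [if_neg]
    · simp
    · rintro ⟨rfl, rfl⟩; simp at hrc
  entP i j t := by
    show Matrix.transvection j.castSucc j.succ t i.castSucc i.succ = _
    simp only [Matrix.transvection, Matrix.add_apply, Matrix.single_apply, Matrix.one_apply,
      if_neg (Fin.castSucc_lt_succ (i := i)).ne, zero_add, Fin.castSucc_inj, Fin.succ_inj]
    by_cases h : i = j
    · subst h; simp
    · simp [h, Ne.symm h]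
  entN i j t := by
    show Matrix.transvection j.succ j.castSucc t i.succ i.castSucc = _
    simp only [Matrix.transvection, Matrix.add_apply, Matrix.single_apply, Matrix.one_apply,
      if_neg (Fin.castSucc_lt_succ (i := i)).ne', zero_add, Fin.castSucc_inj, Fin.succ_inj, one_mul]
    by_cases h : i = j
    · subst h; simp
    · simp [h, Ne.symm h]
  ν_ne _ := one_ne_zero
  e_lt i := by simp
  gap i l h := by simp at h; omega
  n0_xP i t := by
    obtain ⟨t', e⟩ := (exists_flip (F := F) (k := n)).choose_spec _ _ (Fin.castSucc_lt_succ (i := i)).ne t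
    rw [show xp n i t = Matrix.SpecialLinearGroup.transvection _ t from rfl, e]
    exact lower_mem n _ _ (Fin.rev_lt_rev.2 Fin.castSucc_lt_succ) t'
  n0_xN i t := by
    refine conj_inv_mem (A := genOf (xp (F := F) n)) (B := genOf (xn (F := F) n))
      (fun x hx => conj_genOf_mem (fun j s => ?_) hx) (fun x hx => conj_genOf_mem (fun j s => ?_) hx)
      (genOf_mem (xn n) i t)
    · obtain ⟨t', e⟩ := (exists_flip (F := F) (k := n)).choose_spec _ _ (Fin.castSucc_lt_succ (i := j)).ne s
      rw [show xp n j s = Matrix.SpecialLinearGroup.transvection _ s from rfl, e]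
      exact lower_mem n _ _ (Fin.rev_lt_rev.2 Fin.castSucc_lt_succ) t'
    · obtain ⟨t', e⟩ := (exists_flip (F := F) (k := n)).choose_spec _ _ (Fin.castSucc_lt_succ (i := j)).ne' s
      rw [show xn n j s = Matrix.SpecialLinearGroup.transvection _ s from rfl, e]
      exact upper_mem n _ _ (Fin.rev_lt_rev.2 Fin.castSucc_lt_succ) t'

/-- the weight isolating the middle block -/
def wt (n : ℕ) (r : Fin (n + 1)) : ℤ := (if r = 0 then 1 else 0) - (if r = Fin.last n then 1 else 0)

omit [Finite F] in
theorem wt_sum (n : ℕ) (r : Fin (n + 1)) :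
    ∑ i : Fin n, (1 : ℤ) * ((if r = i.castSucc then 1 else 0) - (if r = i.succ then 1 else 0)) = wt n r := by
  simp only [one_mul, Finset.sum_sub_distrib, wt]
  have e1 : (∑ i : Fin n, if r = i.castSucc then (1 : ℤ) else 0) = 1 - if r = Fin.last n then 1 else 0 := by
    rw [eq_sub_iff_add_eq, ← Fin.sum_univ_castSucc (f := fun x : Fin (n + 1) => if r = x then (1 : ℤ) else 0)]
    simp
  have e2 : (∑ i : Fin n, if r = i.succ then (1 : ℤ) else 0) = 1 - if r = 0 then 1 else 0 := by
    rw [eq_sub_iff_add_eq, add_comm, ← Fin.sum_univ_succ (f := fun x : Fin (n + 1) => if r = x then (1 : ℤ) else 0)]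
    simp
  rw [e1, e2]; ring

omit [Finite F] in
theorem wt_drop (n : ℕ) (i : Fin n) (h : (i : ℕ) = 0 ∨ (i : ℕ) + 1 = n) :
    wt n i.succ < wt n i.castSucc := by
  have := i.2
  unfold wt
  rw [if_neg (show i.succ ≠ 0 from Fin.succ_ne_zero i),
    if_neg (show i.castSucc ≠ Fin.last n from fun e => by have := congrArg Fin.val e; simp at this; omega)]
  simp only [Fin.ext_iff, Fin.val_castSucc, Fin.val_succ, Fin.val_zero, Fin.val_last]
  split_ifs <;> omega

omit [Finite F] in
theorem wt_range (n : ℕ) (r : Fin (n + 1)) : -1 ≤ wt n r ∧ wt n r ≤ 1 := by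
  unfold wt; constructor <;> split_ifs <;> norm_num

theorem small (n : ℕ) (g : Matrix.SpecialLinearGroup (Fin (n + 1)) F)
    (h : ∀ r c, -8 < wt n r - wt n c → wt n r - wt n c < 8 → g.1 r c = (1 : Matrix _ _ F) r c) : g = 1 :=
  Subtype.ext (Matrix.ext fun r c => h r c (by linarith [wt_range n r, wt_range n c])
    (by linarith [wt_range n r, wt_range n c]))

/-- `e₀ ↦ ±e_last`, the other basis vectors fixed -/
def endSwap (n : ℕ) (h : (0 : Fin (n + 1)) ≠ Fin.last n) : Matrix.SpecialLinearGroup (Fin (n + 1)) F :=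
  Matrix.SpecialLinearGroup.transvection h 1 * Matrix.SpecialLinearGroup.transvection h.symm (-1⁻¹) *
    Matrix.SpecialLinearGroup.transvection h 1

omit [Finite F] in
theorem endSwap_val (n : ℕ) (h : (0 : Fin (n + 1)) ≠ Fin.last n) :
    (endSwap (F := F) n h).1 = 1 + Matrix.single 0 (Fin.last n) 1 + Matrix.single (Fin.last n) 0 (-1⁻¹) -
      Matrix.single 0 0 1 - Matrix.single (Fin.last n) (Fin.last n) 1 := w_val h one_ne_zero

omit [Finite F] in
theorem endSwap_wt (n : ℕ) (h : (0 : Fin (n + 1)) ≠ Fin.last n) (r c : Fin (n + 1))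
    (hne : (endSwap (F := F) n h).1 r c ≠ 0) : wt n r = -wt n c := by
  rw [endSwap_val] at hne
  simp only [Matrix.add_apply, Matrix.sub_apply, Matrix.single_apply, Matrix.one_apply] at hne
  unfold wt
  split_ifs at hne ⊢ <;> grind

/-- the middle coordinates -/
noncomputable def midEquiv (k : ℕ) : Fin (k + 2) ⊕ Fin 2 ≃ Fin (k + 3 + 1) :=
  Equiv.ofBijective
    (Sum.elim (fun a => a.succ.castSucc) fun b => if b = 0 then 0 else Fin.last (k + 3)) (by
    rw [Fintype.bijective_iff_injective_and_card]
    refine ⟨?_, by simp⟩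
    intro a b e
    rcases a with a | a <;> rcases b with b | b <;>
      simp only [Sum.elim_inl, Sum.elim_inr, Sum.inl.injEq, Sum.inr.injEq, reduceCtorEq] at e ⊢
    · exact Fin.succ_injective _ (Fin.castSucc_injective _ e)
    · have := congrArg Fin.val e; split_ifs at this <;> simp at this; omega
    · have := congrArg Fin.val e; split_ifs at this <;> simp at this; omega
    · fin_cases a <;> fin_cases b <;> simp [Fin.ext_iff] at e ⊢)

omit [Finite F] in
theorem midEquiv_inl (k : ℕ) (a : Fin (k + 2)) : midEquiv k (Sum.inl a) = a.succ.castSucc := rfl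

omit [Finite F] in
theorem wt_inl (k : ℕ) (a : Fin (k + 2)) : wt (k + 3) (midEquiv k (Sum.inl a)) = 0 := by
  rw [midEquiv_inl, wt, if_neg (fun e => Nat.succ_ne_zero _ (congrArg Fin.val e)),
    if_neg (fun e => by have : (a : ℕ) + 1 = k + 3 := congrArg Fin.val e; omega), sub_zero]

omit [Finite F] in
theorem wt_inr (k : ℕ) (b : Fin 2) : wt (k + 3) (midEquiv k (Sum.inr b)) = if b = 0 then 1 else -1 := by
  show wt (k + 3) (if b = 0 then 0 else Fin.last (k + 3)) = _
  fin_cases b <;> simp [wt, Fin.ext_iff]

/-- the Levi block of `SL` in dimension at least four -/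
noncomputable def block (k : ℕ) : Block (pre (F := F) (k + 3)) where
  B := Unit
  nb _ := k
  ι := (ClassicalSections.blockSL (midEquiv k)).comp
    (Pi.evalMonoidHom (fun _ : Unit => Matrix.SpecialLinearGroup (Fin (k + 2)) F) ())
  lam := wt (k + 3)
  m _ := 1
  hlam := wt_sum (k + 3)
  level x r c h := by
    obtain ⟨r, rfl⟩ := (midEquiv k).surjective r
    obtain ⟨c, rfl⟩ := (midEquiv k).surjective c
    show Matrix.reindex (midEquiv k) (midEquiv k) (Matrix.fromBlocks (x ()).1 0 0 1) _ _ = 0
    simp only [Matrix.reindex_apply, Matrix.submatrix_apply, Equiv.symm_apply_apply]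
    rcases r with r | r <;> rcases c with c | c
    · exact absurd (by rw [wt_inl, wt_inl]) h
    · rfl
    · rfl
    · exact Matrix.one_apply_ne fun e => h (by rw [e])
  split i := by
    by_cases h : 1 ≤ (i : ℕ) ∧ (i : ℕ) ≤ k + 1
    · left
      intro t
      let a : Fin (k + 1) := ⟨(i : ℕ) - 1, by omega⟩
      have e1 : midEquiv k (Sum.inl a.castSucc) = i.castSucc := by
        rw [midEquiv_inl]; exact Fin.ext (by simp [a]; omega)
      have e2 : midEquiv k (Sum.inl a.succ) = i.succ := by
        rw [midEquiv_inl]; exact Fin.ext (by simp [a]; omega)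
      refine ⟨⟨fun _ => Matrix.SpecialLinearGroup.transvection (Fin.castSucc_lt_succ (i := a)).ne t,
          fun _ => upperM_transvection Fin.castSucc_lt_succ t, Subtype.ext ?_⟩,
        ⟨fun _ => Matrix.SpecialLinearGroup.transvection (Fin.castSucc_lt_succ (i := a)).ne' t,
          fun _ => lowerM_transvection Fin.castSucc_lt_succ t, Subtype.ext ?_⟩⟩
      · show Matrix.transvection i.castSucc i.succ t = (ClassicalSections.blockSL (midEquiv k) _).1
        exact ((blockSL_transvection (midEquiv k) (Fin.castSucc_lt_succ (i := a)).ne t).trans (by rw [e1, e2])).symm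
      · show Matrix.transvection i.succ i.castSucc t = (ClassicalSections.blockSL (midEquiv k) _).1
        exact ((blockSL_transvection (midEquiv k) (Fin.castSucc_lt_succ (i := a)).ne' t).trans (by rw [e1, e2])).symm
    · right
      have hlt : wt (k + 3) i.succ < wt (k + 3) i.castSucc := wt_drop (k + 3) i (by
        have : (i : Fin (k + 3)).val < k + 3 := i.2
        omega)
      intro t
      constructor
      · intro r c hrc
        show Matrix.transvection i.castSucc i.succ t r c = _
        simp only [Matrix.transvection, Matrix.add_apply, Matrix.single_apply]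
        rw [if_neg]
        · simp
        · rintro ⟨rfl, rfl⟩; omega
      · intro r c hrc
        show Matrix.transvection i.succ i.castSucc t r c = _
        simp only [Matrix.transvection, Matrix.add_apply, Matrix.single_apply]
        rw [if_neg]
        · simp
        · rintro ⟨rfl, rfl⟩; simp at hrc; omega
  small g _ h := small (k + 3) g h
  diag c := by
    refine ⟨Pi.mulSingle (0 : Fin (k + 3)) (c ())⁻¹, fun x => ?_⟩
    rw [show (pre (F := F) (k + 3)).sys.hT (Pi.mulSingle (0 : Fin (k + 3)) (c ())⁻¹) =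
      (pre (F := F) (k + 3)).h (0 : Fin (k + 3)) ((c ())⁻¹ : Fˣ) from (pre (F := F) (k + 3)).sys.hT_single _ _]
    rw [mul_inv_eq_iff_eq_mul]
    refine Subtype.ext ?_
    rw [Matrix.SpecialLinearGroup.coe_mul, Matrix.SpecialLinearGroup.coe_mul]
    rw [show ((pre (F := F) (k + 3)).h (0 : Fin (k + 3)) (((c ())⁻¹ : Fˣ) : F)).1 = _ from
      t_val (Fin.castSucc_lt_succ (i := (0 : Fin (k + 3)))).ne (Units.ne_zero _)]
    ext r s
    rw [Matrix.diagonal_mul, Matrix.mul_diagonal]
    obtain ⟨r, rfl⟩ := (midEquiv k).surjective r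
    obtain ⟨s, rfl⟩ := (midEquiv k).surjective s
    have d1 : ∀ a : Fin (k + 2), (if midEquiv k (Sum.inl a) = (0 : Fin (k + 3)).castSucc then
        (((c ())⁻¹ : Fˣ) : F) else if midEquiv k (Sum.inl a) = (0 : Fin (k + 3)).succ then
        ((((c ())⁻¹ : Fˣ) : F))⁻¹ else 1) = Function.update (1 : Fin (k + 2) → F) 0 ((c ()) : F) a := by
      intro a
      rw [midEquiv_inl]
      by_cases ha : a = 0
      · subst ha
        rw [Function.update_self, if_neg, if_pos]
        · rw [Units.val_inv_eq_inv_val, inv_inv]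
        · exact Fin.ext rfl
        · exact fun e => Nat.succ_ne_zero _ (congrArg Fin.val e)
      · rw [Function.update_of_ne ha, if_neg (fun e => Nat.succ_ne_zero _ (congrArg Fin.val e)), if_neg
          (fun e => ha (Fin.ext (Nat.succ_injective (congrArg Fin.val e))))]
        rfl
    show _ * Matrix.reindex (midEquiv k) (midEquiv k) (Matrix.fromBlocks (x ()).1 0 0 1) _ _ =
      Matrix.reindex (midEquiv k) (midEquiv k) (Matrix.fromBlocks (Matrix.diagonal (Function.update 1 0 ((c ()) : F)) *
        (x ()).1 * Matrix.diagonal (Function.update 1 0 (((c ()) : F))⁻¹)) 0 0 1) _ _ * _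
    rcases r with r | r <;> rcases s with s | s <;>
      simp only [Matrix.reindex_apply, Matrix.submatrix_apply, Equiv.symm_apply_apply,
        Matrix.fromBlocks_apply₁₁, Matrix.fromBlocks_apply₁₂, Matrix.fromBlocks_apply₂₁,
        Matrix.fromBlocks_apply₂₂, Matrix.zero_apply, mul_zero, zero_mul]
    · rw [d1, d1, Matrix.mul_diagonal, Matrix.diagonal_mul]
      have h1 : Function.update (1 : Fin (k + 2) → F) 0 (((c ()) : F))⁻¹ s *
          Function.update (1 : Fin (k + 2) → F) 0 ((c ()) : F) s = 1 := by
        by_cases hs : s = 0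
        · subst hs; simp
        · simp [hs]
      rw [mul_assoc, h1, mul_one]
    · by_cases hrs : r = s
      · subst hrs; simp [mul_comm]
      · simp [Matrix.one_apply_ne hrs]
  invert := by
    have h : (0 : Fin (k + 3 + 1)) ≠ Fin.last (k + 3) := by simp [Fin.ext_iff]
    obtain ⟨x, hx⟩ := exists_regM (F := F) k
    refine ⟨endSwap (k + 3) h, endSwap_wt _ h, fun _ => x, fun _ => x, fun _ => hx, fun _ => hx, ?_⟩
    rw [mul_inv_eq_iff_eq_mul]
    refine Subtype.ext ?_
    rw [Matrix.SpecialLinearGroup.coe_mul, Matrix.SpecialLinearGroup.coe_mul, endSwap_val]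
    show _ * Matrix.reindex (midEquiv k) (midEquiv k) (Matrix.fromBlocks x.1 0 0 1) =
      Matrix.reindex (midEquiv k) (midEquiv k) (Matrix.fromBlocks x.1 0 0 1) * _
    have a0 : (0 : Fin (k + 3 + 1)) = midEquiv k (Sum.inr 0) := rfl
    have a1 : Fin.last (k + 3) = midEquiv k (Sum.inr 1) := rfl
    rw [a0, a1]
    have es : ∀ (i j : Fin (k + 2) ⊕ Fin 2) (v : F), Matrix.single (midEquiv k i) (midEquiv k j) v =
        Matrix.reindexAlgEquiv F F (midEquiv k) (Matrix.single i j v) := fun i j v => by
      rw [Matrix.reindexAlgEquiv_apply]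
      ext p q
      obtain ⟨p, rfl⟩ := (midEquiv k).surjective p
      obtain ⟨q, rfl⟩ := (midEquiv k).surjective q
      simp [Matrix.single_apply]
    rw [es, es, es, es, ← map_one (Matrix.reindexAlgEquiv F F (midEquiv k)), ← map_add, ← map_add, ← map_sub,
      ← map_sub, ← Matrix.reindexAlgEquiv_apply F F (midEquiv k) (Matrix.fromBlocks x.1 0 0 1), ← map_mul, ← map_mul]
    refine congrArg _ ?_
    rw [← Matrix.fromBlocks_toBlocks (1 + Matrix.single (Sum.inr (0 : Fin 2)) (Sum.inr 1) (1 : F) +
      Matrix.single (Sum.inr 1) (Sum.inr 0) (-1⁻¹) - Matrix.single (Sum.inr 0) (Sum.inr 0) 1 -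
      Matrix.single (Sum.inr (1 : Fin 2)) (Sum.inr 1) 1 :
      Matrix (Fin (k + 2) ⊕ Fin 2) (Fin (k + 2) ⊕ Fin 2) F)]
    have b11 : (1 + Matrix.single (Sum.inr (0 : Fin 2)) (Sum.inr 1) (1 : F) +
        Matrix.single (Sum.inr 1) (Sum.inr 0) (-1⁻¹) - Matrix.single (Sum.inr 0) (Sum.inr 0) 1 -
        Matrix.single (Sum.inr (1 : Fin 2)) (Sum.inr 1) 1 :
        Matrix (Fin (k + 2) ⊕ Fin 2) (Fin (k + 2) ⊕ Fin 2) F).toBlocks₁₁ = 1 := by
      ext p q; simp [Matrix.toBlocks₁₁, Matrix.single_apply, Matrix.one_apply]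
    have b12 : (1 + Matrix.single (Sum.inr (0 : Fin 2)) (Sum.inr 1) (1 : F) +
        Matrix.single (Sum.inr 1) (Sum.inr 0) (-1⁻¹) - Matrix.single (Sum.inr 0) (Sum.inr 0) 1 -
        Matrix.single (Sum.inr (1 : Fin 2)) (Sum.inr 1) 1 :
        Matrix (Fin (k + 2) ⊕ Fin 2) (Fin (k + 2) ⊕ Fin 2) F).toBlocks₁₂ = 0 := by
      ext p q; simp [Matrix.toBlocks₁₂, Matrix.single_apply]
    have b21 : (1 + Matrix.single (Sum.inr (0 : Fin 2)) (Sum.inr 1) (1 : F) +
        Matrix.single (Sum.inr 1) (Sum.inr 0) (-1⁻¹) - Matrix.single (Sum.inr 0) (Sum.inr 0) 1 -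
        Matrix.single (Sum.inr (1 : Fin 2)) (Sum.inr 1) 1 :
        Matrix (Fin (k + 2) ⊕ Fin 2) (Fin (k + 2) ⊕ Fin 2) F).toBlocks₂₁ = 0 := by
      ext p q; simp [Matrix.toBlocks₂₁, Matrix.single_apply]
    rw [b11, b12, b21, Matrix.fromBlocks_multiply, Matrix.fromBlocks_multiply]
    simp

/-- the weight in dimension at most three has no block -/
noncomputable def smallBlock (n : ℕ) (h1 : 1 ≤ n) (h2 : n ≤ 2) : Block (pre (F := F) n) where
  B := Empty
  nb := Empty.elim
  ι := 1
  lam := wt n
  m _ := 1
  hlam := wt_sum n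
  level x r c h := by
    show (1 : Matrix.SpecialLinearGroup (Fin (n + 1)) F).1 r c = 0
    exact Matrix.one_apply_ne fun e => h (by rw [e])
  split i := by
    right
    have hlt : wt n i.succ < wt n i.castSucc := wt_drop n i (by
      have : (i : Fin n).val < n := i.2
      omega)
    intro t
    constructor
    · intro r c hrc
      show Matrix.transvection i.castSucc i.succ t r c = _
      simp only [Matrix.transvection, Matrix.add_apply, Matrix.single_apply]
      rw [if_neg]
      · simp
      · rintro ⟨rfl, rfl⟩; omega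
    · intro r c hrc
      show Matrix.transvection i.succ i.castSucc t r c = _
      simp only [Matrix.transvection, Matrix.add_apply, Matrix.single_apply]
      rw [if_neg]
      · simp
      · rintro ⟨rfl, rfl⟩; simp at hrc; omega
  small g _ h := small n g h
  diag c := ⟨1, fun x => by simp⟩
  invert := by
    have h : (0 : Fin (n + 1)) ≠ Fin.last n := by simp [Fin.ext_iff]; omega
    exact ⟨endSwap n h, endSwap_wt _ h, 1, 1, fun b => b.elim, fun b => b.elim, by simp⟩

/-- every element of `PSL` is a product of two members of one class -/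
theorem square [Fintype F] (hF : 9 ≤ Fintype.card F) (n : ℕ) (hn : 2 ≤ n) :
    ∃ c : Matrix.ProjectiveSpecialLinearGroup (Fin n) F, ∀ g, ∃ x y : Matrix.ProjectiveSpecialLinearGroup (Fin n) F,
      g = (x * c * x⁻¹) * (y * c * y⁻¹) := by
  obtain ⟨n, rfl⟩ : ∃ m, n = m + 1 := ⟨n - 1, by omega⟩
  have hL : Nonempty (Block (pre (F := F) n)) := by
    by_cases h : n ≤ 2
    · exact ⟨smallBlock n (by omega) h⟩
    · obtain ⟨k, rfl⟩ : ∃ k, n = k + 3 := ⟨n - 3, by omega⟩
      exact ⟨block k⟩
  obtain ⟨L⟩ := hL
  exact L.square hF (QuotientGroup.mk' _) (QuotientGroup.mk'_surjective _)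
    fun z hz => (QuotientGroup.eq_one_iff z).2 hz

end CfsgLib.Known.ClassSquare.SL
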