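import Cfsg.Agent.Lib.Known.ClassSquare.Common
import Cfsg.Agent.Lib.Known.SympMult.Model

/-!
# The projective symplectic groups are squares of a class
-/

set_option autoImplicit false
set_option linter.unusedSectionVars false

namespace CfsgLib.Known.ClassSquare.Sp

open Matrix CfsgLib.Known.SympMult

universe u

variable {m : ℕ} {F : Type u} [Field F]

/-- simple root elements -/
def xp (k : Fin m) (t : F) : Matrix.symplecticGroup (Fin m) F := el (si k) (sj k) t

/-- opposite simple root elements -/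
def xn (k : Fin m) (t : F) : Matrix.symplecticGroup (Fin m) F := el (sj k) (si k) t

theorem nMat_mul_zero {a b p q : Idx m} (h1 : b ≠ p) (h2 : a.swap ≠ p) (h3 : b.swap ≠ q) (h4 : a ≠ q) :
    (nMat a b : Matrix (Idx m) (Idx m) F) * nMat p q = 0 := by
  have hs : ∀ x y : Idx m, x.swap = y ↔ x = y.swap := fun x y =>
    ⟨fun h => by rw [← h, Sum.swap_swap], fun h => by rw [h, Sum.swap_swap]⟩
  ext r c
  rw [Matrix.mul_apply, Matrix.zero_apply]
  refine Finset.sum_eq_zero fun l _ => ?_
  simp only [nMat]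
  by_cases hb : l = b
  · subst hb
    rw [if_neg (fun e : l = p ∧ c = q => h1 e.1),
      if_neg (fun e : q ≠ p.swap ∧ l = q.swap ∧ c = p.swap => h3 (by rw [e.2.1, Sum.swap_swap]))]
    simp
  by_cases ha : l = a.swap
  · subst ha
    rw [if_neg (fun e : a.swap = p ∧ c = q => h2 e.1),
      if_neg (fun e : q ≠ p.swap ∧ a.swap = q.swap ∧ c = p.swap =>
        h4 (Sum.swap_leftInverse.injective e.2.1))]
    simp
  rw [if_neg (fun e : r = a ∧ l = b => hb e.2),
    if_neg (fun e : b ≠ a.swap ∧ r = b.swap ∧ l = a.swap => ha e.2.2)]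
  simp

/-- root elements which commute -/
theorem el_commute {a b p q : Idx m} (hab : a ≠ b) (hpq : p ≠ q) (h1 : b ≠ p) (h2 : a ≠ q) (h3 : a.swap ≠ p)
    (h4 : b.swap ≠ q) (s t : F) : Commute (el a b s) (el p q t) := by
  refine Subtype.ext ?_
  rw [Submonoid.coe_mul, Submonoid.coe_mul, coe_el hab, coe_el hpq, elMat, elMat]
  have e1 : (nMat a b : Matrix (Idx m) (Idx m) F) * nMat p q = 0 := nMat_mul_zero h1 h3 h4 h2
  have e2 : (nMat p q : Matrix (Idx m) (Idx m) F) * nMat a b = 0 :=
    nMat_mul_zero h2.symm (fun e => h3 (by rw [← e, Sum.swap_swap])) (fun e => h4 (by rw [← e, Sum.swap_swap]))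
      h1.symm
  simp only [mul_add, add_mul, one_mul, mul_one, smul_mul_smul_comm, e1, e2, smul_zero, add_zero]
  abel

/-- the commutator formula along a chain -/
theorem el_bracket {a b c : Idx m} (hab : a ≠ b) (hbc : b ≠ c) (hac : a ≠ c) (h1 : b ≠ a.swap) (h2 : c ≠ b.swap)
    (h3 : c ≠ a.swap) (s t : F) : el a b s * el b c t = el a c (s * t) * el b c t * el a b s := by
  have hs : ∀ x y : Idx m, x.swap = y ↔ x = y.swap := fun x y =>
    ⟨fun h => by rw [← h, Sum.swap_swap], fun h => by rw [h, Sum.swap_swap]⟩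
  refine ext_mulVec fun v => funext fun r => ?_
  simp only [Submonoid.coe_mul, ← Matrix.mulVec_mulVec, el_apply hab, el_apply hbc, el_apply hac]
  have := (swap_ne a).symm
  have := (swap_ne b).symm
  have := (swap_ne c).symm
  have := eps_mul_self (F := F) b
  simp [hab, hab.symm, hbc, hbc.symm, hac, hac.symm, h1, h1.symm, h2, h2.symm, h3, h3.symm, hs]
  split_ifs <;> grind

/-- conjugating a long root element -/
theorem el_long_bracket {a l : Fin m} (hal : a ≠ l) (s t : F) :
    el (Sum.inl a) (Sum.inl l) s * el (Sum.inl l) (Sum.inr l) t =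
      el (Sum.inl l) (Sum.inr l) t * el (Sum.inl a) (Sum.inr l) (s * t) * el (Sum.inl a) (Sum.inr a) (s ^ 2 * t) *
        el (Sum.inl a) (Sum.inl l) s := by
  refine ext_mulVec fun v => funext fun r => ?_
  have h1 : (Sum.inl a : Idx m) ≠ Sum.inl l := fun e => hal (Sum.inl_injective e)
  have h2 : (Sum.inl l : Idx m) ≠ Sum.inr l := Sum.inl_ne_inr
  have h3 : (Sum.inl a : Idx m) ≠ Sum.inr l := Sum.inl_ne_inr
  have h4 : (Sum.inl a : Idx m) ≠ Sum.inr a := Sum.inl_ne_inr
  simp only [Submonoid.coe_mul, ← Matrix.mulVec_mulVec, el_apply h1, el_apply h2, el_apply h3, el_apply h4]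
  rcases r with r | r <;> simp [eps, hal, hal.symm] <;> split_ifs <;> grind

theorem sj_of_lt {k : Fin m} (h : k.1 + 1 < m) : sj k = Sum.inl ⟨k.1 + 1, h⟩ := by rw [sj, dif_pos h]

theorem sj_of_not_lt {k : Fin m} (h : ¬ k.1 + 1 < m) : sj k = Sum.inr k := by rw [sj, dif_neg h]

theorem sj_inj : Function.Injective (sj (m := m)) := by
  intro a b h
  unfold sj at h
  split_ifs at h
  · simp at h
    exact Fin.ext h
  · exact Sum.inr_injective h

theorem linl_mem (a b : Fin m) (hab : a < b) (t : F) : el (Sum.inl a) (Sum.inl b) t ∈ genOf (xp (m := m) (F := F)) := by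
  suffices H : ∀ g : ℕ, ∀ a b : Fin m, (b : ℕ) = a + (g + 1) → ∀ t : F,
      el (Sum.inl a) (Sum.inl b) t ∈ genOf (xp (m := m) (F := F)) from
    H ((b : ℕ) - a - 1) a b (by have : (a : ℕ) < b := hab; omega) t
  intro g
  induction g with
  | zero =>
    intro a b e t
    have h : (a : ℕ) + 1 < m := by have := b.2; omega
    have : el (Sum.inl a) (Sum.inl b) t = xp a t := by
      rw [xp, si, sj_of_lt h, show b = ⟨a.1 + 1, h⟩ from Fin.ext (by simpa using e)]
    rw [this]
    exact genOf_mem _ a t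
  | succ g ih =>
    intro a b e t
    have h : (a : ℕ) + 1 < m := by have := b.2; omega
    have h' : ∀ s : F, el (Sum.inl a) (Sum.inl (⟨a.1 + 1, h⟩ : Fin m)) s = xp a s := fun s => by
      rw [xp, si, sj_of_lt h]
    have m2 := ih ⟨a.1 + 1, h⟩ b (by simp; omega) 1
    have hne : ∀ x y : Fin m, (x : ℕ) ≠ y → (Sum.inl x : Idx m) ≠ Sum.inl y := fun x y h e =>
      h (congrArg Fin.val (Sum.inl_injective e))
    have e1 := el_bracket (hne a ⟨a.1 + 1, h⟩ (by simp)) (hne ⟨a.1 + 1, h⟩ b (by simp; omega)) (hne a b (by omega))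
      (by simp) (by simp) (by simp) t 1
    rw [mul_one, mul_assoc, ← mul_inv_eq_iff_eq_mul] at e1
    rw [← e1, h']
    exact mul_mem (mul_mem (genOf_mem _ a t) m2) (inv_mem (mul_mem m2 (genOf_mem _ a t)))

theorem long_mem (hs : ∃ s : F, s ≠ 0 ∧ s ≠ 1) (a : Fin m) (t : F) :
    el (Sum.inl a) (Sum.inr a) t ∈ genOf (xp (m := m) (F := F)) := by
  by_cases h : (a : ℕ) + 1 < m
  swap
  · have : el (Sum.inl a) (Sum.inr a) t = xp a t := by rw [xp, si, sj_of_not_lt h]
    rw [this]
    exact genOf_mem _ a t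
  obtain ⟨l, hl⟩ : ∃ l : Fin m, (l : ℕ) + 1 = m := ⟨⟨m - 1, by omega⟩, by simp; omega⟩
  have hal : a < l := by show (a : ℕ) < l; omega
  have hl' : ∀ u : F, el (Sum.inl l) (Sum.inr l) u = xp l u := fun u => by rw [xp, si, sj_of_not_lt (by omega)]
  obtain ⟨K, hK⟩ : ∃ K, K = genOf (xp (m := m) (F := F)) := ⟨_, rfl⟩
  rw [← hK]
  have key : ∀ s u : F, el (Sum.inl a) (Sum.inr l) (s * u) * el (Sum.inl a) (Sum.inr a) (s ^ 2 * u) ∈ K := fun s u => by
    have e := el_long_bracket hal.ne s u
    rw [← mul_inv_eq_iff_eq_mul, mul_assoc, mul_assoc, ← inv_mul_eq_iff_eq_mul] at e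
    rw [← e, hK, hl']
    exact mul_mem (inv_mem (genOf_mem _ _ _)) (mul_mem (linl_mem a l hal s)
      (mul_mem (genOf_mem _ _ _) (inv_mem (linl_mem a l hal s))))
  obtain ⟨s, h0, h1⟩ := hs
  obtain ⟨u, hu⟩ : ∃ u, s * (s - 1) * u = t :=
    ⟨t / (s * (s - 1)), mul_div_cancel₀ t (mul_ne_zero h0 (sub_ne_zero.2 h1))⟩
  have k1 := key s u
  have k2 := key 1 (s * u)
  rw [one_mul, one_pow, one_mul] at k2
  have : el (Sum.inl a) (Sum.inr a) t = (el (Sum.inl a) (Sum.inr l) (s * u) * el (Sum.inl a) (Sum.inr a) (s * u))⁻¹ *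
      (el (Sum.inl a) (Sum.inr l) (s * u) * el (Sum.inl a) (Sum.inr a) (s ^ 2 * u)) := by
    rw [_root_.mul_inv_rev, mul_assoc, inv_mul_cancel_left, eq_inv_mul_iff_mul_eq, el_add]
    congr 1
    linear_combination -hu
  rw [this]
  exact mul_mem (inv_mem k2) k1

theorem inl_inr_mem (hs : ∃ s : F, s ≠ 0 ∧ s ≠ 1) (a b : Fin m) (t : F) :
    el (Sum.inl a) (Sum.inr b) t ∈ genOf (xp (m := m) (F := F)) := by
  suffices H : ∀ a b : Fin m, a ≤ b → ∀ t : F, el (Sum.inl a) (Sum.inr b) t ∈ genOf (xp (m := m) (F := F)) by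
    rcases le_total a b with h | h
    · exact H a b h t
    · rcases eq_or_lt_of_le h with rfl | h
      · exact H b b le_rfl t
      have e := el_partner (i := (Sum.inl b : Idx m)) (j := Sum.inr a) Sum.inl_ne_inr
        (fun e => h.ne (Sum.inr_injective e).symm) t
      rw [show el (Sum.inl a) (Sum.inr b) t = _ from e]
      exact H b a h.le _
  intro a b hab t
  rcases eq_or_lt_of_le hab with rfl | hab
  · exact long_mem hs a t
  have hlast : ∀ a l : Fin m, a < l → (l : ℕ) + 1 = m → ∀ t,
      el (Sum.inl a) (Sum.inr l) t ∈ genOf (xp (m := m) (F := F)) := by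
    intro a l hal hl t
    have e := el_long_bracket hal.ne (1 : F) t
    rw [one_mul, one_pow, one_mul, ← mul_inv_eq_iff_eq_mul, mul_assoc, mul_assoc, ← inv_mul_eq_iff_eq_mul,
      ← mul_inv_eq_iff_eq_mul] at e
    rw [← e, show el (Sum.inl l) (Sum.inr l) t = xp l t by rw [xp, si, sj_of_not_lt (by omega)]]
    exact mul_mem (mul_mem (inv_mem (genOf_mem _ _ _)) (mul_mem (linl_mem a l hal _)
      (mul_mem (genOf_mem _ _ _) (inv_mem (linl_mem a l hal _))))) (inv_mem (long_mem hs a t))
  by_cases hb : (b : ℕ) + 1 = m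
  · exact hlast a b hab hb t
  obtain ⟨l, hl⟩ : ∃ l : Fin m, (l : ℕ) + 1 = m := ⟨⟨m - 1, by have := b.2; omega⟩, by simp; have := b.2; omega⟩
  have hbl : b < l := by show (b : ℕ) < l; have := b.2; omega
  have hal : a < l := hab.trans hbl
  have m1 := linl_mem a l hal t
  have m2 : el (Sum.inl l) (Sum.inr b) (1 : F) ∈ genOf (xp (m := m) (F := F)) := by
    have e := el_partner (i := (Sum.inl b : Idx m)) (j := Sum.inr l) Sum.inl_ne_inr
      (fun e => hbl.ne (Sum.inr_injective e).symm) (1 : F)
    rw [show el (Sum.inl l) (Sum.inr b) (1 : F) = _ from e]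
    exact hlast b l hbl hl _
  have hne : ∀ {x y : Fin m}, x ≠ y → (Sum.inl x : Idx m) ≠ Sum.inl y := fun h e => h (Sum.inl_injective e)
  have e1 := el_bracket (hne hal.ne) (Sum.inl_ne_inr (a := l) (b := b)) Sum.inl_ne_inr
    (by simp) (by simp [hbl.ne]) (by simp [hab.ne']) t 1
  rw [mul_one, mul_assoc, ← mul_inv_eq_iff_eq_mul] at e1
  rw [← e1]
  exact mul_mem (mul_mem m1 m2) (inv_mem (mul_mem m2 m1))

theorem pos_mem (hs : ∃ s : F, s ≠ 0 ∧ s ≠ 1) {a b : Idx m} (h : hgt b < hgt a) (t : F) :
    el a b t ∈ genOf (xp (m := m) (F := F)) := by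
  rcases a with a | a <;> rcases b with b | b <;> simp only [hgt, Sum.elim_inl, Sum.elim_inr] at h
  · exact linl_mem a b (by show (a : ℕ) < b; omega) t
  · exact inl_inr_mem hs a b t
  · have := a.2; have := b.2; omega
  · have hba : b < a := by show (b : ℕ) < a; omega
    have e := el_partner (i := (Sum.inl b : Idx m)) (j := Sum.inl a) (fun e => hba.ne (Sum.inl_injective e))
      (by simp) t
    rw [show el (Sum.inr a) (Sum.inr b) t = _ from e]
    exact linl_mem b a hba _

/-- the element `J` -/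
def jEl : Matrix.symplecticGroup (Fin m) F := ⟨Matrix.J (Fin m) F, SymplecticGroup.J_mem _ _⟩

theorem isMon_jEl : IsMon (jEl (m := m) (F := F)) (Equiv.sumComm (Fin m) (Fin m)) eps := by
  refine ⟨fun a => rfl, fun r c => ?_⟩
  show Matrix.J (Fin m) F r c = _
  rw [J_entry]
  show _ = if r = c.swap then eps c else 0
  by_cases h : r = c.swap
  · subst h; simp [eps_swap]
  · rw [if_neg h, if_neg (fun e => h (by rw [e, Sum.swap_swap]))]

theorem jEl_conj {i j : Idx m} (hij : i ≠ j) (t : F) :
    jEl * el i j t * jEl⁻¹ = el i.swap j.swap (eps i / eps j * t) := isMon_jEl.conj_el hij t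

theorem el_partner_mem {X : Fin m → F → Matrix.symplecticGroup (Fin m) F} {i j : Idx m} (hij : i ≠ j)
    (h : ∀ t, el i j t ∈ genOf X) (t : F) : el j.swap i.swap t ∈ genOf X := by
  by_cases hl : j = i.swap
  · subst hl; rw [Sum.swap_swap]; exact h t
  · rw [el_partner hij hl]; exact h _

theorem jEl_xp (k : Fin m) (t : F) : jEl * xp k t * jEl⁻¹ ∈ genOf (xn (m := m) (F := F)) := by
  rw [xp, jEl_conj (si_ne_sj k)]
  exact el_partner_mem (si_ne_sj k).symm (fun t => genOf_mem _ k t) _

theorem jEl_xn (k : Fin m) (t : F) : jEl * xn k t * jEl⁻¹ ∈ genOf (xp (m := m) (F := F)) := by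
  rw [xn, jEl_conj (si_ne_sj k).symm]
  exact el_partner_mem (si_ne_sj k) (fun t => genOf_mem _ k t) _

theorem neg_mem (hs : ∃ s : F, s ≠ 0 ∧ s ≠ 1) {a b : Idx m} (h : hgt a < hgt b) (t : F) :
    el a b t ∈ genOf (xn (m := m) (F := F)) := by
  have hne : a.swap ≠ b.swap := fun e => h.ne (by rw [Sum.swap_leftInverse.injective e])
  have e := jEl_conj (F := F) hne (eps b.swap / eps a.swap * t)
  rw [Sum.swap_swap, Sum.swap_swap, ← mul_assoc, show eps a.swap / eps b.swap * (eps b.swap / eps a.swap) = (1 : F) by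
    have := eps_ne (F := F) a.swap; have := eps_ne (F := F) b.swap; field_simp, one_mul] at e
  rw [← e]
  exact conj_genOf_mem jEl_xp (pos_mem hs (by rw [hgt_swap, hgt_swap]; omega) _)

section Gen

variable [Finite F]

theorem gen (hs : ∃ s : F, s ≠ 0 ∧ s ≠ 1) :
    Subgroup.closure (Set.range (fun x : Fin m × F => xp x.1 x.2) ∪ Set.range fun x : Fin m × F => xn x.1 x.2) =
      (⊤ : Subgroup (Matrix.symplecticGroup (Fin m) F)) := by
  classical
  rcases Nat.eq_zero_or_pos m with rfl | hm
  · rw [eq_top_iff, ← CfsgLib.Classical.Symp.closure_sympTransvection_eq_top, Subgroup.closure_le]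
    rintro g -
    rw [show g = 1 from Subtype.ext (Matrix.ext fun r => r.elim (fun a => a.elim0) fun a => a.elim0)]
    exact one_mem _
  obtain ⟨K, hK⟩ : ∃ K, K = Subgroup.closure (Set.range (fun x : Fin m × F => xp x.1 x.2) ∪
      Set.range fun x : Fin m × F => xn x.1 x.2) := ⟨_, rfl⟩
  rw [← hK]
  obtain ⟨top, htop⟩ : ∃ top : Idx m, top = Sum.inl ⟨0, hm⟩ := ⟨_, rfl⟩
  have hU : ∀ {a b : Idx m}, hgt b < hgt a → ∀ t : F, el a b t ∈ K := fun h t =>
    hK ▸ Subgroup.closure_mono Set.subset_union_left (pos_mem hs h t)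
  have hD : ∀ {a b : Idx m}, hgt a < hgt b → ∀ t : F, el a b t ∈ K := fun h t =>
    hK ▸ Subgroup.closure_mono Set.subset_union_right (neg_mem hs h t)
  have hel : ∀ {a b : Idx m}, a ≠ b → ∀ t : F, el a b t ∈ K := fun {a b} h t =>
    (lt_or_gt_of_ne (hgt_inj.ne h)).elim (fun e => hD e t) fun e => hU e t
  have hn : ∀ k : Fin m, el (si k) (sj k) (1 : F) * el (sj k) (si k) (-1⁻¹) * el (si k) (sj k) 1 ∈ K := fun k =>
    mul_mem (mul_mem (hU (sj_lt k) _) (hD (sj_lt k) _)) (hU (sj_lt k) _)
  have move : ∀ n : ℕ, ∀ (v : Idx m → F) (c : Idx m), v c ≠ 0 → (∀ r, hgt r < hgt c → v r = 0) →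
      ((m : ℤ) - hgt c).toNat = n → ∃ g ∈ K, ∃ α : F,
        (g : Matrix (Idx m) (Idx m) F) *ᵥ v = α • Pi.single top 1 := by
    intro n
    induction n using Nat.strong_induction_on with
    | _ n ih =>
    intro v c hvc hlow hn'
    by_cases hc : c = top
    · refine ⟨1, one_mem _, v c, funext fun r => ?_⟩
      rw [OneMemClass.coe_one, Matrix.one_mulVec, Pi.smul_apply, Pi.single_apply, smul_eq_mul]
      by_cases hr : r = top
      · rw [hr, ← hc, if_pos rfl, mul_one]
      · rw [if_neg hr, mul_zero]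
        refine hlow r (lt_of_le_of_ne ?_ fun e => hr ((hgt_inj e).trans hc))
        rw [hc, htop]
        have := (hgt_bound r).2
        simp [hgt] at this ⊢
        omega
    obtain ⟨k, hk⟩ : ∃ k : Fin m, c = sj k ∨ c = (si k).swap := by
      rcases c with a | a
      · have ha : 0 < a.1 := Nat.pos_of_ne_zero fun e => hc (by rw [htop]; exact congrArg Sum.inl (Fin.ext e))
        refine ⟨⟨a.1 - 1, by have := a.2; omega⟩, Or.inl ?_⟩
        rw [sj, dif_pos (show a.1 - 1 + 1 < m by have := a.2; omega)]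
        exact congrArg Sum.inl (Fin.ext (show a.1 = a.1 - 1 + 1 by omega))
      · exact ⟨a, Or.inr rfl⟩
    obtain ⟨i', hi'⟩ : ∃ i', i' = sp k c := ⟨_, rfl⟩
    have hlt : hgt c < hgt i' := by
      rw [hi', hgt_sp]
      obtain ⟨q1, q2⟩ := adj k
      have := k.2
      have := hgt_ne c
      rcases hk with rfl | rfl
      · split_ifs <;> omega
      · rw [hgt_swap]; split_ifs <;> omega
    have hne : i' ≠ c := fun e => by rw [e] at hlt; omega
    obtain ⟨v', hv'⟩ : ∃ v', v' = (el i' c (-(v i') / v c) : Matrix (Idx m) (Idx m) F) *ᵥ v := ⟨_, rfl⟩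
    have hval : ∀ r, hgt r ≤ hgt c → v' r = v r := fun r hr => by
      rw [hv', el_apply hne]
      have h1 : r ≠ i' := fun e => by rw [e] at hr; omega
      rw [if_neg h1]
      split_ifs with h2
      · rw [hlow i'.swap (by rw [h2.2, hgt_swap] at hr; rw [hgt_swap]; omega)]; ring
      · ring
    have hi0 : v' i' = 0 := by
      rw [hv', el_apply hne, if_pos rfl, if_neg (fun h => h.1 (by rw [h.2, Sum.swap_swap]))]
      field_simp
      ring
    have hmon := isMon_n k (one_ne_zero (α := F))
    obtain ⟨w, hw⟩ : ∃ w, w = ((el (si k) (sj k) (1 : F) * el (sj k) (si k) (-1⁻¹) * el (si k) (sj k) 1 :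
        Matrix.symplecticGroup (Fin m) F) : Matrix (Idx m) (Idx m) F) *ᵥ v' := ⟨_, rfl⟩
    have hwlow : ∀ r, hgt r ≤ hgt c → w r = 0 := fun r hr => by
      obtain ⟨l, rfl⟩ := (sp k).surjective r
      rw [hw, hmon.apply]
      rcases sp_le k hk hr with h | h
      · rw [show sp k (sp k l) = l from rPerm_invol (si_ne_sj k) l] at h
        rcases eq_or_ne l c with rfl | hlc
        · rw [← hi'] at hr
          omega
        · rw [hval l h, hlow l (lt_of_le_of_ne h fun e => hlc (hgt_inj e)), mul_zero]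
      · rw [show sp k (sp k l) = l from rPerm_invol (si_ne_sj k) l, ← hi'] at h
        rw [h, hi0, mul_zero]
    have hwne : w i' ≠ 0 := by
      rw [hw, hi', hmon.apply, hval c le_rfl]
      exact mul_ne_zero (hmon.d_ne c) hvc
    obtain ⟨c', hc'w, hc'low⟩ : ∃ c', w c' ≠ 0 ∧ ∀ r, hgt r < hgt c' → w r = 0 := by
      obtain ⟨c', hc', hmin⟩ := (Finset.univ.filter fun r => w r ≠ 0).exists_min_image hgt
        ⟨i', by simp [hwne]⟩
      refine ⟨c', (Finset.mem_filter.1 hc').2, fun r hr => ?_⟩
      by_contra h0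
      have := hmin r (by simp [h0])
      omega
    have hgt' : hgt c < hgt c' := lt_of_not_ge fun h => hc'w (hwlow c' h)
    have hb := (hgt_bound c').2
    obtain ⟨g, hg, α, e⟩ := ih ((m : ℤ) - hgt c').toNat (by omega) w c' hc'w hc'low rfl
    refine ⟨g * (el (si k) (sj k) (1 : F) * el (sj k) (si k) (-1⁻¹) * el (si k) (sj k) 1) *
      el i' c (-(v i') / v c), mul_mem (mul_mem hg (hn k)) (hU hlt _), α, ?_⟩
    rw [Submonoid.coe_mul, Submonoid.coe_mul, ← Matrix.mulVec_mulVec, ← Matrix.mulVec_mulVec, ← hv', ← hw, e]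
  rw [eq_top_iff, ← CfsgLib.Classical.Symp.closure_sympTransvection_eq_top, Subgroup.closure_le]
  rintro A ⟨v, c, hA⟩
  by_cases hv : v = 0
  · rw [show A = 1 from Subtype.ext (by rw [hA, hv]; simp [Cfsg.sympTransvection])]
    exact one_mem _
  obtain ⟨r0, hr0⟩ := Function.ne_iff.1 hv
  obtain ⟨c0, hc0, hmin⟩ := (Finset.univ.filter fun r => v r ≠ 0).exists_min_image hgt
    ⟨r0, by simpa using hr0⟩
  obtain ⟨g, hg, α, e⟩ := move _ v c0 (Finset.mem_filter.1 hc0).2 (fun r hr => by
    by_contra h0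
    have := hmin r (by simp [h0])
    omega) rfl
  have hT : g * A * g⁻¹ = el top top.swap (-(c * α ^ 2) * eps top.swap) := by
    open CfsgLib.Classical.Symp in
    have e1 : A = (symplecticEquiv m F).symm (tr (sympBil_isAlt m F) v c) :=
      Subtype.ext (hA.trans (symplecticEquiv_symm_tr v c).symm)
    open CfsgLib.Classical.Symp in
    have e2 : g * A * g⁻¹ = (symplecticEquiv m F).symm
        (tr (sympBil_isAlt m F) (α • Pi.single top (1 : F)) c) := by
      apply (symplecticEquiv m F).injective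
      rw [map_mul, map_mul, map_inv, e1, MulEquiv.apply_symm_apply, conj_tr, symplecticEquiv_apply, e,
        MulEquiv.apply_symm_apply]
    rw [e2]
    refine ext_mulVec fun u => funext fun r => ?_
    open CfsgLib.Classical.Symp in
    rw [symplecticEquiv_symm_mulVec, tr_apply, sympBil_apply, el_apply (swap_ne top).symm,
      Pi.add_apply, Pi.smul_apply, Pi.smul_apply, smul_eq_mul, smul_eq_mul, Pi.single_apply, Cfsg.sympForm]
    have hdot : u ⬝ᵥ Matrix.J (Fin m) F *ᵥ (α • Pi.single top (1 : F)) = -eps top.swap * u top.swap * α := by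
      rw [Matrix.mulVec_smul, dotProduct_smul, Matrix.mulVec_single_one, smul_eq_mul]
      simp only [dotProduct, Matrix.col_apply, J_entry]
      rw [Finset.sum_eq_single top.swap]
      · rw [if_pos (Sum.swap_swap top).symm]; ring
      · intro b _ hb; rw [if_neg (fun e => hb (by rw [e, Sum.swap_swap])), mul_zero]
      · simp
    rw [hdot]
    simp only [ne_eq, not_true_eq_false, false_and, if_false, add_zero]
    split_ifs <;> ring
  have hmem : g * A * g⁻¹ ∈ K := hT ▸ hel (swap_ne top).symm _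
  rw [SetLike.mem_coe, show A = g⁻¹ * (g * A * g⁻¹) * g by group]
  exact mul_mem (mul_mem (inv_mem hg) hmem) hg

end Gen

/-- weight of the simple coroot on the first coordinates -/
def wf (i a : Fin m) : ℤ := (if (a : ℕ) = i then 1 else 0) - (if (a : ℕ) = i + 1 then 1 else 0)

/-- weight of the simple coroot -/
def wt (i : Fin m) : Idx m → ℤ := Sum.elim (wf i) fun a => -wf i a

theorem zpow_wt (i : Fin m) (c : F) (r : Idx m) :
    c ^ wt i r = if r = si i then c else if r = sj i then c⁻¹ else if r = (si i).swap then c⁻¹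
      else if r = (sj i).swap then c else 1 := by
  by_cases h : (i : ℕ) + 1 < m
  · rw [sj_of_lt h]
    rcases r with a | a <;> simp only [wt, wf, si, Sum.elim_inl, Sum.elim_inr, Sum.swap_inl, Sum.inl.injEq,
      Sum.inr.injEq, reduceCtorEq, if_false, Fin.ext_iff] <;> split_ifs <;>
      first | (exfalso; omega) | simp
  · rw [sj_of_not_lt h]
    rcases r with a | a <;> simp only [wt, wf, si, Sum.elim_inl, Sum.elim_inr, Sum.swap_inl, Sum.swap_inr,
      Sum.inl.injEq, Sum.inr.injEq, reduceCtorEq, if_false, Fin.ext_iff] <;> split_ifs <;>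
      first | (exfalso; omega) | simp | (have := a.2; omega)

/-- Cartan integers -/
def cart (i j : Fin m) : ℤ := wt i (si j) - wt i (sj j)

theorem tEl_mon [Finite F] (k : Fin m) {c : F} (hc : c ≠ 0) :
    IsMon (tEl xp xn k c) 1 (fun r => c ^ wt k r) := by
  have h := isMon_h k hc
  rw [show (fun r => c ^ wt k r) = _ from funext fun r => zpow_wt k c r]
  simp only [tEl, wEl, xp, xn, inv_neg, inv_one, neg_neg]
  exact h

theorem cart_natAbs (i k : Fin m) (h : k ≠ i) :
    (cart i k).natAbs ≤ (if (k : ℕ) = i + 1 then 2 else 0) + if (i : ℕ) = k + 1 then 1 else 0 := by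
  have h' : (k : ℕ) ≠ i := fun e => h (Fin.ext e)
  by_cases hk : (k : ℕ) + 1 < m
  · simp only [cart, sj_of_lt hk, si, wt, wf, Sum.elim_inl, if_neg h']
    split_ifs <;> simp <;> omega
  · simp only [cart, sj_of_not_lt hk, si, wt, wf, Sum.elim_inl, Sum.elim_inr, if_neg h']
    split_ifs <;> simp <;> omega

theorem cart_adj (p k : Fin m) (h : (k : ℕ) = p + 1 ∨ (p : ℕ) = k + 1) : cart p k ≠ 0 := by
  by_cases hk : (k : ℕ) + 1 < m
  · simp only [cart, sj_of_lt hk, si, wt, wf, Sum.elim_inl]
    split_ifs <;> omega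
  · simp only [cart, sj_of_not_lt hk, si, wt, wf, Sum.elim_inl, Sum.elim_inr]
    have := p.2
    split_ifs <;> omega

theorem connected (S : Finset (Fin m)) (hS : S.Nonempty) (h : ∀ p ∈ S, ∀ k : Fin m, cart p k ≠ 0 → k ∈ S) :
    S = Finset.univ := by
  obtain ⟨p, hp⟩ := hS
  have up : ∀ g : ℕ, ∀ k : Fin m, (k : ℕ) = p + g → k ∈ S := by
    intro g
    induction g with
    | zero => intro k e; rwa [show k = p from Fin.ext (by omega)]
    | succ g ih =>
      intro k e
      exact h ⟨p + g, by omega⟩ (ih _ rfl) k (cart_adj _ _ (Or.inl (by simp; omega)))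
  have down : ∀ g : ℕ, ∀ k : Fin m, (k : ℕ) + g = p → k ∈ S := by
    intro g
    induction g with
    | zero => intro k e; rwa [show k = p from Fin.ext (by omega)]
    | succ g ih =>
      intro k e
      exact h ⟨k + 1, by omega⟩ (ih _ (by simp; omega)) k (cart_adj _ _ (Or.inr rfl))
  refine Finset.eq_univ_of_forall fun k => ?_
  rcases le_total (p : ℕ) k with e | e
  · exact up ((k : ℕ) - p) k (by omega)
  · exact down ((p : ℕ) - k) k (by omega)

theorem sp_pos (i j : Fin m) (hji : j ≠ i) : hgt (sp i (sj j)) < hgt (sp i (si j)) := by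
  refine lt_of_le_of_ne (le_of_not_gt fun h => ?_) fun e =>
    si_ne_sj j ((sp i).injective (hgt_inj e)).symm
  rcases sp_flip i (sj_lt j) h with ⟨h1, -⟩ | ⟨-, h2⟩
  · exact hji (Sum.inl_injective h1)
  · by_cases hj : (j : ℕ) + 1 < m
    · rw [sj_of_lt hj] at h2; simp [si] at h2
    · rw [sj_of_not_lt hj] at h2
      exact hji (Sum.inr_injective h2)

theorem xn_lower (i : Fin m) (t : F) (r c : Idx m) (h : hgt c ≤ hgt r) :
    (xn i t : Matrix (Idx m) (Idx m) F) r c = (1 : Matrix (Idx m) (Idx m) F) r c := by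
  rw [xn, el_entry (si_ne_sj i).symm, nMat, if_neg, if_neg]
  · simp
  · rintro ⟨-, rfl, rfl⟩; rw [hgt_swap, hgt_swap] at h; have := sj_lt i; omega
  · rintro ⟨rfl, rfl⟩; have := sj_lt i; omega

theorem entP (i j : Fin m) (t : F) :
    (xp j t : Matrix (Idx m) (Idx m) F) (si i) (sj i) = if i = j then t else 0 := by
  rw [xp, el_entry (si_ne_sj j), Matrix.one_apply_ne (si_ne_sj i), nMat, zero_add]
  by_cases hij : i = j
  · subst hij
    rw [if_pos ⟨rfl, rfl⟩, if_neg, if_pos rfl]
    · ring
    · rintro ⟨h1, h2, -⟩; exact h1 (by rw [h2, Sum.swap_swap])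
  · rw [if_neg (fun e => hij (Sum.inl_injective e.1)), if_neg, if_neg hij]
    · ring
    · rintro ⟨-, -, h3⟩
      by_cases hi : (i : ℕ) + 1 < m
      · rw [sj_of_lt hi] at h3; simp [si] at h3
      · rw [sj_of_not_lt hi] at h3
        exact hij (Sum.inr_injective h3)

theorem entN (i j : Fin m) (t : F) :
    (xn j t : Matrix (Idx m) (Idx m) F) (sj i) (si i) = if i = j then t else 0 := by
  rw [xn, el_entry (si_ne_sj j).symm, Matrix.one_apply_ne (si_ne_sj i).symm, nMat, zero_add]
  by_cases hij : i = j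
  · subst hij
    rw [if_pos ⟨rfl, rfl⟩, if_neg, if_pos rfl]
    · ring
    · rintro ⟨h1, h2, -⟩; exact h1 (by rw [h2, Sum.swap_swap])
  · rw [if_neg (fun e => hij (Sum.inl_injective e.2)), if_neg, if_neg hij]
    · ring
    · rintro ⟨-, h2, -⟩
      by_cases hi : (i : ℕ) + 1 < m
      · rw [sj_of_lt hi] at h2; simp [si] at h2
      · rw [sj_of_not_lt hi] at h2
        exact hij (Sum.inr_injective h2)

variable [Finite F]

/-- the matrix model of the symplectic group -/
noncomputable abbrev pre (m : ℕ) (hs : ∃ s : F, s ≠ 0 ∧ s ≠ 1) : Pre F (Matrix.symplecticGroup (Fin m) F) where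
  I := Fin m
  ι := Idx m
  ρ := (Matrix.symplecticGroup (Fin m) F).subtype
  ρ_inj := Subtype.val_injective
  A := cart
  xP := xp
  xN := xn
  w := wt
  hgt := hgt
  ea := si
  eb := sj
  ν _ := 1
  n0 := jEl
  A_diag i := by
    by_cases hi : (i : ℕ) + 1 < m
    · simp [cart, wt, wf, si, sj_of_lt hi]
    · simp [cart, wt, wf, si, sj_of_not_lt hi]
  A_sum i := by
    calc _ ≤ ∑ k ∈ Finset.univ.erase i, ((if (k : ℕ) = i + 1 then 2 else 0) +
          (if (i : ℕ) = k + 1 then 1 else 0) : ℕ) :=
          Finset.sum_le_sum fun k hk => cart_natAbs i k (Finset.ne_of_mem_erase hk)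
      _ ≤ 2 + 1 := by
          rw [Finset.sum_add_distrib]
          refine Nat.add_le_add ?_ ?_ <;>
          · rw [← Finset.sum_filter, Finset.sum_const, smul_eq_mul]
            refine le_of_le_of_eq (Nat.mul_le_mul_right _ (Finset.card_le_one.2 fun x hx y hy => ?_)) (one_mul _)
            simp only [Finset.mem_filter] at hx hy
            exact Fin.ext (by omega)
  connected := connected
  xP_add i := el_add _ _
  xN_add i := el_add _ _
  nP i c hc t := by
    refine ((isMon_n i hc).conj_el (si_ne_sj i) t).trans ?_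
    rw [sp, rPerm_apply (si_ne_sj i), rPerm_apply (si_ne_sj i), if_pos rfl, if_neg (si_ne_sj i).symm, if_pos rfl]
    unfold rCoef
    rw [if_pos rfl, if_neg (si_ne_sj i).symm, if_pos rfl]
    show el (sj i) (si i) _ = el (sj i) (si i) _
    congr 1
    field_simp
  h_diag i c hc := by
    ext r s
    show ((tEl xp xn i c : Matrix.symplecticGroup (Fin m) F) : Matrix (Idx m) (Idx m) F) r s = _
    rw [(tEl_mon i hc).2, Matrix.diagonal_apply]
    by_cases h : r = s <;> simp [h]
  torP i j c t hc := by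
    rw [← mul_inv_eq_iff_eq_mul]
    refine ((tEl_mon i hc).conj_el (si_ne_sj j) t).trans ?_
    show el (si j) (sj j) _ = el (si j) (sj j) _
    congr 1
    rw [cart, zpow_sub₀ hc]
  torN i j c t hc := by
    rw [← mul_inv_eq_iff_eq_mul]
    refine ((tEl_mon i hc).conj_el (si_ne_sj j).symm t).trans ?_
    show el (sj j) (si j) _ = el (sj j) (si j) _
    congr 1
    rw [cart, neg_sub, zpow_sub₀ hc]
  comm i j hij s t := by
    refine el_commute (si_ne_sj i) (si_ne_sj j).symm (fun e => hij (sj_inj e))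
      (fun e => hij (Sum.inl_injective e)) ?_ ?_ s t
    · intro e
      by_cases hj : (j : ℕ) + 1 < m
      · rw [sj_of_lt hj] at e; simp [si] at e
      · rw [sj_of_not_lt hj] at e; exact hij (Sum.inr_injective e)
    · intro e
      by_cases hi : (i : ℕ) + 1 < m
      · rw [sj_of_lt hi] at e; simp [si] at e
      · rw [sj_of_not_lt hi] at e; exact hij (Sum.inl_injective e)
  nconjP i j hji c t hc := by
    have e : wEl xp xn i c * xp j t * (wEl xp xn i c)⁻¹ = _ := (isMon_n i hc).conj_el (si_ne_sj j) t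
    rw [e]
    exact pos_mem hs (sp_pos i j hji) _
  nconjN i j hji c t hc := by
    have e : wEl xp xn i c * xn j t * (wEl xp xn i c)⁻¹ = _ := (isMon_n i hc).conj_el (si_ne_sj j).symm t
    rw [e]
    exact neg_mem hs (sp_pos i j hji) _
  gen := gen hs
  upP i t r c h := el_mem_upper (sj_lt i) t r c h
  loN := xn_lower
  entP := entP
  entN i j t := by rw [one_mul]; exact entN i j t
  ν_ne _ := one_ne_zero
  e_lt := sj_lt
  gap i l := by
    rintro ⟨h1, h2⟩
    obtain ⟨a1, a2⟩ := adj i
    have := hgt_ne l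
    omega
  n0_xP := jEl_xp
  n0_xN i t := conj_inv_mem (fun x hx => conj_genOf_mem jEl_xp hx) (fun x hx => conj_genOf_mem jEl_xn hx)
    (genOf_mem _ i t)

omit [Finite F] in
theorem leviSp_transvection {a b : Fin m} (hab : a ≠ b) (t : F) :
    el (Sum.inl a) (Sum.inl b) t = ClassicalSections.leviSp m (Matrix.SpecialLinearGroup.transvection hab t) := by
  have hinv : (Matrix.SpecialLinearGroup.transvection hab t)⁻¹ = Matrix.SpecialLinearGroup.transvection hab (-t) := by
    refine inv_eq_of_mul_eq_one_right (Subtype.ext ?_)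
    show Matrix.transvection a b t * Matrix.transvection a b (-t) = 1
    rw [Matrix.transvection_mul_transvection_same a b hab, add_neg_cancel, Matrix.transvection_zero]
  refine Subtype.ext (Matrix.ext fun r c => ?_)
  show _ = Matrix.fromBlocks _ 0 0 ((Matrix.SpecialLinearGroup.transvection hab t)⁻¹).1ᵀ r c
  rw [hinv, el_entry (fun e => hab (Sum.inl_injective e)), nMat]
  show _ = Matrix.fromBlocks (Matrix.transvection a b t) 0 0 (Matrix.transvection a b (-t))ᵀ r c
  rcases r with r | r <;> rcases c with c | c <;>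
    simp [Matrix.transvection, Matrix.one_apply, Matrix.single_apply, eps, eq_comm]

omit [Finite F] in
theorem regM_transpose {k : ℕ} {x : Matrix (Fin k) (Fin k) F} (h : RegM x) : RegM xᵀ := by
  have e : ∀ n : ℕ, (xᵀ - 1) ^ n = ((x - 1) ^ n)ᵀ := fun n => by
    rw [Matrix.transpose_pow, Matrix.transpose_sub, Matrix.transpose_one]
  refine ⟨by rw [e, h.1, Matrix.transpose_zero], fun e' => h.2 ?_⟩
  rw [e] at e'
  exact Matrix.transpose_eq_zero.1 e'

/-- the Levi block -/
noncomputable def block (k : ℕ) (hs : ∃ s : F, s ≠ 0 ∧ s ≠ 1) : Block (pre (F := F) (k + 2) hs) where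
  B := Unit
  nb _ := k
  ι := (ClassicalSections.leviSp (k + 2)).comp
    (Pi.evalMonoidHom (fun _ : Unit => Matrix.SpecialLinearGroup (Fin (k + 2)) F) ())
  lam := Sum.elim (fun _ => 1) fun _ => -1
  m i := ((i : Fin (k + 2)) : ℕ) + 1
  hlam r := by
    have H : ∀ a : Fin (k + 2), ∑ i : Fin (k + 2), ((i : ℤ) + 1) * wf i a = 1 := fun a => by
      simp only [wf, mul_sub, Finset.sum_sub_distrib, mul_ite, mul_one, mul_zero]
      rw [Finset.sum_eq_single a]
      · rw [if_pos rfl]
        by_cases ha : (a : ℕ) = 0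
        · rw [Finset.sum_eq_zero, ha]
          · norm_num
          · intro i _; rw [if_neg (by omega)]
        · rw [Finset.sum_eq_single (⟨(a : ℕ) - 1, by omega⟩ : Fin (k + 2))]
          · rw [if_pos (by simp; omega)]
            simp
            omega
          · intro i _ hi
            rw [if_neg (fun e => hi (Fin.ext (by simp; omega)))]
          · simp
      · intro i _ hi
        rw [if_neg (fun e => hi (Fin.ext e.symm))]
      · simp
    rcases r with a | a
    · exact H a
    · show ∑ i : Fin (k + 2), ((i : ℤ) + 1) * -wf i a = -1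
      simp only [mul_neg, Finset.sum_neg_distrib, H]
  level x r c h := by
    rcases r with r | r <;> rcases c with c | c
    · exact absurd rfl h
    · rfl
    · rfl
    · exact absurd rfl h
  split i := by
    by_cases h : ((i : Fin (k + 2)) : ℕ) + 1 < k + 2
    · left
      intro t
      have hlt : (i : Fin (k + 2)) < ⟨(i : ℕ) + 1, h⟩ := by show (i : ℕ) < i + 1; omega
      refine ⟨⟨fun _ => Matrix.SpecialLinearGroup.transvection hlt.ne t,
          fun _ => upperM_transvection hlt t, ?_⟩,
        ⟨fun _ => Matrix.SpecialLinearGroup.transvection hlt.ne' t,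
          fun _ => lowerM_transvection hlt t, ?_⟩⟩
      · show xp i t = ClassicalSections.leviSp (k + 2) _
        rw [xp, si, sj_of_lt h]
        exact leviSp_transvection hlt.ne t
      · show xn i t = ClassicalSections.leviSp (k + 2) _
        rw [xn, si, sj_of_lt h]
        exact leviSp_transvection hlt.ne' t
    · right
      intro t
      constructor
      · intro r c hrc
        show (xp i t : Matrix (Idx (k + 2)) (Idx (k + 2)) F) r c = _
        rw [xp, el_entry (si_ne_sj i), sj_of_not_lt h, si, nMat, if_neg, if_neg]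
        · simp
        · rintro ⟨h1, -, -⟩; exact h1 rfl
        · rintro ⟨rfl, rfl⟩; simp at hrc
      · intro r c hrc
        show (xn i t : Matrix (Idx (k + 2)) (Idx (k + 2)) F) r c = _
        rw [xn, el_entry (si_ne_sj i).symm, sj_of_not_lt h, si, nMat, if_neg, if_neg]
        · simp
        · rintro ⟨h1, -, -⟩; exact h1 rfl
        · rintro ⟨rfl, rfl⟩; simp at hrc
  small g _ h := by
    refine Subtype.ext (Matrix.ext fun r c => h r c ?_ ?_) <;>
      rcases r with r | r <;> rcases c with c | c <;> simp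
  diag c := by
    refine ⟨fun _ => c (), fun x => ?_⟩
    rw [mul_inv_eq_iff_eq_mul]
    refine (pre (F := F) (k + 2) hs).ρ_inj ?_
    rw [map_mul, map_mul, Block.diag_prod]
    have hd : ∀ a : Fin (k + 2), ∏ i : Fin (k + 2), c () ^ wf i a = if a = 0 then c () else 1 := fun a => by
      simp only [wf, _root_.zpow_sub, Finset.prod_mul_distrib, Finset.prod_inv_distrib, apply_ite (fun z : ℤ => c () ^ z),
        zpow_one, zpow_zero]
      rw [Finset.prod_eq_single a]
      · rw [if_pos rfl]
        by_cases ha : (a : ℕ) = 0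
        · rw [Finset.prod_eq_one, inv_one, mul_one, if_pos (Fin.ext ha)]
          intro i _; rw [if_neg (by omega)]
        · rw [Finset.prod_eq_single (⟨(a : ℕ) - 1, by omega⟩ : Fin (k + 2)), if_pos (by simp; omega),
            mul_inv_cancel, if_neg (fun e => ha (congrArg Fin.val e))]
          · intro i _ hi
            rw [if_neg (fun e => hi (Fin.ext (by simp; omega)))]
          · simp
      · intro i _ hi
        rw [if_neg (fun e => hi (Fin.ext e.symm))]
      · simp
    let d : Fin (k + 2) → F := Function.update 1 0 ((c ()) : F)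
    let d' : Fin (k + 2) → F := Function.update 1 0 (((c ()) : F))⁻¹
    have hdiag : (Matrix.diagonal fun r : Idx (k + 2) => ((∏ i : Fin (k + 2), c () ^ wt i r : Fˣ) : F)) =
        Matrix.fromBlocks (Matrix.diagonal d) 0 0 (Matrix.diagonal d') := by
      rw [Matrix.fromBlocks_diagonal]
      congr 1
      funext r
      rcases r with a | a
      · show ((∏ i, c () ^ wf i a : Fˣ) : F) = d a
        rw [hd]
        by_cases ha : a = 0 <;> simp [d, ha]
      · show ((∏ i, c () ^ (-wf i a) : Fˣ) : F) = d' a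
        simp only [_root_.zpow_neg, Finset.prod_inv_distrib, hd]
        by_cases ha : a = 0 <;> simp [d', ha]
    have hinv : (conjDiag (c ()) (x ()))⁻¹ = conjDiag (c ()) (x ())⁻¹ := by
      refine inv_eq_of_mul_eq_one_right ?_
      rw [← conjDiag_mul, mul_inv_cancel]
      refine Subtype.ext ?_
      show Matrix.diagonal d * 1 * Matrix.diagonal d' = 1
      rw [mul_one, Matrix.diagonal_mul_diagonal, ← Matrix.diagonal_one]
      congr 1
      funext a
      by_cases ha : a = 0 <;> simp [d, d', ha]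
    show (Matrix.diagonal fun r : Idx (k + 2) => ((∏ i : Fin (k + 2), c () ^ wt i r : Fˣ) : F)) *
      Matrix.fromBlocks (x ()).1 0 0 ((x ())⁻¹).1ᵀ =
        Matrix.fromBlocks (conjDiag (c ()) (x ())).1 0 0 ((conjDiag (c ()) (x ()))⁻¹).1ᵀ * _
    rw [hinv, hdiag, Matrix.fromBlocks_multiply, Matrix.fromBlocks_multiply]
    have hdd : Matrix.diagonal d' * Matrix.diagonal d = (1 : Matrix (Fin (k + 2)) (Fin (k + 2)) F) := by
      rw [Matrix.diagonal_mul_diagonal, ← Matrix.diagonal_one]
      congr 1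
      funext a
      by_cases ha : a = 0 <;> simp [d, d', ha]
    simp only [Matrix.mul_zero, Matrix.zero_mul, add_zero, zero_add]
    congr 1
    · show _ = Matrix.diagonal d * (x ()).1 * Matrix.diagonal d' * Matrix.diagonal d
      rw [mul_assoc _ (Matrix.diagonal d'), hdd, mul_one]
    · show _ = (Matrix.diagonal d * ((x ())⁻¹).1 * Matrix.diagonal d')ᵀ * Matrix.diagonal d'
      have hdd' : Matrix.diagonal d * Matrix.diagonal d' = (1 : Matrix (Fin (k + 2)) (Fin (k + 2)) F) :=
        mul_eq_one_comm.1 hdd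
      rw [Matrix.transpose_mul, Matrix.transpose_mul, Matrix.diagonal_transpose, Matrix.diagonal_transpose,
        mul_assoc, mul_assoc, hdd', mul_one]
  invert := by
    obtain ⟨x, hx⟩ := exists_regM (F := F) k
    refine ⟨jEl, fun r c hne => ?_, fun _ => x, fun _ => Matrix.SpecialLinearGroup.transpose x⁻¹,
      fun _ => hx, fun _ => regM_transpose hx.inv, ?_⟩
    · have : c = r.swap := by
        by_contra e
        exact hne ((J_entry r c).trans (if_neg e))
      subst this
      rcases r with r | r <;> rfl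
    · rw [mul_inv_eq_iff_eq_mul]
      refine Subtype.ext ?_
      show Matrix.J (Fin (k + 2)) F * Matrix.fromBlocks x.1 0 0 (x⁻¹).1ᵀ =
        Matrix.fromBlocks (x⁻¹).1ᵀ 0 0 ((Matrix.SpecialLinearGroup.transpose x⁻¹)⁻¹).1ᵀ * Matrix.J (Fin (k + 2)) F
      have : ((Matrix.SpecialLinearGroup.transpose x⁻¹)⁻¹).1ᵀ = x.1 := by
        have e : (Matrix.SpecialLinearGroup.transpose x⁻¹)⁻¹ = Matrix.SpecialLinearGroup.transpose x :=
          inv_eq_of_mul_eq_one_right (Subtype.ext (by
            show (x⁻¹).1ᵀ * x.1ᵀ = 1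
            rw [← Matrix.transpose_mul, ← Matrix.SpecialLinearGroup.coe_mul, mul_inv_cancel]
            exact Matrix.transpose_one))
        rw [e]
        exact Matrix.transpose_transpose x.1
      rw [this, Matrix.J, Matrix.fromBlocks_multiply, Matrix.fromBlocks_multiply]
      simp

omit [Finite F] in
theorem exists_scalar [Fintype F] (hF : 9 ≤ Fintype.card F) : ∃ s : F, s ≠ 0 ∧ s ≠ 1 := by
  classical
  by_contra h
  push Not at h
  have : (Finset.univ : Finset F) ⊆ {0, 1} := fun s _ => by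
    rcases eq_or_ne s 0 with e | e
    · simp [e]
    · simp [h s e]
  have := (Finset.card_le_card this).trans Finset.card_le_two
  rw [Finset.card_univ] at this
  omega

/-- every element of `PSp` is a product of two members of one class -/
theorem square [Fintype F] (hF : 9 ≤ Fintype.card F) (m : ℕ) (hm : 2 ≤ m) :
    ∃ c : Cfsg.PSp m F, ∀ g, ∃ x y : Cfsg.PSp m F, g = (x * c * x⁻¹) * (y * c * y⁻¹) := by
  obtain ⟨k, rfl⟩ : ∃ k, m = k + 2 := ⟨m - 2, by omega⟩
  exact (block k (exists_scalar hF)).square hF (QuotientGroup.mk' _) (QuotientGroup.mk'_surjective _)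
    fun z hz => (QuotientGroup.eq_one_iff z).2 hz

end CfsgLib.Known.ClassSquare.Sp
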